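import Groth.Agent.StFib.Gerbe.Diagonal
import Groth.Agent.StFib.LocQDescent
import Groth.Agent.StFib.DiagLft
import Groth.Agent.StFib.GenInertia
import Groth.Agent.RelDiv.SmoothDesc
import Groth.Agent.AlgSpCov.FpqcBase

/-!
# A gerbe is smooth and surjective
-/

set_option autoImplicit false
set_option linter.unusedVariables false
set_option linter.style.haveILetI false
set_option backward.isDefEq.respectTransparency false
set_option backward.isDefEq.respectTransparency.types false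

universe u

open CategoryTheory CategoryTheory.Limits AlgebraicGeometry Opposite FibCat

noncomputable section

namespace Groth.Agent.StFib.Gerbe

variable {S : Scheme.{u}} {𝒳 𝒴 : AlgSt.Cat S}

local notation "K" => Scheme.fppfPrecoverage

/-- A representable surjective morphism is surjective on points. -/
theorem isSurjective_of_rep (h𝒳 : IsFibGrpd 𝒳.p) (h𝒴 : IsFibGrpd 𝒴.p) {g : 𝒳 ⥤ᵇ 𝒴}
    (hg : AlgSt.RepByAlgSpWith AlgSp.IsSurjectiveMor g) : AlgSt.IsSurjective g := by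
  intro P
  obtain ⟨T, -, t, y, rfl⟩ := exists_field_chart h𝒴 P
  obtain ⟨W, w, -, hws⟩ := atlasProp_smooth.atlas (repByAlgSp1_of_with hg T y)
  obtain ⟨b, ⟨ib⟩⟩ := exists_iso_overMap (BasedFunctor.comp w (fpFst y g))
  have : Surjective b.left := surjective_of_overMap (repByAlgSpWith_of_iso _ ib
    (repByAlgSpWith_comp good_surjective.bc good_surjective.comp good_surjective.det (isFibGrpd_overCat W)
      (isFibGrpd_fp (isFibGrpd_overCat T) h𝒳 h𝒴 y g) hws (repByAlgSpWith_fpFst _ y hg)))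
  obtain ⟨v, rfl⟩ := b.left.surjective t
  refine ⟨AlgSt.Points.ofChart (BasedFunctor.comp w (fpSnd y g)) v, ?_⟩
  rw [map_ofChart, ← ofChart_overMap]
  exact congrFun (ofChart_congr ((isoWhiskerLeft w (fpIso y g)).symm ≪≫ isoWhiskerRight ib y)) v

/-- The inertia of a morphism of algebraic stacks is an algebraic stack. -/
theorem isAlgStack_inertia (h𝒳 : AlgSt.IsAlgStack K 𝒳) (h𝒴 : AlgSt.IsAlgStack K 𝒴) (f : 𝒳 ⥤ᵇ 𝒴) :
    AlgSt.IsAlgStack K (inertia f) := by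
  have h2 := isAlgStack_fp h𝒴.isStack h𝒴.diag h𝒳 h𝒳 f f
  obtain ⟨E, hE, -, -⟩ := exists_inertia_equiv f
  obtain ⟨d, hd, -, -⟩ := isEquivOver_symm hE
  exact isAlgStack_of_isEquivOver K hd (isAlgStack_fp h2.isStack h2.diag h𝒳 h𝒳 (diag f) (diag f))

/-- A gerbe has sections after a flat surjective base change locally of finite presentation. -/
theorem exists_fppf_section (h𝒳 : AlgSt.IsAlgStack K 𝒳) (h𝒴 : AlgSt.IsAlgStack K 𝒴) {f : 𝒳 ⥤ᵇ 𝒴}
    (hf : Gerb.IsGerbeOver (QuotSh.J K S) f) {V : Over S} (y : overCat V ⥤ᵇ 𝒴) :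
    ∃ (V' : Over S) (c : V' ⟶ V) (x : overCat V' ⥤ᵇ 𝒳),
      Flat c.left ∧ LocallyOfFinitePresentation c.left ∧ Surjective c.left ∧
      Nonempty (BasedFunctor.comp x f ≅ BasedFunctor.comp (AlgSt.overMap c) y) := by
  have hM := isAlgStack_fp h𝒴.isStack h𝒴.diag (isAlgStack_of_repByAlgSp (repByAlgSp_overCat V)) h𝒳 y f
  obtain ⟨U, w, hw, hws⟩ := hM.atlas
  obtain ⟨h, ⟨ih⟩⟩ := exists_iso_overMap (BasedFunctor.comp w (fpFst y f))
  obtain ⟨T₀, hT₀, hloc⟩ := GalCohAux.GerbBasic.locObj hf.1 (y.obj (Over.mk (𝟙 V))) (U := V) (y.w_obj _)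
  obtain ⟨R, hR, hRT⟩ := AlgSp.exists_cover_of_mem hT₀
  obtain ⟨ι₀, X₀, f₀, rfl⟩ := R.exists_eq_ofArrows
  obtain ⟨hcov, hP⟩ := (Scheme.ofArrows_mem_precoverage_iff _).1 hR
  have hsec : ∀ i : ι₀, ∃ (V' : Over S) (c : V' ⟶ V) (σ : V' ⟶ U), σ ≫ h = c ∧ Flat c.left ∧
      LocallyOfFinitePresentation c.left ∧ ∀ z, z ∈ Set.range (f₀ i) → z ∈ Set.range c.left := by
    intro i
    haveI : Flat (f₀ i) := (hP i).1
    haveI : LocallyOfFinitePresentation (f₀ i) := (hP i).2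
    let t : Over.mk (f₀ i ≫ V.hom) ⟶ V := Over.homMk (f₀ i) rfl
    obtain ⟨x₀, m, hm⟩ := hloc t (hRT (f₀ i) ⟨i⟩)
    have hx₀ : 𝒳.p.obj x₀ = Over.mk (f₀ i ≫ V.hom) :=
      (f.w_obj x₀).symm.trans (IsHomLift.domain_eq 𝒴.p t m)
    obtain ⟨l₀, i₀, hi₀⟩ := exists_overFunctor h𝒳.isStack.1 x₀ hx₀
    let a : (overCat V).obj := (AlgSt.overMap t).obj (Over.mk (𝟙 _))
    have e : 𝒴.p.obj (y.obj a) = 𝒴.p.obj (f.obj x₀) :=
      (y.w_obj a).trans (IsHomLift.domain_eq 𝒴.p t m).symm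
    obtain ⟨χ, hχ, -⟩ := grpd_exists_vert_fac h𝒴.isStack.1 m (y.map (overToId a)) e (by
      rw [IsHomLift.fac' 𝒴.p t m, w_map]
      simp [a, overToId, AlgSt.overMap]
      rfl)
    obtain ⟨α, -⟩ := exists_overIso h𝒴.isStack.1 (BasedFunctor.comp (AlgSt.overMap t) y) (BasedFunctor.comp l₀ f)
      (χ ≪≫ (f.toFunctor.mapIso i₀).symm) (hχ.comp (Vert.inv (φ := f.toFunctor.mapIso i₀) (hi₀.map f)))
    let l := fpLift (F := y) (G := f) (AlgSt.overMap t) l₀ α
    obtain ⟨V', σ, c, ⟨k⟩, -, hc₁, hc₂, hc₃⟩ := exists_chart_fp hM w l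
    haveI : Flat c.left := hc₁ (repByAlgSpWith_flat_of_smooth hw)
    haveI : LocallyOfFinitePresentation c.left := hc₂ (repByAlgSpWith_lfp_of_smooth hw)
    haveI : Surjective c.left := hc₃ hws
    refine ⟨V', c ≫ t, σ, overMap_injective (overMapCompIso σ h ≪≫ isoWhiskerLeft (AlgSt.overMap σ) ih.symm ≪≫
      isoWhiskerRight k (fpFst y f) ≪≫ (overMapCompIso c t).symm),
      inferInstanceAs (Flat (c.left ≫ f₀ i)), inferInstanceAs (LocallyOfFinitePresentation (c.left ≫ f₀ i)), ?_⟩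
    rintro z ⟨z', rfl⟩
    obtain ⟨v, rfl⟩ := c.left.surjective z'
    exact ⟨v, rfl⟩
  choose V' c σ hσ hcfl hcfp hcr using hsec
  choose i hi using hcov
  let C : Scheme.{u} := ∐ fun z : V.left => (V' (i z)).left
  let cC : C ⟶ V.left := Sigma.desc fun z => (c (i z)).left
  let σC : C ⟶ U.left := Sigma.desc fun z => (σ (i z)).left
  have hσC : σC ≫ h.left = cC := Sigma.hom_ext _ _ fun z => by
    rw [Sigma.ι_desc_assoc, Sigma.ι_desc, ← Over.comp_left, hσ]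
  haveI : Surjective cC := ⟨fun z => by
    obtain ⟨v, hv⟩ := hcr (i z) z (hi z)
    exact ⟨Sigma.ι (fun z : V.left => (V' (i z)).left) z v, by
      rw [← Scheme.Hom.comp_apply, Sigma.ι_desc]; exact hv⟩⟩
  let T : Over S := Over.mk (cC ≫ V.hom)
  let cT : T ⟶ V := Over.homMk cC rfl
  let σT : T ⟶ U := Over.homMk σC (by
    change σC ≫ U.hom = cC ≫ V.hom
    rw [← hσC, Category.assoc, Over.w h])
  have hσT : σT ≫ h = cT := Over.OverMorphism.ext hσC
  refine ⟨T, cT, BasedFunctor.comp (AlgSt.overMap σT) (BasedFunctor.comp w (fpSnd y f)),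
    IsZariskiLocalAtSource.sigmaDesc fun z => hcfl (i z), IsZariskiLocalAtSource.sigmaDesc fun z => hcfp (i z),
    ‹Surjective cC›, ⟨?_⟩⟩
  rw [← hσT]
  exact isoWhiskerLeft (AlgSt.overMap σT) ((isoWhiskerLeft w (fpIso y f)).symm ≪≫ isoWhiskerRight ih y) ≪≫
    isoWhiskerRight (overMapCompIso σT h).symm y

/-- A gerbe over a scheme with a section is smooth. -/
theorem smooth_of_section {U : Over S} (h𝒳 : AlgSt.IsAlgStack K 𝒳) {π : 𝒳 ⥤ᵇ overCat U}
    (hπ : Gerb.IsGerbeOver (QuotSh.J K S) π) {x : overCat U ⥤ᵇ 𝒳}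
    (e : BasedFunctor.comp x π ≅ BasedFunctor.id (overCat U)) :
    AlgSt.LocQ (AlgSp.LocP @Smooth) π := by
  obtain ⟨h1, h2, h3⟩ := section_fppf_overCat h𝒳 hπ e
  obtain ⟨W, w, hw, hws⟩ := h𝒳.atlas
  obtain ⟨h, ⟨ih⟩⟩ := exists_iso_overMap (BasedFunctor.comp w π)
  obtain ⟨P, w₁, hw₁, hws₁⟩ := atlasProp_smooth.atlas (repByAlgSp1_chart h𝒳 x W w)
  have hM : IsFibGrpd (fp w x).p :=
    isFibGrpd_fp (isFibGrpd_overCat W) (isFibGrpd_overCat U) h𝒳.isStack.1 w x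
  obtain ⟨a, ⟨ia⟩⟩ := exists_iso_overMap (BasedFunctor.comp w₁ (fpFst w x))
  obtain ⟨b, ⟨ib⟩⟩ := exists_iso_overMap (BasedFunctor.comp w₁ (fpSnd w x))
  have step : ∀ Q : MorphismProperty (AlgSp.Sp S), Good Q → AlgSt.RepByAlgSpWith Q w₁ →
      AlgSt.RepByAlgSpWith Q x → AlgSt.RepByAlgSpWith Q (AlgSt.overMap a) :=
    fun Q hQ k1 k2 => repByAlgSpWith_of_iso _ ia (repByAlgSpWith_comp hQ.bc hQ.comp hQ.det
      (isFibGrpd_overCat P) hM k1 (repByAlgSpWith_fpFst Q w k2))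
  haveI : Smooth b.left := mem_scheme_of_overMap Groth.Agent.AlgSpCov.standard_smooth
    (repByAlgSpWith_of_iso _ ib (repByAlgSpWith_comp good_smooth.bc good_smooth.comp good_smooth.det
      (isFibGrpd_overCat P) hM hw₁ (repByAlgSpWith_fpSnd _ w hw)))
  haveI : Flat a.left := mem_scheme_of_overMap Groth.Agent.AlgSpCov.standard_flat
    (step _ (good_locP Groth.Agent.AlgSpCov.standard_flat) (repByAlgSpWith_flat_of_smooth hw₁) h1)
  haveI : LocallyOfFinitePresentation a.left :=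
    mem_scheme_of_overMap Groth.Agent.AlgSpCov.standard_locallyOfFinitePresentation
    (step _ (good_locP Groth.Agent.AlgSpCov.standard_locallyOfFinitePresentation)
      (repByAlgSpWith_lfp_of_smooth hw₁) h2)
  haveI : Surjective a.left := surjective_of_overMap (step _ good_surjective hws₁ h3)
  have hab : a ≫ h = b := overMap_injective (overMapCompIso a h ≪≫ isoWhiskerLeft (AlgSt.overMap a) ih.symm ≪≫
    isoWhiskerRight (isoWhiskerRight ia.symm w ≪≫ isoWhiskerLeft w₁ (fpIso w x) ≪≫ isoWhiskerRight ib x) π ≪≫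
      isoWhiskerLeft (AlgSt.overMap b) e)
  haveI : Smooth (a.left ≫ h.left) := by rw [← Over.comp_left, hab]; infer_instance
  have hsm : Smooth h.left := RelDiv.smooth_of_fppf_comp a.left h.left
  exact ⟨W, U, w, BasedFunctor.id _, h, ih, hw, hws,
    repByAlgSpWith_of_iso _ (overMapIdIso U) (repByAlgSpWith_overMap_locP Groth.Agent.AlgSpCov.standard_smooth
      (𝟙 U) (inferInstanceAs (Smooth (𝟙 U.left)))), locP_of_scheme_mem smoothLocalProp_smooth hsm⟩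

/-- A gerbe is surjective and smooth. -/
theorem smooth_surjective (h𝒳 : AlgSt.IsAlgStack K 𝒳) (h𝒴 : AlgSt.IsAlgStack K 𝒴) {f : 𝒳 ⥤ᵇ 𝒴}
    (hf : Gerb.IsGerbeOver (QuotSh.J K S) f) :
    AlgSt.IsSurjective f ∧ AlgSt.LocQ (AlgSp.LocP @Smooth) f := by
  obtain ⟨V, y, hy, hys⟩ := h𝒴.atlas
  obtain ⟨V', c, x, hc₁, hc₂, hc₃, ⟨i⟩⟩ := exists_fppf_section h𝒳 h𝒴 hf y
  refine ⟨fun p => ?_, ?_⟩
  · obtain ⟨v, rfl⟩ := ofChart_surjective h𝒴.isStack.1 hys p
    obtain ⟨v', rfl⟩ := c.left.surjective v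
    exact ⟨AlgSt.Points.ofChart x v', by rw [map_ofChart, ofChart_congr i, ofChart_overMap]⟩
  let y' := BasedFunctor.comp (AlgSt.overMap c) y
  have hrep : ∀ {Q : MorphismProperty (AlgSp.Sp S)}, Good Q → AlgSt.RepByAlgSpWith Q (AlgSt.overMap c) →
      AlgSt.RepByAlgSpWith Q y → AlgSt.RepByAlgSpWith Q y' := fun hQ k1 k2 =>
    repByAlgSpWith_comp hQ.bc hQ.comp hQ.det (isFibGrpd_overCat V') (isFibGrpd_overCat V) k1 k2
  have hV' := isAlgStack_of_repByAlgSp (repByAlgSp_overCat V')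
  have hM := isAlgStack_fp h𝒴.isStack h𝒴.diag hV' h𝒳 y' f
  let s : overCat V' ⥤ᵇ fp y' f := fpLift (BasedFunctor.id _) x i.symm
  have hq : AlgSt.LocQ (AlgSp.LocP @Smooth) (fpFst y' f) :=
    smooth_of_section hM (isGerbeOver_fpFst h𝒴.isStack.1 hf y') (x := s) (Iso.refl _)
  have hbase : AlgSp.IsLocalOnBase AlgSp.IsFppfCover (AlgSp.LocP (S := S) @Smooth) :=
    fppfLocal_of_fpqc (Groth.Agent.AlgSpCov.isLocalOnBase_locP Groth.Agent.AlgSpCov.standard_smooth.etaleLocal)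
  refine locQ_of_fppf _ (isSmoothLocalST_locP smoothLocalProp_smooth) hbase h𝒳 h𝒴 hV'
    (locQ_of_repByAlgSpWith (isSmoothLocalST_locP smoothLocalProp_flat) hV' h𝒴
      (hrep (good_locP Groth.Agent.AlgSpCov.standard_flat)
        (repByAlgSpWith_overMap_locP Groth.Agent.AlgSpCov.standard_flat c hc₁) (repByAlgSpWith_flat_of_smooth hy)))
    (locQ_of_repByAlgSpWith (isSmoothLocalST_locP smoothLocalProp_lfp) hV' h𝒴
      (hrep (good_locP Groth.Agent.AlgSpCov.standard_locallyOfFinitePresentation)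
        (repByAlgSpWith_overMap_locP Groth.Agent.AlgSpCov.standard_locallyOfFinitePresentation c hc₂)
        (repByAlgSpWith_lfp_of_smooth hy)))
    (isSurjective_of_rep (isFibGrpd_overCat V') h𝒴.isStack.1
      (hrep good_surjective (RatLift.repByAlgSpWith_overMap_surjective c) hys)) hq

end Groth.Agent.StFib.Gerbe

end
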