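import Groth.Agent.StFib.Gerbe.Smooth
import Groth.Agent.StFib.RepPoints
import Groth.Agent.AlgSpD.OnePoint
import Groth.Agent.Thick.FlatCancel

/-!
# Flat surjective morphisms from spectra of fields
-/

set_option autoImplicit false
set_option linter.unusedVariables false
set_option linter.style.haveILetI false
set_option backward.isDefEq.respectTransparency false
set_option backward.isDefEq.respectTransparency.types false

universe u

open CategoryTheory CategoryTheory.Limits AlgebraicGeometry Opposite FibCat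

noncomputable section

namespace Groth.Agent.StFib.Gerbe

variable {S : Scheme.{u}} {𝒳 𝒴 𝒵 : AlgSt.Cat S}

local notation "K" => Scheme.fppfPrecoverage

theorem subsingleton_points_overCat {T : Over S} [Subsingleton ↥T.left] :
    Subsingleton (AlgSt.Points (overCat T)) :=
  ⟨fun P Q => by
    rw [← ofChart_id_ptMap P, ← ofChart_id_ptMap Q, Subsingleton.elim (ptMap P) (ptMap Q)]⟩

theorem nonempty_points_overCat {T : Over S} [Nonempty ↥T.left] : Nonempty (AlgSt.Points (overCat T)) :=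
  ⟨AlgSt.Points.ofChart (BasedFunctor.id _) (Classical.arbitrary ↥T.left)⟩

instance subsingleton_field_mk (k : Type u) [Field k] (a : Spec (CommRingCat.of k) ⟶ S) :
    Subsingleton ↥(Over.mk a).left :=
  inferInstanceAs (Subsingleton (PrimeSpectrum k))

instance nonempty_field_mk (k : Type u) [Field k] (a : Spec (CommRingCat.of k) ⟶ S) :
    Nonempty ↥(Over.mk a).left :=
  inferInstanceAs (Nonempty (PrimeSpectrum k))

/-- A stack with a surjective morphism from the spectrum of a field has exactly one point. -/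
theorem points_of_surjective_fieldPt (h𝒵 : IsFibGrpd 𝒵.p) {k : Type u} [Field k]
    {a : Spec (CommRingCat.of k) ⟶ S} {z : overCat (Over.mk a) ⥤ᵇ 𝒵}
    (hzs : AlgSt.RepByAlgSpWith AlgSp.IsSurjectiveMor z) :
    Nonempty (AlgSt.Points 𝒵) ∧ Subsingleton (AlgSt.Points 𝒵) := by
  haveI := subsingleton_points_overCat (T := Over.mk a)
  haveI := nonempty_points_overCat (T := Over.mk a)
  exact ⟨⟨AlgSt.Points.map z (Classical.arbitrary _)⟩,
    (isSurjective_of_rep (isFibGrpd_overCat _) h𝒵 hzs).subsingleton⟩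

theorem isSurjective_of_subsingleton [Nonempty (AlgSt.Points 𝒳)] [Subsingleton (AlgSt.Points 𝒴)]
    (f : 𝒳 ⥤ᵇ 𝒴) : AlgSt.IsSurjective f :=
  fun _ => ⟨Classical.arbitrary _, Subsingleton.elim _ _⟩

theorem surjective_fieldPt (h𝒵 : AlgSt.IsAlgStack K 𝒵) [Subsingleton (AlgSt.Points 𝒵)] {k : Type u} [Field k]
    {a : Spec (CommRingCat.of k) ⟶ S} (z : overCat (Over.mk a) ⥤ᵇ 𝒵) :
    AlgSt.RepByAlgSpWith AlgSp.IsSurjectiveMor z :=
  haveI := nonempty_points_overCat (T := Over.mk a)
  (isSurjective_iff_rep (isAlgStack_of_repByAlgSp (repByAlgSp_overCat _)) h𝒵 (repByAlgSp1_chart h𝒵 z)).1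
    (isSurjective_of_subsingleton z)

/-- Flatness descends along flat surjective covers of the source. -/
theorem locP_flat_of_comp ⦃V A B : AlgSp.Sp S⦄ (hV : AlgSp.IsAlgSpace V) (hA : AlgSp.IsAlgSpace A)
    (hB : AlgSp.IsAlgSpace B) (b : V ⟶ A) (a : A ⟶ B) (hb : AlgSp.LocP @Flat b)
    (hbs : AlgSp.IsSurjectiveMor b) (hba : AlgSp.LocP @Flat (b ≫ a)) : AlgSp.LocP @Flat a :=
  AlgSpCov.locP_of_source (ι := PUnit.{u + 1}) (Xi := fun _ => V) (g := fun _ => b) hA (fun _ => hV)
    (fun κ U Y W c hc hcov h hP => Flat.of_stalkMap _ fun x => by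
      obtain ⟨i, w, rfl⟩ := hcov x
      haveI : Flat (c i) := hc i
      haveI : Flat (c i ≫ h) := hP i
      exact Thick.FlatCancel.flat_stalkMap_of_comp (c i) h w (Flat.stalkMap (c i) w)
        (Flat.stalkMap (c i ≫ h) w))
    (fun _ => hb) (fun x => ⟨PUnit.unit, hbs x⟩) (fun _ => hba)

/-- Every field point of a stack with a flat surjective field point is flat. -/
theorem flat_fieldPt (h𝒵 : AlgSt.IsAlgStack K 𝒵) {k : Type u} [Field k]
    {a : Spec (CommRingCat.of k) ⟶ S} {z : overCat (Over.mk a) ⥤ᵇ 𝒵}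
    (hzs : AlgSt.RepByAlgSpWith AlgSp.IsSurjectiveMor z) (hzf : AlgSt.RepByAlgSpWith (AlgSp.LocP @Flat) z)
    {k' : Type u} [Field k'] {a' : Spec (CommRingCat.of k') ⟶ S} (z' : overCat (Over.mk a') ⥤ᵇ 𝒵) :
    AlgSt.RepByAlgSpWith (AlgSp.LocP @Flat) z' := by
  have sF := Groth.Agent.AlgSpCov.standard_flat.{u}
  have hg := good_locP (S := S) sF
  obtain ⟨W, p, q, ⟨i⟩, -, hq₁, -, hq₃⟩ := exists_chart_fp h𝒵 z z'
  haveI : Flat q.left := hq₁ hzf
  haveI : Surjective q.left := hq₃ hzs
  have hp : Flat p.left := (AlgSpD.redZeroDim_spec_field k).flat p.left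
  refine repByAlgSpWith_of_comp_cover hg.bc hg.det hg locP_flat_of_comp (isFibGrpd_overCat W)
    (isFibGrpd_overCat _) (repByAlgSp1_chart h𝒵 z') (x := AlgSt.overMap q)
    (repByAlgSpWith_overMap_locP sF q inferInstance) (RatLift.repByAlgSpWith_overMap_surjective q) ?_
  exact repByAlgSpWith_of_iso _ i (repByAlgSpWith_comp hg.bc hg.comp hg.det (isFibGrpd_overCat W)
    (isFibGrpd_overCat _) (repByAlgSpWith_overMap_locP sF p hp) hzf)

end Groth.Agent.StFib.Gerbe

end
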