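import Groth.Agent.StFib.Gerbe.Singleton
import Groth.Agent.CurveDVR.Stalk
import Groth.Agent.RegLoc.Homological
import Groth.Agent.AlgSpCov.FppfDescentProps

/-!
# Reduced algebraic stacks with a single point
-/

set_option autoImplicit false
set_option linter.unusedVariables false
set_option linter.style.haveILetI false
set_option backward.isDefEq.respectTransparency false
set_option backward.isDefEq.respectTransparency.types false

universe u

open CategoryTheory CategoryTheory.Limits AlgebraicGeometry Opposite FibCat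

noncomputable section

namespace Groth.Agent.StFib.Gerbe

variable {S : Scheme.{u}} {𝒵 : AlgSt.Cat S}

local notation "K" => Scheme.fppfPrecoverage

section Chart

variable (h𝒵 : AlgSt.IsAlgStack K 𝒵) {k : Type u} [Field k] {a : Spec (CommRingCat.of k) ⟶ S}
  {z : overCat (Over.mk a) ⥤ᵇ 𝒵}

/-- A smooth chart is covered by a scheme smooth over the field of a surjective flat field point. -/
theorem exists_chart_field {U : Over S} {x : overCat U ⥤ᵇ 𝒵}
    (hx : AlgSt.RepByAlgSpWith (AlgSp.LocP @Smooth) x)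
    (hzs : AlgSt.RepByAlgSpWith AlgSp.IsSurjectiveMor z)
    (hzf : AlgSt.RepByAlgSpWith (AlgSp.LocP @Flat) z) (h𝒵 : AlgSt.IsAlgStack K 𝒵) :
    ∃ (W : Over S) (p : W ⟶ Over.mk a) (q : W ⟶ U), Smooth p.left ∧ Flat q.left ∧ Surjective q.left ∧
      (AlgSt.RepByAlgSpWith (AlgSp.LocP @LocallyOfFinitePresentation) z →
        LocallyOfFinitePresentation q.left) := by
  obtain ⟨W, w, hw, hws⟩ := atlasProp_smooth.atlas (repByAlgSp1_chart h𝒵 z U x)
  have hM : IsFibGrpd (fp x z).p :=
    isFibGrpd_fp (isFibGrpd_overCat U) (isFibGrpd_overCat _) h𝒵.isStack.1 x z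
  obtain ⟨q, ⟨iq⟩⟩ := exists_iso_overMap (BasedFunctor.comp w (fpFst x z))
  obtain ⟨p, ⟨ip⟩⟩ := exists_iso_overMap (BasedFunctor.comp w (fpSnd x z))
  have step : ∀ Q : MorphismProperty (AlgSp.Sp S), Good Q → AlgSt.RepByAlgSpWith Q w →
      AlgSt.RepByAlgSpWith Q z → AlgSt.RepByAlgSpWith Q (AlgSt.overMap q) :=
    fun Q hQ h1 h2 => repByAlgSpWith_of_iso _ iq (repByAlgSpWith_comp hQ.bc hQ.comp hQ.det
      (isFibGrpd_overCat W) hM h1 (repByAlgSpWith_fpFst Q x h2))
  refine ⟨W, p, q, ?_, ?_, surjective_of_overMap (step _ good_surjective hws hzs), fun hzp => ?_⟩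
  · exact mem_scheme_of_overMap Groth.Agent.AlgSpCov.standard_smooth
      (repByAlgSpWith_of_iso _ ip (repByAlgSpWith_comp good_smooth.bc good_smooth.comp good_smooth.det
        (isFibGrpd_overCat W) hM hw (repByAlgSpWith_fpSnd _ x hx)))
  · exact mem_scheme_of_overMap Groth.Agent.AlgSpCov.standard_flat
      (step _ (good_locP Groth.Agent.AlgSpCov.standard_flat) (repByAlgSpWith_flat_of_smooth hw) hzf)
  · exact mem_scheme_of_overMap Groth.Agent.AlgSpCov.standard_locallyOfFinitePresentation
      (step _ (good_locP Groth.Agent.AlgSpCov.standard_locallyOfFinitePresentation)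
        (repByAlgSpWith_lfp_of_smooth hw) hzp)

include h𝒵

theorem smoothLocally_reduced_of_fieldPt (hzs : AlgSt.RepByAlgSpWith AlgSp.IsSurjectiveMor z)
    (hzf : AlgSt.RepByAlgSpWith (AlgSp.LocP @Flat) z) :
    AlgSt.SmoothLocally (fun T => IsReduced T) 𝒵 := by
  intro U x hx
  obtain ⟨W, p, q, hp, hq₁, hq₂, -⟩ := exists_chart_field hx hzs hzf h𝒵
  haveI : IsReduced (Over.mk a).left := inferInstanceAs (IsReduced (Spec (CommRingCat.of k)))
  haveI : IsReduced W.left := Groth.Agent.AlgSpCov.isReduced_of_smooth p.left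
  exact AlgSp.SchImageRep.isReduced_of_flat_surjective q.left

theorem smoothLocally_noetherian_of_fieldPt (hzs : AlgSt.RepByAlgSpWith AlgSp.IsSurjectiveMor z)
    (hzf : AlgSt.RepByAlgSpWith (AlgSp.LocP @Flat) z)
    (hzp : AlgSt.RepByAlgSpWith (AlgSp.LocP @LocallyOfFinitePresentation) z) :
    AlgSt.SmoothLocally (fun T => IsLocallyNoetherian T) 𝒵 := by
  intro U x hx
  obtain ⟨W, p, q, hp, hq₁, hq₂, hq₃⟩ := exists_chart_field hx hzs hzf h𝒵
  haveI := hq₃ hzp
  haveI : IsLocallyNoetherian (Over.mk a).left :=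
    inferInstanceAs (IsLocallyNoetherian (Spec (CommRingCat.of k)))
  haveI : IsLocallyNoetherian W.left := LocallyOfFiniteType.isLocallyNoetherian p.left
  exact AlgSpD.isLocallyNoetherian_of_fppf q.left

theorem smoothLocally_regular_of_fieldPt (hzs : AlgSt.RepByAlgSpWith AlgSp.IsSurjectiveMor z)
    (hzf : AlgSt.RepByAlgSpWith (AlgSp.LocP @Flat) z)
    (hN : AlgSt.SmoothLocally (fun T => IsLocallyNoetherian T) 𝒵) :
    AlgSt.SmoothLocally (fun T => ∀ t : T, IsRegularLocalRing (T.presheaf.stalk t)) 𝒵 := by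
  intro U x hx t
  haveI : IsLocallyNoetherian U.left := hN U x hx
  obtain ⟨W, p, q, hp, hq₁, hq₂, -⟩ := exists_chart_field hx hzs hzf h𝒵
  obtain ⟨w, rfl⟩ := q.left.surjective t
  let f : W.left ⟶ Spec (CommRingCat.of k) := p.left
  haveI : Smooth f := hp
  haveI : IsRegularLocalRing (W.left.presheaf.stalk w) := CurveDVR.isRegularLocalRing_stalk f w
  letI : Algebra (U.left.presheaf.stalk (q.left w)) (W.left.presheaf.stalk w) :=
    (q.left.stalkMap w).hom.toAlgebra
  haveI : Module.Flat (U.left.presheaf.stalk (q.left w)) (W.left.presheaf.stalk w) := Flat.stalkMap q.left w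
  haveI : IsLocalHom (algebraMap (U.left.presheaf.stalk (q.left w)) (W.left.presheaf.stalk w)) :=
    inferInstanceAs (IsLocalHom (q.left.stalkMap w).hom)
  exact RegLoc.Homological.isRegularLocalRing_of_flat (R := U.left.presheaf.stalk (q.left w)) (W.left.presheaf.stalk w)

end Chart

/-- A field-valued point at a point whose local ring is a field is flat. -/
theorem flat_of_isField {k : Type u} [Field k] {U : Scheme.{u}} (c : Spec (CommRingCat.of k) ⟶ U)
    (η : U) (hη : ∀ x, c x = η) (hf : IsField ↥(U.presheaf.stalk η)) : Flat c :=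
  Flat.of_stalkMap _ fun x => by
    let := ((hη x).symm ▸ hf : IsField ↥(U.presheaf.stalk (c x))).toField
    let := (c.stalkMap x).hom.toAlgebra
    exact (inferInstance : Module.Flat ↥(U.presheaf.stalk (c x)) ↥((Spec (CommRingCat.of k)).presheaf.stalk x))

/-- A reduced stack with one point has a flat surjective field point locally of finite type. -/
theorem exists_lft_fieldPt (h𝒵 : AlgSt.IsAlgStack K 𝒵)
    (hred : AlgSt.SmoothLocally (fun T => IsReduced T) 𝒵)
    [Nonempty (AlgSt.Points 𝒵)] [Subsingleton (AlgSt.Points 𝒵)] :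
    ∃ (k : Type u) (_ : Field k) (a : Spec (CommRingCat.of k) ⟶ S) (z : overCat (Over.mk a) ⥤ᵇ 𝒵),
      AlgSt.RepByAlgSpWith (AlgSp.LocP @LocallyOfFiniteType) z ∧
      AlgSt.RepByAlgSpWith AlgSp.IsSurjectiveMor z ∧ AlgSt.RepByAlgSpWith (AlgSp.LocP @Flat) z ∧
      (AlgSt.SmoothLocally (fun T => IsLocallyNoetherian T) 𝒵 →
        AlgSt.RepByAlgSpWith (AlgSp.LocP @LocallyOfFinitePresentation) z) := by
  obtain ⟨U, x, hx, hxs⟩ := h𝒵.atlas
  haveI : IsReduced U.left := hred U x hx
  obtain ⟨u₀, -⟩ := ofChart_surjective h𝒵.isStack.1 hxs (Classical.arbitrary _)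
  have sF := Groth.Agent.AlgSpCov.standard_flat.{u}
  have sT := Groth.Agent.AlgSpCov.standard_locallyOfFiniteType.{u}
  have sP := Groth.Agent.AlgSpCov.standard_locallyOfFinitePresentation.{u}
  -- the residue field at a point of the atlas
  let T : ↥U.left → Over S := fun u => Over.mk (U.left.fromSpecResidueField u ≫ U.hom)
  let c : ∀ u, T u ⟶ U := fun u => Over.homMk (U.left.fromSpecResidueField u) rfl
  let z : ∀ u, overCat (T u) ⥤ᵇ 𝒵 := fun u => BasedFunctor.comp (AlgSt.overMap (c u)) x
  have hcomp : ∀ {Q : MorphismProperty (AlgSp.Sp S)}, Good Q → ∀ u,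
      AlgSt.RepByAlgSpWith Q (AlgSt.overMap (c u)) → AlgSt.RepByAlgSpWith Q x →
        AlgSt.RepByAlgSpWith Q (z u) := fun hQ u h1 h2 =>
    repByAlgSpWith_comp hQ.bc hQ.comp hQ.det (isFibGrpd_overCat _) (isFibGrpd_overCat U) h1 h2
  -- the generic point of a component
  obtain ⟨η, hη, -⟩ := Groth.Agent.FlatMor.GenericPts.exists_generic_specializes u₀
  have hfield : IsField ↥(U.left.presheaf.stalk η) := by
    have : Ring.KrullDimLE 0 ↥(U.left.presheaf.stalk η) :=
      Ring.krullDimLE_iff.2 ((AlgSp.stalkDim_zero_iff η).2 hη).le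
    have : (IsLocalRing.maximalIdeal ↥(U.left.presheaf.stalk η)) = ⊥ := by
      rw [← le_bot_iff, ← nilradical_eq_bot_iff.2 (inferInstance : _root_.IsReduced ↥(U.left.presheaf.stalk η))]
      rw [nilradical_eq_sInf]
      refine le_sInf fun J hJ => ?_
      have hJ' : J.IsPrime := hJ
      exact (IsLocalRing.eq_maximalIdeal (Ideal.IsPrime.isMaximal' hJ')).ge
    exact IsLocalRing.isField_iff_maximalIdeal_eq.2 this
  have hηf : Flat (c η).left :=
    flat_of_isField (k := U.left.residueField η) (U.left.fromSpecResidueField η) η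
      (fun t => Scheme.fromSpecResidueField_apply _ t) hfield
  have hηs : AlgSt.RepByAlgSpWith AlgSp.IsSurjectiveMor (z η) :=
    surjective_fieldPt h𝒵 (k := U.left.residueField η) (z η)
  have hηflat : AlgSt.RepByAlgSpWith (AlgSp.LocP @Flat) (z η) :=
    hcomp (good_locP sF) η (repByAlgSpWith_overMap_locP sF (c η) hηf) (repByAlgSpWith_flat_of_smooth hx)
  -- a closed point of an affine open
  obtain ⟨O, hO, hu₀, -⟩ := exists_isAffineOpen_mem_and_subset (x := u₀) (U := (⊤ : U.left.Opens)) trivial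
  haveI : IsAffine O.toScheme := hO
  haveI : CompactSpace O.toScheme := inferInstance
  haveI : Nonempty O.toScheme := ⟨⟨u₀, hu₀⟩⟩
  obtain ⟨v, -, hv⟩ := (isClosed_univ (X := O.toScheme)).exists_closed_singleton Set.univ_nonempty
  have hcv : LocallyOfFiniteType (c (O.ι v)).left := by
    change LocallyOfFiniteType (U.left.fromSpecResidueField (O.ι v))
    haveI : IsClosedImmersion (O.toScheme.fromSpecResidueField v) :=
      IsClosedImmersion.of_isPreimmersion _ (by rw [Scheme.range_fromSpecResidueField]; exact hv)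
    haveI : LocallyOfFiniteType (O.toScheme.fromSpecResidueField v ≫ O.ι) := inferInstance
    have e : U.left.fromSpecResidueField (O.ι v) =
        inv (Spec.map (O.ι.residueFieldMap v)) ≫ O.toScheme.fromSpecResidueField v ≫ O.ι := by
      rw [IsIso.eq_inv_comp, Scheme.Hom.SpecMap_residueFieldMap_fromSpecResidueField]
    rw [e]; infer_instance
  refine ⟨U.left.residueField (O.ι v), inferInstance, _, z (O.ι v), ?_, ?_, ?_, fun hN => ?_⟩
  · exact hcomp (good_locP sT) _ (repByAlgSpWith_overMap_locP sT _ hcv)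
      (repByAlgSpWith_mono (repByAlgSpWith_lfp_of_smooth hx) fun F V m hm A B a b k ha hb e =>
        have : LocallyOfFinitePresentation k.left := hm a b k ha hb e
        inferInstance)
  · exact surjective_fieldPt h𝒵 (k := U.left.residueField (O.ι v)) _
  · exact flat_fieldPt h𝒵 (k := U.left.residueField η) (k' := U.left.residueField (O.ι v)) hηs hηflat _
  · haveI : IsLocallyNoetherian U.left := hN U x hx
    exact hcomp (good_locP sP) _ (repByAlgSpWith_overMap_locP sP _
      (LocallyOfFinitePresentation.iff_locallyOfFiniteType.2 hcv)) (repByAlgSpWith_lfp_of_smooth hx)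

end Groth.Agent.StFib.Gerbe

end
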