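import Groth.Agent.StFib.Gerbe.Smooth
import Groth.Agent.StFib.UnivInj

/-!
# Gerbes and flat surjective morphisms locally of finite presentation with such diagonals
-/

set_option autoImplicit false
set_option linter.unusedVariables false
set_option backward.isDefEq.respectTransparency false
set_option backward.isDefEq.respectTransparency.types false

universe u

open CategoryTheory CategoryTheory.Limits AlgebraicGeometry Opposite FibCat

noncomputable section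

namespace Groth.Agent.StFib.Gerbe

variable {S : Scheme.{u}} {𝒳 𝒴 : AlgSt.Cat S}

local notation "K" => Scheme.fppfPrecoverage

/-- Objects lift locally along flat surjective morphisms locally of finite presentation. -/
theorem locSurjObj_of_fppf (h𝒳 : AlgSt.IsAlgStack K 𝒳) (h𝒴 : AlgSt.IsAlgStack K 𝒴) {f : 𝒳 ⥤ᵇ 𝒴}
    (hs : AlgSt.IsSurjective f) (h₁ : AlgSt.LocQ (AlgSp.LocP @Flat) f)
    (h₂ : AlgSt.LocQ (AlgSp.LocP @LocallyOfFinitePresentation) f) :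
    Gerb.LocSurjObj (QuotSh.J K S) f := by
  intro o
  obtain ⟨z, i, hi⟩ := exists_overFunctor h𝒴.isStack.1 o rfl
  obtain ⟨R, hR, hlift⟩ := exists_locally_lift_locQ h𝒴 h𝒳 h₁ h₂ hs _ z
  refine ⟨R, hR, fun V f' hf' => ?_⟩
  obtain ⟨t, ⟨α⟩⟩ := hlift f' hf'
  let m := (isoApp α (Over.mk (𝟙 V))).hom ≫ z.map (overToId ((AlgSt.overMap f').obj (Over.mk (𝟙 V)))) ≫ i.hom
  refine ⟨t.obj (Over.mk (𝟙 V)), m, ?_⟩
  have hd : 𝒴.p.obj (f.obj (t.obj (Over.mk (𝟙 V)))) = V := (f.w_obj _).trans (t.w_obj _)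
  refine IsHomLift.of_fac' 𝒴.p f' m hd rfl ?_
  simp only [m, Functor.map_comp]
  rw [(vert_isoApp α (Over.mk (𝟙 V))).2, hi.2, w_map]
  simp [overToId, AlgSt.overMap]
  rfl

/-- Morphisms lift locally when the diagonal is flat, surjective and locally of finite presentation. -/
theorem locSurjHom_of_fppf_diag (h𝒳 : AlgSt.IsAlgStack K 𝒳) (h𝒴 : AlgSt.IsAlgStack K 𝒴) {f : 𝒳 ⥤ᵇ 𝒴}
    (hs : AlgSt.IsSurjective (diag f)) (h₁ : AlgSt.LocQ (AlgSp.LocP @Flat) (diag f))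
    (h₂ : AlgSt.LocQ (AlgSp.LocP @LocallyOfFinitePresentation) (diag f)) :
    Gerb.LocSurjHom (QuotSh.J K S) f := by
  intro x x' b hb
  have hM := isAlgStack_fp h𝒴.isStack h𝒴.diag h𝒳 h𝒳 f f
  have hbv : Vert b := vert_of_isHomLift hb
  have := hbv.isIso h𝒴.isStack.1
  let o : (fp f f).obj := fpMk x x' (asIso b) hbv
  obtain ⟨R, hR, hlift⟩ := locSurjObj_of_fppf h𝒳 hM hs h₁ h₂ o
  refine ⟨R, hR, fun V f' hf' => ?_⟩
  obtain ⟨c, m, hm⟩ := hlift f' hf'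
  have hc : 𝒳.p.obj c = V := ((diag f).w_obj c).symm.trans (IsHomLift.domain_eq (fp f f).p f' m)
  have hfst : 𝒳.p.map m.hom.fst = eqToHom hc ≫ f' := by
    have := IsHomLift.fac' (fp f f).p f' m
    refine this.trans ?_
    simp
  refine ⟨c, m.hom.fst, m.hom.snd, IsHomLift.of_fac' 𝒳.p f' _ hc rfl (by simpa using hfst),
    IsHomLift.of_fac' 𝒳.p f' _ hc ?_ ?_, ?_⟩
  · exact (fp_base_eq o).symm
  · rw [fp_snd_map m, hfst]
    simp
  · have h := m.hom.w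
    change f.map m.hom.fst ≫ b = 𝟙 _ ≫ f.map m.hom.snd at h
    simpa using h

/-- A gerbe is a universal homeomorphism. -/
theorem isHomeomorph_points (h𝒳 : AlgSt.IsAlgStack K 𝒳) (h𝒴 : AlgSt.IsAlgStack K 𝒴) {f : 𝒳 ⥤ᵇ 𝒴}
    (hf : Gerb.IsGerbeOver (QuotSh.J K S) f) : IsHomeomorph (AlgSt.Points.map f) := by
  obtain ⟨hs, hsm⟩ := smooth_surjective h𝒳 h𝒴 hf
  obtain ⟨U, V, x, y, h, α, hx, hxs, hy, hh⟩ := hsm
  have hsh : Smooth h.left := scheme_mem_of_locP hh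
  refine ⟨continuous_points_map h𝒴 f, isOpenMor_of_locQ h𝒳 h𝒴
    ⟨U, V, x, y, h, α, hx, hxs, hy, locP_of_scheme_mem smoothLocalProp_flat (inferInstance : Flat h.left)⟩
    ⟨U, V, x, y, h, α, hx, hxs, hy,
      locP_of_scheme_mem smoothLocalProp_lfp (inferInstance : LocallyOfFinitePresentation h.left)⟩, ?_, hs⟩
  have hd : AlgSt.IsSurjective (diag f) :=
    isSurjective_of_rep h𝒳.isStack.1 (isFibGrpd_fp h𝒳.isStack.1 h𝒳.isStack.1 h𝒴.isStack.1 f f)
      (diag_fppf h𝒳 h𝒴 hf).2.2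
  intro a b hab
  obtain ⟨w, hw₁, hw₂⟩ := exists_points_fp_of_map_eq h𝒳.isStack.1 h𝒳.isStack.1 h𝒴.isStack.1 f f a b hab
  obtain ⟨v, rfl⟩ := hd w
  obtain ⟨v, rfl⟩ := AlgSt.Points.mk_surjective v
  exact (hw₁.symm.trans hw₂ :)

end Groth.Agent.StFib.Gerbe

end
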