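import Groth.Agent.StFib.Gerbe.Singleton
import Groth.Agent.StFib.Gerbe.Criterion
import Groth.Agent.StFib.Inertia
import Groth.Agent.StFib.RepProps
import Groth.Agent.S12794

/-!
# Monomorphisms into singleton stacks
-/

set_option autoImplicit false
set_option linter.unusedVariables false
set_option linter.style.haveILetI false
set_option backward.isDefEq.respectTransparency false
set_option backward.isDefEq.respectTransparency.types false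

universe u

open CategoryTheory CategoryTheory.Limits AlgebraicGeometry Opposite FibCat

noncomputable section

namespace Groth.Agent.StFib.Gerbe

variable {S : Scheme.{u}} {𝒳 𝒬 ℛ : AlgSt.Cat S}

local notation "K" => Scheme.fppfPrecoverage

/-- A field point in the image of a monomorphism factors through it. -/
theorem exists_factor_fieldPt (h𝒬 : IsFibGrpd 𝒬.p) (h𝒳 : IsFibGrpd 𝒳.p) {f : 𝒬 ⥤ᵇ 𝒳} (hf : AlgSt.IsMono f)
    {k : Type u} [Field k] {a : Spec (CommRingCat.of k) ⟶ S} (z : overCat (Over.mk a) ⥤ᵇ 𝒳)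
    (P : AlgSt.Points 𝒬) (t : ↥(Over.mk a).left) (hP : AlgSt.Points.map f P = AlgSt.Points.ofChart z t) :
    ∃ s : overCat (Over.mk a) ⥤ᵇ 𝒬, Nonempty (BasedFunctor.comp s f ≅ z) := by
  let T := Over.mk a
  let z₀ := BasedFunctor.comp (AlgSt.toOverCat T) z
  obtain ⟨V, b, e, he, ⟨i⟩, hb⟩ := exists_space_fp good_mono.bc good_mono.det h𝒬 h𝒳 hf
    ⟨(AlgSp.yon S).obj T, isAlgSpace_yon T⟩ z₀
  haveI : Mono b.hom := hb
  obtain ⟨Q₀, hQ₀⟩ := (points_bijective_of_isEquivOver (toOverCat_isEquivOver T)).surjective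
    (AlgSt.Points.ofChart (BasedFunctor.id (overCat T)) t)
  obtain ⟨r, -, -⟩ := exists_points_fp_of_map_eq h𝒬 (Stk.isFibGrpd_ofPsh _) h𝒳 f z₀ Q₀ P (by
    rw [hP, points_map_comp, Function.comp_apply, hQ₀]
    exact (ofChart_eq_map z t).symm)
  obtain ⟨r', -⟩ := (points_bijective_of_isEquivOver he).surjective r
  haveI : Nonempty (AlgSp.Points V.obj) := ⟨toSpPt r'⟩
  haveI : IsIso b.hom := AlgSpD.isIso_of_mono_to_field V b.hom
  let c := BasedFunctor.comp (AlgSt.ofOverCat T) (BasedFunctor.comp (AlgSt.ofSpMap (inv b.hom)) e)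
  refine ⟨BasedFunctor.comp c (fpSnd z₀ f), ⟨?_⟩⟩
  have h1 : BasedFunctor.comp (AlgSt.ofSpMap (inv b.hom)) (AlgSt.ofSpMap b.hom) = BasedFunctor.id _ := by
    change AlgSt.ofSpMap (inv b.hom ≫ b.hom) = _
    rw [IsIso.inv_hom_id]
    rfl
  refine (isoWhiskerLeft c (fpIso z₀ f)).symm ≪≫
    isoWhiskerLeft (BasedFunctor.comp (AlgSt.ofOverCat T) (AlgSt.ofSpMap (inv b.hom))) (isoWhiskerRight i z₀) ≪≫ ?_
  refine eqToIso (congrArg (fun m => BasedFunctor.comp (AlgSt.ofOverCat T) (BasedFunctor.comp m z₀)) h1) ≪≫ ?_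
  exact Iso.refl _

/-- A nonempty monomorphism to a stack with a flat surjective field point locally of finite presentation
is an equivalence. -/
theorem isEquivOver_of_mono (h𝒬 : AlgSt.IsAlgStack K 𝒬) (h𝒳 : AlgSt.IsAlgStack K 𝒳) {f : 𝒬 ⥤ᵇ 𝒳}
    (hf : AlgSt.IsMono f) [Nonempty (AlgSt.Points 𝒬)] {k : Type u} [Field k]
    {a : Spec (CommRingCat.of k) ⟶ S} {z : overCat (Over.mk a) ⥤ᵇ 𝒳}
    (hzp : AlgSt.RepByAlgSpWith (AlgSp.LocP @LocallyOfFinitePresentation) z)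
    (hzs : AlgSt.RepByAlgSpWith AlgSp.IsSurjectiveMor z) (hzf : AlgSt.RepByAlgSpWith (AlgSp.LocP @Flat) z) :
    IsEquivOver f := by
  obtain ⟨hfull, hfaith⟩ := fullyFaithful_of_isMono h𝒬.isStack.1 h𝒳.isStack.1 f hf
  haveI := (points_of_surjective_fieldPt h𝒳.isStack.1 hzs).2
  obtain ⟨t⟩ := (inferInstance : Nonempty ↥(Over.mk a).left)
  obtain ⟨s, ⟨j⟩⟩ := exists_factor_fieldPt h𝒬.isStack.1 h𝒳.isStack.1 hf z (Classical.arbitrary _) t
    (Subsingleton.elim _ _)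
  have hT := isAlgStack_of_repByAlgSp (repByAlgSp_overCat (Over.mk a))
  have hloc := locSurjObj_of_fppf hT h𝒳 (isSurjective_of_rep (isFibGrpd_overCat _) h𝒳.isStack.1 hzs)
    (locQ_of_repByAlgSpWith (isSmoothLocalST_locP smoothLocalProp_flat) hT h𝒳 hzf)
    (locQ_of_repByAlgSpWith (isSmoothLocalST_locP smoothLocalProp_lfp) hT h𝒳 hzp)
  refine (Groth.Agent.S12794.result (AlgSp.J S) h𝒬.isStack h𝒳.isStack f).2 fun o => ?_
  obtain ⟨R, hR, hl⟩ := hloc o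
  refine ⟨R, hR, fun V g hg => ?_⟩
  obtain ⟨b, m, hm⟩ := hl g hg
  have hd : 𝒳.p.obj (z.obj b) = V := IsHomLift.domain_eq 𝒳.p g m
  refine ⟨s.obj b, (isoApp j b).hom ≫ m,
    IsHomLift.of_fac' 𝒳.p g _ ((f.w_obj _).trans ((s.w_obj b).trans ((z.w_obj b).symm.trans hd)))
      (IsHomLift.codomain_eq 𝒳.p g m) ?_⟩
  have hj : 𝒳.p.map (isoApp j b).hom = eqToHom _ := (vert_isoApp j b).2
  rw [Functor.map_comp, IsHomLift.fac' 𝒳.p g m, hj]
  simp

/-- A morphism from a stack with an fppf field point, whose point lies in a monomorphism, factors through it. -/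
theorem exists_factor_of_mono (h𝒬 : AlgSt.IsAlgStack K 𝒬) (hℛ : AlgSt.IsAlgStack K ℛ)
    (h𝒳 : AlgSt.IsAlgStack K 𝒳) {i : 𝒬 ⥤ᵇ 𝒳} (hi : AlgSt.IsMono i) (j : ℛ ⥤ᵇ 𝒳)
    (P : AlgSt.Points 𝒬) (R : AlgSt.Points ℛ) (hPR : AlgSt.Points.map i P = AlgSt.Points.map j R)
    {k : Type u} [Field k] {a : Spec (CommRingCat.of k) ⟶ S} {z : overCat (Over.mk a) ⥤ᵇ ℛ}
    (hzp : AlgSt.RepByAlgSpWith (AlgSp.LocP @LocallyOfFinitePresentation) z)
    (hzs : AlgSt.RepByAlgSpWith AlgSp.IsSurjectiveMor z) (hzf : AlgSt.RepByAlgSpWith (AlgSp.LocP @Flat) z) :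
    ∃ g : ℛ ⥤ᵇ 𝒬, Nonempty (BasedFunctor.comp g i ≅ j) := by
  have hM := isAlgStack_fp h𝒳.isStack h𝒳.diag h𝒬 hℛ i j
  obtain ⟨r, -, -⟩ := exists_points_fp_of_map_eq hℛ.isStack.1 h𝒬.isStack.1 h𝒳.isStack.1 j i P R hPR
  haveI : Nonempty (AlgSt.Points (fp i j)) := ⟨r⟩
  have hE : IsEquivOver (fpSnd i j) :=
    isEquivOver_of_mono hM hℛ (repByAlgSpWith_fpSnd _ i hi) hzp hzs hzf
  obtain ⟨E, hE', ⟨u⟩, ⟨v⟩⟩ := isEquivOver_symm hE
  refine ⟨BasedFunctor.comp E (fpFst i j), ⟨?_⟩⟩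
  exact isoWhiskerLeft E (fpIso i j) ≪≫ isoWhiskerRight v j

/-- Substacks with the same point: one with an fppf field point lies in any other. -/
theorem le_of_fieldPt (h𝒳 : AlgSt.IsAlgStack K 𝒳) {Q Q' : 𝒳.obj → Prop}
    (hQi : ObjectProperty.IsClosedUnderIsomorphisms Q)
    (hQ : AlgSt.IsAlgStack K (AlgSt.fullSub 𝒳 Q)) (hQ' : AlgSt.IsAlgStack K (AlgSt.fullSub 𝒳 Q'))
    (P : AlgSt.Points (AlgSt.fullSub 𝒳 Q)) (P' : AlgSt.Points (AlgSt.fullSub 𝒳 Q'))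
    (hPP' : AlgSt.Points.map (AlgSt.subIncl 𝒳 Q) P = AlgSt.Points.map (AlgSt.subIncl 𝒳 Q') P')
    {k : Type u} [Field k] {a : Spec (CommRingCat.of k) ⟶ S} {z : overCat (Over.mk a) ⥤ᵇ AlgSt.fullSub 𝒳 Q'}
    (hzp : AlgSt.RepByAlgSpWith (AlgSp.LocP @LocallyOfFinitePresentation) z)
    (hzs : AlgSt.RepByAlgSpWith AlgSp.IsSurjectiveMor z) (hzf : AlgSt.RepByAlgSpWith (AlgSp.LocP @Flat) z)
    (ξ : 𝒳.obj) (hξ : Q' ξ) : Q ξ := by
  haveI : (AlgSt.subIncl 𝒳 Q).toFunctor.Full := inferInstanceAs (ObjectProperty.ι _).Full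
  haveI : (AlgSt.subIncl 𝒳 Q).toFunctor.Faithful := inferInstanceAs (ObjectProperty.ι _).Faithful
  obtain ⟨g, ⟨i⟩⟩ := exists_factor_of_mono hQ hQ' h𝒳 (isMono_of_fullyFaithful hQ h𝒳 (AlgSt.subIncl 𝒳 Q))
    (AlgSt.subIncl 𝒳 Q') P P' hPP' hzp hzs hzf
  exact hQi.of_iso (isoApp i ⟨ξ, hξ⟩) (g.obj ⟨ξ, hξ⟩).property

end Groth.Agent.StFib.Gerbe

end

namespace Groth.Agent.StFib.Gerbe

open CategoryTheory FibCat

variable {S : AlgebraicGeometry.Scheme.{u}} {𝒳 𝒬 ℛ : AlgSt.Cat S}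

/-- A morphism whose composite with a fully faithful morphism is fully faithful. -/
theorem fullyFaithful_of_comp_iso {g : ℛ ⥤ᵇ 𝒬} {i : 𝒬 ⥤ᵇ 𝒳} {f : ℛ ⥤ᵇ 𝒳} [i.toFunctor.Full]
    [i.toFunctor.Faithful] [f.toFunctor.Full] [f.toFunctor.Faithful] (e : BasedFunctor.comp g i ≅ f) :
    g.toFunctor.Full ∧ g.toFunctor.Faithful := by
  let e' : g.toFunctor ⋙ i.toFunctor ≅ f.toFunctor :=
    NatIso.ofComponents (fun c => isoApp e c) fun {c d} φ => isoApp_naturality e φ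
  haveI : (g.toFunctor ⋙ i.toFunctor).Full := Functor.Full.of_iso e'.symm
  haveI : (g.toFunctor ⋙ i.toFunctor).Faithful := Functor.Faithful.of_iso e'.symm
  exact ⟨Functor.Full.of_comp_faithful g.toFunctor i.toFunctor, Functor.Faithful.of_comp g.toFunctor i.toFunctor⟩

end Groth.Agent.StFib.Gerbe
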