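import Groth.Agent.StFib.Gerbe.IsoClassesSpace
import Groth.Agent.StFib.Gerbe.Criterion

/-!
# An algebraic stack is a gerbe exactly when its inertia is flat and locally of finite presentation
-/

set_option autoImplicit false
set_option linter.unusedVariables false
set_option backward.isDefEq.respectTransparency false
set_option backward.isDefEq.respectTransparency.types false

universe u

open CategoryTheory CategoryTheory.Limits AlgebraicGeometry Opposite FibCat

noncomputable section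

namespace Groth.Agent.StFib.Gerbe

variable {S : Scheme.{u}} {𝒳 : AlgSt.Cat S}

local notation "K" => Scheme.fppfPrecoverage

theorem isAlgGerbe_iff (h𝒳 : AlgSt.IsAlgStack K 𝒳) :
    Gerb.IsAlgGerbe K 𝒳 ↔
      AlgSt.LocQ (AlgSp.LocP @Flat) (inertiaToBase (toSelf 𝒳)) ∧
        AlgSt.LocQ (AlgSp.LocP @LocallyOfFinitePresentation) (inertiaToBase (toSelf 𝒳)) := by
  refine ⟨fun ⟨X, π, hπ⟩ => ?_, fun ⟨h₁, h₂⟩ => ⟨⟨_, isAlgSpace_isoClSheaf h𝒳 h₁ h₂⟩, isoClMap h𝒳.isStack.1,
    isGerbeOver_isoClMap h𝒳.isStack.1⟩⟩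
  obtain ⟨d₁, d₂, -⟩ := diag_fppf h𝒳 (isAlgStack_ofSp X.property) hπ
  obtain ⟨E, hE, hEc⟩ := exists_inertia_self_equiv π
  have key : ∀ Q : MorphismProperty (AlgSp.Sp S), AlgSt.RepByAlgSpWith Q (inertiaToBase π) →
      AlgSt.RepByAlgSpWith Q (inertiaToBase (toSelf 𝒳)) := fun Q hQ =>
    (repByAlgSpWith_iff_of_equiv Q E (BasedFunctor.id _) hE (isEquivOver_id _)
      (f := inertiaToBase (toSelf 𝒳)) (f' := inertiaToBase π) (eqToIso hEc.symm)).2 hQ
  have hI := isAlgStack_inertia h𝒳 isAlgStack_selfOver (toSelf 𝒳)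
  exact ⟨locQ_of_repByAlgSpWith (isSmoothLocalST_locP smoothLocalProp_flat) hI h𝒳
      (key _ (inertiaToBase_mem _ d₁)),
    locQ_of_repByAlgSpWith (isSmoothLocalST_locP smoothLocalProp_lfp) hI h𝒳 (key _ (inertiaToBase_mem _ d₂))⟩

end Groth.Agent.StFib.Gerbe

end
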