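import Groth.Agent.StFib.Gerbe.SingletonRed
import Groth.Agent.StFib.Gerbe.AlgGerbe
import Groth.Agent.StFib.DiagLft

/-!
# Reduced locally Noetherian singleton stacks are gerbes
-/

set_option autoImplicit false
set_option linter.unusedVariables false
set_option linter.style.haveILetI false
set_option backward.isDefEq.respectTransparency false
set_option backward.isDefEq.respectTransparency.types false

universe u

open CategoryTheory CategoryTheory.Limits AlgebraicGeometry Opposite FibCat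

noncomputable section

namespace Groth.Agent.StFib.Gerbe

variable {S : Scheme.{u}} {𝒳 𝒴 : AlgSt.Cat S}

local notation "K" => Scheme.fppfPrecoverage

/-- Over a field, locally of finite type morphisms of spaces are flat and locally of finite presentation. -/
theorem locP_flat_lfp_over_field {k : Type u} [Field k] {a : Spec (CommRingCat.of k) ⟶ S}
    {F : AlgSp.Sp S} {m : F ⟶ (AlgSp.yon S).obj (Over.mk a)} (hm : AlgSp.LocP @LocallyOfFiniteType m) :
    AlgSp.LocP @Flat m ∧ AlgSp.LocP @LocallyOfFinitePresentation m := by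
  refine ⟨fun A B α β h hα hβ e => ?_, fun A B α β h hα hβ e => ?_⟩
  all_goals
    obtain ⟨g, rfl⟩ := (AlgSp.yon S).map_surjective β
    haveI : Etale g.left := (AlgSp.repWith_yon_map_iff _ _).1 hβ
  · exact (AlgSpD.RedZeroDim.etale (V := (Over.mk a).left) (AlgSpD.redZeroDim_spec_field k) g.left).flat h.left
  · haveI : IsLocallyNoetherian (Over.mk a).left :=
      inferInstanceAs (IsLocallyNoetherian (Spec (CommRingCat.of k)))
    haveI : IsLocallyNoetherian B.left := LocallyOfFiniteType.isLocallyNoetherian g.left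
    exact LocallyOfFinitePresentation.iff_locallyOfFiniteType.2 (hm α ((AlgSp.yon S).map g) h hα hβ e)

/-- A representable morphism locally of finite type to a stack with an fppf field point is flat and
locally of finite presentation. -/
theorem flat_lfp_of_lft_fieldPt (h𝒳 : IsFibGrpd 𝒳.p) (h𝒴 : IsFibGrpd 𝒴.p) {f : 𝒳 ⥤ᵇ 𝒴}
    (hf : AlgSt.RepByAlgSpWith (AlgSp.LocP @LocallyOfFiniteType) f) {k : Type u} [Field k]
    {a : Spec (CommRingCat.of k) ⟶ S} {z : overCat (Over.mk a) ⥤ᵇ 𝒴}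
    (hzp : AlgSt.RepByAlgSpWith (AlgSp.LocP @LocallyOfFinitePresentation) z)
    (hzs : AlgSt.RepByAlgSpWith AlgSp.IsSurjectiveMor z) (hzf : AlgSt.RepByAlgSpWith (AlgSp.LocP @Flat) z) :
    AlgSt.RepByAlgSpWith (AlgSp.LocP @Flat) f ∧
      AlgSt.RepByAlgSpWith (AlgSp.LocP @LocallyOfFinitePresentation) f := by
  let z₀ := BasedFunctor.comp (AlgSt.toOverCat (Over.mk a)) z
  have hz₀ : ∀ {P : MorphismProperty (AlgSp.Sp S)}, AlgSt.RepByAlgSpWith P z → AlgSt.RepByAlgSpWith P z₀ :=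
    fun {P} h => (repByAlgSpWith_iff_of_equiv P (AlgSt.toOverCat (Over.mk a)) (BasedFunctor.id _)
      (toOverCat_isEquivOver _) (isEquivOver_id _) (f := z) (f' := z₀) (Iso.refl _)).1 h
  have hT := Stk.isFibGrpd_ofPsh ((AlgSp.yon S).obj (Over.mk a)).obj
  obtain ⟨V, b, e, he, ⟨i⟩, hb⟩ := exists_space_fp good_lft.bc good_lft.det h𝒳 h𝒴 hf
    ⟨(AlgSp.yon S).obj (Over.mk a), isAlgSpace_yon _⟩ z₀
  obtain ⟨hb₁, hb₂⟩ := locP_flat_lfp_over_field hb
  have step : ∀ {P : MorphismProperty Scheme.{u}}, AlgSpCov.Standard P →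
      AlgSp.IsLocalOnBase AlgSp.IsFppfCover (AlgSp.LocP (S := S) P) → AlgSp.LocP P b.hom →
      AlgSt.RepByAlgSpWith (AlgSp.LocP P) f := fun hP hbase hPb =>
    (repByAlgSpWith_iff_fpFst_cover (good_locP hP).bc hbase h𝒴 hT (repByAlgSp1_of_with hf)
      (hz₀ hzf) (hz₀ hzp) (hz₀ hzs)).2 (repByAlgSpWith_fpFst_of_space (good_locP hP).bc b e he i hPb)
  exact ⟨step AlgSpCov.standard_flat
      (fppfLocal_of_fpqc (Groth.Agent.AlgSpCov.isLocalOnBase_locP AlgSpCov.standard_flat.etaleLocal)) hb₁,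
    step AlgSpCov.standard_locallyOfFinitePresentation
      (fppfLocal_of_fpqc (Groth.Agent.AlgSpCov.isLocalOnBase_locP
        AlgSpCov.standard_locallyOfFinitePresentation.etaleLocal)) hb₂⟩

/-- A reduced locally Noetherian stack with one point is a gerbe over such a space. -/
theorem exists_gerbe_singleton (h𝒳 : AlgSt.IsAlgStack K 𝒳)
    (hred : AlgSt.SmoothLocally (fun T => IsReduced T) 𝒳)
    (hnoeth : AlgSt.SmoothLocally (fun T => IsLocallyNoetherian T) 𝒳)
    [Nonempty (AlgSt.Points 𝒳)] [Subsingleton (AlgSt.Points 𝒳)] :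
    ∃ (Z : AlgSp.Space S) (π : 𝒳 ⥤ᵇ AlgSt.ofSp Z.obj),
      Gerb.IsGerbeOver (QuotSh.J K S) π ∧
        AlgSp.EtaleLocally (fun T => IsReduced T) Z.obj ∧ AlgSp.IsLocNoethSp Z.obj ∧
        Nonempty (AlgSp.Points Z.obj) ∧ Subsingleton (AlgSp.Points Z.obj) := by
  obtain ⟨k, hk, a, z, -, hzs, hzf, hzp⟩ := exists_lft_fieldPt h𝒳 hred
  have hI := isAlgStack_inertia h𝒳 isAlgStack_selfOver (toSelf 𝒳)
  obtain ⟨hfl, hfp⟩ := flat_lfp_of_lft_fieldPt hI.isStack.1 h𝒳.isStack.1
    (inertiaToBase_mem _ (lft_diag h𝒳 isAlgStack_selfOver (toSelf 𝒳))) (hzp hnoeth) hzs hzf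
  obtain ⟨Z, π, hπ⟩ := (isAlgGerbe_iff h𝒳).2
    ⟨locQ_of_repByAlgSpWith (isSmoothLocalST_locP smoothLocalProp_flat) hI h𝒳 hfl,
      locQ_of_repByAlgSpWith (isSmoothLocalST_locP smoothLocalProp_lfp) hI h𝒳 hfp⟩
  have hZ := isAlgStack_ofSp Z.property
  have hb := (isHomeomorph_points h𝒳 hZ hπ).bijective
  have hp := (toSpPt_bijective (F := Z.obj)).comp hb
  refine ⟨Z, π, hπ, ?_⟩
  obtain ⟨hs, hsm⟩ := smooth_surjective h𝒳 hZ hπ
  obtain ⟨V, p, hpe, hps⟩ := Z.property.atlas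
  obtain ⟨hy, hys⟩ := atlas_of_etale p hpe hps
  obtain ⟨U, x, h, α, hx, -, hl, hls⟩ := exists_smooth_square h𝒳 hZ π hy
  have hh : Smooth h.left := scheme_mem_of_locP
    (mem_of_locQ (isSmoothLocalST_locP smoothLocalProp_smooth) h𝒳 hZ hsm α hy hl)
  have hhs : Surjective h.left := surjective_of_square h𝒳 hZ hs α hls
  haveI : IsReduced U.left := hred U x hx
  haveI : IsLocallyNoetherian U.left := hnoeth U x hx
  exact ⟨⟨V, p, hpe, hps, AlgSp.SchImageRep.isReduced_of_flat_surjective h.left⟩,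
    ⟨V, p, hpe, hps, AlgSpD.isLocallyNoetherian_of_fppf h.left⟩,
    (Equiv.ofBijective _ hp).symm.nonempty, (Equiv.ofBijective _ hp).symm.subsingleton⟩

end Groth.Agent.StFib.Gerbe

end
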