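import Groth.Agent.StFib.Gerbe.Image
import Groth.Agent.StFib.Gerbe.MonoPoint
import Groth.Agent.StFib.Gerbe.SingletonGerbe

/-!
# Residual gerbes as image substacks
-/

set_option autoImplicit false
set_option linter.unusedVariables false
set_option linter.style.haveILetI false
set_option backward.isDefEq.respectTransparency false
set_option backward.isDefEq.respectTransparency.types false

universe u

open CategoryTheory CategoryTheory.Limits AlgebraicGeometry Opposite FibCat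

noncomputable section

namespace Groth.Agent.StFib.Gerbe

variable {S : Scheme.{u}} {𝒳 𝒵 : AlgSt.Cat S}

local notation "K" => Scheme.fppfPrecoverage

/-- The image of a field point locally of finite type through a monomorphism. -/
theorem exists_image_substack (h𝒳 : AlgSt.IsAlgStack K 𝒳) (h𝒵 : AlgSt.IsAlgStack K 𝒵) {f : 𝒵 ⥤ᵇ 𝒳}
    (hf : AlgSt.IsMono f) {k : Type u} [Field k] {a : Spec (CommRingCat.of k) ⟶ S}
    {z : overCat (Over.mk a) ⥤ᵇ 𝒵} (hz : AlgSt.RepByAlgSpWith (AlgSp.LocP @LocallyOfFiniteType) z) :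
    ∃ (Q : 𝒳.obj → Prop), ObjectProperty.IsClosedUnderIsomorphisms Q ∧
      AlgSt.IsAlgStack K (AlgSt.fullSub 𝒳 Q) ∧ AlgSt.IsMono (AlgSt.subIncl 𝒳 Q) ∧
      ∃ z' : overCat (Over.mk a) ⥤ᵇ AlgSt.fullSub 𝒳 Q,
        Nonempty (BasedFunctor.comp z' (AlgSt.subIncl 𝒳 Q) ≅ BasedFunctor.comp z f) ∧
        AlgSt.RepByAlgSpWith (AlgSp.LocP @LocallyOfFinitePresentation) z' ∧
        AlgSt.RepByAlgSpWith AlgSp.IsSurjectiveMor z' ∧ AlgSt.RepByAlgSpWith (AlgSp.LocP @Flat) z' := by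
  obtain ⟨hfull, hfaith⟩ := fullyFaithful_of_isMono h𝒵.isStack.1 h𝒳.isStack.1 f hf
  let T := Over.mk a
  have hT := isAlgStack_of_repByAlgSp (repByAlgSp_overCat T)
  have hR := isAlgStack_fp h𝒵.isStack h𝒵.diag hT hT z z
  have hid : ∀ {P : MorphismProperty Scheme.{u}}, AlgSpCov.Standard P →
      AlgSt.RepByAlgSpWith (AlgSp.LocP P) (BasedFunctor.id (overCat T)) := fun hP =>
    repByAlgSpWith_of_iso _ (overMapIdIso T)
      (repByAlgSpWith_overMap_locP hP (𝟙 T) (hP.of_etale _ (inferInstanceAs (Etale (𝟙 T.left)))))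
  haveI := subsingleton_points_overCat (T := T)
  haveI := nonempty_points_overCat (T := T)
  obtain ⟨h₁, h₂⟩ := flat_lfp_of_lft_fieldPt hR.isStack.1 (isFibGrpd_overCat T)
    (repByAlgSpWith_fpFst _ z hz) (z := BasedFunctor.id (overCat T))
    (hid AlgSpCov.standard_locallyOfFinitePresentation)
    (surjective_fieldPt hT (BasedFunctor.id _)) (hid AlgSpCov.standard_flat)
  let w := BasedFunctor.comp z f
  let E := fpMap (F := w) (G := w) (F' := z) (G' := z) (BasedFunctor.id _) (BasedFunctor.id _) f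
    (Iso.refl _) (Iso.refl _)
  have hE : IsEquivOver E := fpMap_isEquivOver _ _ _ _ _ (isEquivOver_id _) (isEquivOver_id _)
  have key : ∀ {P : MorphismProperty (AlgSp.Sp S)}, AlgSt.RepByAlgSpWith P (fpFst z z) →
      AlgSt.RepByAlgSpWith P (fpFst w w) := fun {P} h =>
    (repByAlgSpWith_iff_of_equiv P E (BasedFunctor.id _) hE (isEquivOver_id _)
      (f := fpFst w w) (f' := fpFst z z) (Iso.refl _)).2 h
  obtain ⟨l₁, l₂, l₃⟩ := Image.lift_fppf w h𝒳 (key h₁) (key h₂)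
  exact ⟨Image.imgProp w, Image.isClosedUnderIso_imgProp w h𝒳.isStack.1,
    Image.isAlgStack_img w h𝒳 (key h₁) (key h₂), Image.isMono_incl w h𝒳 (key h₁) (key h₂),
    Image.lift w, ⟨Iso.refl _⟩, l₂, l₃, l₁⟩

theorem isMono_id (h : AlgSt.IsAlgStack K 𝒵) : AlgSt.IsMono (BasedFunctor.id 𝒵) :=
  haveI : (BasedFunctor.id 𝒵).toFunctor.Full := inferInstanceAs (𝟭 _).Full
  haveI : (BasedFunctor.id 𝒵).toFunctor.Faithful := inferInstanceAs (𝟭 _).Faithful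
  isMono_of_fullyFaithful h h _

theorem subIncl_isMono {Q : 𝒳.obj → Prop} (hQ : AlgSt.IsAlgStack K (AlgSt.fullSub 𝒳 Q))
    (h𝒳 : AlgSt.IsAlgStack K 𝒳) : AlgSt.IsMono (AlgSt.subIncl 𝒳 Q) :=
  haveI : (AlgSt.subIncl 𝒳 Q).toFunctor.Full := inferInstanceAs (ObjectProperty.ι _).Full
  haveI : (AlgSt.subIncl 𝒳 Q).toFunctor.Faithful := inferInstanceAs (ObjectProperty.ι _).Faithful
  isMono_of_fullyFaithful hQ h𝒳 _

theorem exists_fppf_fieldPt (h𝒵 : AlgSt.IsAlgStack K 𝒵)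
    (hred : AlgSt.SmoothLocally (fun T => IsReduced T) 𝒵)
    (hnoeth : AlgSt.SmoothLocally (fun T => IsLocallyNoetherian T) 𝒵)
    [Nonempty (AlgSt.Points 𝒵)] [Subsingleton (AlgSt.Points 𝒵)] :
    ∃ (k : Type u) (_ : Field k) (a : Spec (CommRingCat.of k) ⟶ S) (z : overCat (Over.mk a) ⥤ᵇ 𝒵),
      AlgSt.RepByAlgSpWith (AlgSp.LocP @LocallyOfFinitePresentation) z ∧
      AlgSt.RepByAlgSpWith AlgSp.IsSurjectiveMor z ∧ AlgSt.RepByAlgSpWith (AlgSp.LocP @Flat) z := by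
  obtain ⟨k, hk, a, z, -, h2, h3, h4⟩ := exists_lft_fieldPt h𝒵 hred
  exact ⟨k, hk, a, z, h4 hnoeth, h2, h3⟩

/-- Residual gerbes are unique. -/
theorem isResGerbe_unique (h𝒳 : AlgSt.IsAlgStack K 𝒳) {x : AlgSt.Points 𝒳} {Q Q' : 𝒳.obj → Prop}
    (hQ : Gerb.IsResGerbe K 𝒳 x Q) (hQ' : Gerb.IsResGerbe K 𝒳 x Q') (ξ : 𝒳.obj) : Q' ξ ↔ Q ξ := by
  obtain ⟨i, a, r, n, ne, ss, p⟩ := hQ
  obtain ⟨i', a', r', n', ne', ss', p'⟩ := hQ'
  obtain ⟨k, hk, b, z, z₁, z₂, z₃⟩ := exists_fppf_fieldPt a r n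
  obtain ⟨k', hk', b', z', z₁', z₂', z₃'⟩ := exists_fppf_fieldPt a' r' n'
  obtain ⟨P⟩ := ne
  obtain ⟨P'⟩ := ne'
  exact ⟨le_of_fieldPt h𝒳 i a a' P P' ((p P).trans (p' P').symm) z₁' z₂' z₃' ξ,
    le_of_fieldPt h𝒳 i' a' a P' P ((p' P').trans (p P).symm) z₁ z₂ z₃ ξ⟩

/-- The residual gerbe through a monomorphism from a reduced singleton stack. -/
theorem exists_isResGerbe_of_mono (h𝒳 : AlgSt.IsAlgStack K 𝒳) {x : AlgSt.Points 𝒳}
    (h𝒵 : AlgSt.IsAlgStack K 𝒵) (hred : AlgSt.SmoothLocally (fun T => IsReduced T) 𝒵)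
    [Nonempty (AlgSt.Points 𝒵)] [Subsingleton (AlgSt.Points 𝒵)]
    {f : 𝒵 ⥤ᵇ 𝒳} (hf : AlgSt.IsMono f) (hfx : ∀ p, AlgSt.Points.map f p = x) :
    ∃ Q : 𝒳.obj → Prop, Gerb.IsResGerbe K 𝒳 x Q := by
  obtain ⟨k, hk, a, z, hz, -, -, -⟩ := exists_lft_fieldPt h𝒵 hred
  obtain ⟨Q, hi, hA, hm, z', ⟨i⟩, hp, hs, hfl⟩ := exists_image_substack h𝒳 h𝒵 hf hz
  obtain ⟨hne, hss⟩ := points_of_surjective_fieldPt hA.isStack.1 hs
  refine ⟨Q, hi, hA, smoothLocally_reduced_of_fieldPt hA hs hfl, smoothLocally_noetherian_of_fieldPt hA hs hfl hp,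
    hne, hss, fun P => ?_⟩
  obtain ⟨P₀⟩ := nonempty_points_overCat (T := Over.mk a)
  rw [Subsingleton.elim P (AlgSt.Points.map z' P₀)]
  refine ((congrFun ((points_map_comp z' (AlgSt.subIncl 𝒳 Q)).symm.trans (points_map_congr i)) P₀).trans ?_)
  rw [points_map_comp]
  exact hfx _

end Groth.Agent.StFib.Gerbe

end
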