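import Groth.Agent.StFib.Gerbe.Compare

/-!
# Morphisms of residual gerbes which are equivalences
-/

set_option autoImplicit false
set_option linter.unusedVariables false
set_option linter.style.haveILetI false
set_option backward.isDefEq.respectTransparency false
set_option backward.isDefEq.respectTransparency.types false

universe u

open CategoryTheory CategoryTheory.Limits AlgebraicGeometry Opposite FibCat

noncomputable section

namespace Groth.Agent.StFib.Gerbe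

variable {S : Scheme.{u}}

local notation "K" => Scheme.fppfPrecoverage

theorem exists_equiv_residual {𝒳 𝒴 : AlgSt.Cat S} (h𝒳 : AlgSt.IsAlgStack K 𝒳) (h𝒴 : AlgSt.IsAlgStack K 𝒴)
    {f : 𝒳 ⥤ᵇ 𝒴} {x : AlgSt.Points 𝒳} {Q : 𝒳.obj → Prop} (hQ : Gerb.IsResGerbe K 𝒳 x Q)
    {Q' : 𝒴.obj → Prop} (hQ' : Gerb.IsResGerbe K 𝒴 (AlgSt.Points.map f x) Q')
    {k : Type u} [Field k] {a : Spec (CommRingCat.of k) ⟶ S} {p : overCat (Over.mk a) ⥤ᵇ 𝒳}
    (hp : ∀ t : ↥(Over.mk a).left, AlgSt.Points.ofChart p t = x)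
    (e : BasedFunctor.comp (fpFst p p) (BasedFunctor.comp p f) ≅
      BasedFunctor.comp (fpSnd p p) (BasedFunctor.comp p f))
    (he : ∀ c, e.hom.toNatTrans.app c = f.map c.obj.iso.hom)
    (hiso : IsEquivOver (fpLift (fpFst p p) (fpSnd p p) e)) :
    ∃ g : AlgSt.fullSub 𝒳 Q ⥤ᵇ AlgSt.fullSub 𝒴 Q',
      Nonempty (BasedFunctor.comp g (AlgSt.subIncl 𝒴 Q') ≅ BasedFunctor.comp (AlgSt.subIncl 𝒳 Q) f) ∧
      IsEquivOver g := by
  obtain ⟨hi, hA, hr, hn, ⟨P⟩, hss, hx⟩ := hQ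
  obtain ⟨hi', hA', hr', hn', ⟨P'⟩, hss', hx'⟩ := hQ'
  haveI : Nonempty (AlgSt.Points (AlgSt.fullSub 𝒳 Q)) := ⟨P⟩
  haveI : Nonempty (AlgSt.Points (AlgSt.fullSub 𝒴 Q')) := ⟨P'⟩
  obtain ⟨k₁, hk₁, a₁, z, hzp, hzs, hzf⟩ := exists_fppf_fieldPt hA hr hn
  obtain ⟨g, ⟨eg⟩⟩ := exists_factor_of_mono hA' hA h𝒴 (subIncl_isMono hA' h𝒴)
    (BasedFunctor.comp (AlgSt.subIncl 𝒳 Q) f) P' P (by
      rw [hx', points_map_comp]
      exact congrArg (AlgSt.Points.map f) (hx P).symm) hzp hzs hzf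
  obtain ⟨t⟩ := nonempty_field_mk k a
  obtain ⟨q, ⟨jq⟩⟩ := exists_factor_fieldPt hA.isStack.1 h𝒳.isStack.1 (subIncl_isMono hA h𝒳) p P t
    ((hx P).trans (hp t).symm)
  haveI : (AlgSt.subIncl 𝒳 Q).toFunctor.Full := inferInstanceAs (ObjectProperty.ι _).Full
  haveI : (AlgSt.subIncl 𝒳 Q).toFunctor.Faithful := inferInstanceAs (ObjectProperty.ι _).Faithful
  haveI : (AlgSt.subIncl 𝒴 Q').toFunctor.Faithful := inferInstanceAs (ObjectProperty.ι _).Faithful
  have hb : Compare.Bij q g := Compare.bij_of_square eg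
    (Compare.bij_of_iso jq.symm (Compare.bij_of_isEquivOver h𝒴.isStack.1 h𝒳.isStack.1 e he hiso))
  -- a common field extension
  obtain ⟨W, a', b', ⟨j⟩, -, -, -, hb'⟩ := exists_chart_fp hA z q
  haveI := hb' hzs
  obtain ⟨w, -⟩ := b'.left.surjective t
  let T' : Over S := Over.mk (W.left.fromSpecResidueField w ≫ W.hom)
  let d : T' ⟶ W := Over.homMk (W.left.fromSpecResidueField w) rfl
  let c : T' ⟶ Over.mk a₁ := d ≫ a'
  haveI : IsAffine T'.left := inferInstanceAs (IsAffine (Spec (W.left.residueField w)))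
  haveI : IsAffine (Over.mk a₁).left := inferInstanceAs (IsAffine (Spec (CommRingCat.of k₁)))
  haveI : IsAffineHom c.left := inferInstance
  haveI : Flat c.left := (AlgSpD.redZeroDim_spec_field k₁).flat c.left
  haveI : Nonempty ↥T'.left := inferInstanceAs (Nonempty (PrimeSpectrum ↑(W.left.residueField w)))
  haveI : Surjective c.left := ⟨fun _ => ⟨Classical.arbitrary _, Subsingleton.elim _ _⟩⟩
  have hc : Compare.Bij (BasedFunctor.comp (AlgSt.overMap c) z) g :=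
    Compare.bij_of_iso (isoWhiskerLeft (AlgSt.overMap d) j.symm ≪≫ isoWhiskerRight (overMapCompIso d a').symm z)
      (Compare.bij_comp (AlgSt.overMap d) (Compare.bij_comp (AlgSt.overMap b') hb))
  obtain ⟨_, _⟩ := Compare.fullyFaithful_of_bij hA hA' g z c hzf hzp hzs hc
  obtain ⟨k', hk', b, y, hp', hs', hfl'⟩ := exists_fppf_fieldPt hA' hr' hn'
  exact ⟨g, ⟨eg⟩, isEquivOver_of_mono hA hA' (isMono_of_fullyFaithful hA hA' g) hp' hs' hfl'⟩

end Groth.Agent.StFib.Gerbe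

end
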