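import Groth.Agent.StFib.Gerbe.Isom
import Groth.Agent.StFib.SpaceLift
import Groth.Agent.StFib.SourceLocal
import Groth.Agent.StFib.Compact
import Groth.Agent.StFib.RatLift.Param
import Groth.Agent.StFib.StackSpace
import Groth.Agent.StFib.BGAtlas.Converse
import Groth.Agent.AlgSpCov.FppfSource
import Groth.Agent.AlgSpCov.SourceLocal

/-!
# Sections of gerbes are flat, locally of finite presentation and surjective
-/

set_option autoImplicit false
set_option linter.unusedVariables false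
set_option linter.style.haveILetI false
set_option backward.isDefEq.respectTransparency false
set_option backward.isDefEq.respectTransparency.types false

universe u

open CategoryTheory CategoryTheory.Limits AlgebraicGeometry Opposite FibCat

noncomputable section

namespace Groth.Agent.StFib.Gerbe

variable {S : Scheme.{u}} {𝒳 : AlgSt.Cat S}

local notation "K" => Scheme.fppfPrecoverage

/-- The point of a space given by a functor out of a slice. -/
def ptOf {W : Over S} {A : AlgSp.Sp S} (φ : overCat W ⥤ᵇ AlgSt.ofSp A) : (AlgSp.yon S).obj W ⟶ A :=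
  spMapOfFunctor (BasedFunctor.comp (AlgSt.toOverCat W) φ)

theorem ptOf_congr {W : Over S} {A : AlgSp.Sp S} {φ ψ : overCat W ⥤ᵇ AlgSt.ofSp A} (e : φ ≅ ψ) :
    ptOf φ = ptOf ψ := by
  rw [QuotTriv.eq_of_iso e]

theorem eq_ofSpMap_ptOf {W : Over S} {A : AlgSp.Sp S} (φ : overCat W ⥤ᵇ AlgSt.ofSp A) :
    φ = BasedFunctor.comp (AlgSt.ofOverCat W) (AlgSt.ofSpMap (ptOf φ)) :=
  congrArg (BasedFunctor.comp (AlgSt.ofOverCat W)) (spMapOfFunctor_spec (BasedFunctor.comp (AlgSt.toOverCat W) φ))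

theorem ptOf_ofSpMap {W : Over S} {A : AlgSp.Sp S} (p : (AlgSp.yon S).obj W ⟶ A) :
    ptOf (BasedFunctor.comp (AlgSt.ofOverCat W) (AlgSt.ofSpMap p)) = p :=
  QuotTriv.ofSpMap_inj (spMapOfFunctor_spec _).symm

theorem ptOf_overMap {T W : Over S} {A : AlgSp.Sp S} (a : T ⟶ W) (φ : overCat W ⥤ᵇ AlgSt.ofSp A) :
    ptOf (BasedFunctor.comp (AlgSt.overMap a) φ) = (AlgSp.yon S).map a ≫ ptOf φ := by
  refine QuotTriv.ofSpMap_inj ?_
  rw [ptOf, ← spMapOfFunctor_spec]
  refine (QuotTriv.eq_of_iso (isoWhiskerRight (toOverCatIso a).symm φ)).trans ?_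
  exact congrArg (BasedFunctor.comp (AlgSt.ofSpMap ((AlgSp.yon S).map a)))
    (spMapOfFunctor_spec (BasedFunctor.comp (AlgSt.toOverCat W) φ))

theorem faithful_of_ofSp {A : AlgSp.Sp S} (x : AlgSt.ofSp A ⥤ᵇ 𝒳) : x.toFunctor.Faithful :=
  ⟨fun {a b} φ ψ h => Stk.EltObj.hom_ext (map_eq_map_of_p x φ ψ h)⟩

variable {U : AlgSp.Space S}

/-- Properties local on the source in the fppf topology descend along a single fppf covering. -/
theorem locP_of_cover (P : MorphismProperty Scheme.{u})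
    [P.IsLocalAtSource (Scheme.precoverage AlgSpCov.Fppf)] {V A B : AlgSp.Sp S} (hV : AlgSp.IsAlgSpace V)
    (hA : AlgSp.IsAlgSpace A) (hB : AlgSp.IsAlgSpace B) (b : V ⟶ A) (a : A ⟶ B)
    (hb : (AlgSp.LocP @Flat ⊓ AlgSp.LocP @LocallyOfFinitePresentation) b) (hbs : AlgSp.IsSurjectiveMor b)
    (h : AlgSp.LocP P (b ≫ a)) : AlgSp.LocP P a := by
  haveI : AlgSpCov.Fppf.{u}.ContainsIdentities := ⟨fun X => AlgSpCov.fppf_of_etale (𝟙 X) inferInstance⟩
  have hloc : AlgSp.IsLocalOnSource (AlgSp.IsFppfCover (S := S)) (AlgSp.LocP P) :=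
    AlgSpCov.isLocalOnSource_locP (T := AlgSpCov.Fppf) (fun _ _ e he => AlgSpCov.fppf_of_etale e he) _
      fun _ _ _ _ _ _ hg => ⟨fun i => AlgSpCov.locP_fppf (hg.1 i).1 (hg.1 i).2, hg.2⟩
  exact (hloc (ι := PUnit.{u + 1}) (fun _ => V) (fun _ => b) hA (fun _ => hV)
    ⟨fun _ => hb, fun x => ⟨⟨⟩, hbs x⟩⟩ a hB).2 fun _ => h

/-- A section becomes, after a flat surjective base change locally of finite presentation, a composite
of the atlas with flat surjective maps locally of finite presentation. -/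
theorem exists_section_cover (h𝒳 : AlgSt.IsAlgStack K 𝒳) {π : 𝒳 ⥤ᵇ AlgSt.ofSp U.obj}
    (hπ : Gerb.IsGerbeOver (QuotSh.J K S) π)
    {x : AlgSt.ofSp U.obj ⥤ᵇ 𝒳} (e : BasedFunctor.comp x π ≅ BasedFunctor.id (AlgSt.ofSp U.obj))
    {W : Over S} (w : overCat W ⥤ᵇ 𝒳) (hw : AlgSt.RepByAlgSpWith (AlgSp.LocP @Smooth) w)
    (hws : AlgSt.RepByAlgSpWith AlgSp.IsSurjectiveMor w) :
    ∃ (U₀ : Over S) (p : (AlgSp.yon S).obj U₀ ⟶ U.obj) (T : Over S) (g : T ⟶ U₀) (α : T ⟶ W),
      AlgSp.RepWith @Etale p ∧ AlgSp.RepWith @Surjective p ∧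
      (Flat g.left ∧ LocallyOfFinitePresentation g.left ∧ Surjective g.left) ∧
      (Flat α.left ∧ LocallyOfFinitePresentation α.left ∧ Surjective α.left) ∧
      Nonempty (BasedFunctor.comp (AlgSt.overMap g)
          (BasedFunctor.comp (BasedFunctor.comp (AlgSt.ofOverCat U₀) (AlgSt.ofSpMap p)) x) ≅
        BasedFunctor.comp (AlgSt.overMap α) w) := by
  obtain ⟨U₀, p, hpe, hps⟩ := U.property.atlas
  let y := BasedFunctor.comp (AlgSt.ofOverCat U₀) (AlgSt.ofSpMap p)
  have hy : ptOf y = p := ptOf_ofSpMap p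
  let φ := BasedFunctor.comp w π
  let q := ptOf φ
  -- the scheme `W ×_U U₀`
  let W₀ : Over S := hpe.rep.pullback q
  let a₀ : W₀ ⟶ U₀ := (AlgSp.yon S).preimage (hpe.rep.fst q)
  let b₀ : W₀ ⟶ W := hpe.rep.snd q
  have sq₀ : IsPullback ((AlgSp.yon S).map a₀) ((AlgSp.yon S).map b₀) p q := by
    rw [(AlgSp.yon S).map_preimage]
    exact hpe.rep.isPullback q
  haveI : Etale b₀.left := hpe.property q _ b₀ sq₀
  haveI : Surjective b₀.left := hps.property q _ b₀ sq₀
  -- the space of isomorphisms from the atlas to the section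
  have hrep := repByAlgSp1_chart h𝒳 w U₀ (BasedFunctor.comp y x)
  have hM := isAlgStack_of_repByAlgSp hrep
  obtain ⟨P, w₁, hw₁, hws₁⟩ := atlasProp_smooth.atlas hrep
  obtain ⟨bU, ⟨ib⟩⟩ := exists_iso_overMap (BasedFunctor.comp w₁ (fpFst (BasedFunctor.comp y x) w))
  obtain ⟨aW, ⟨ia⟩⟩ := exists_iso_overMap (BasedFunctor.comp w₁ (fpSnd (BasedFunctor.comp y x) w))
  let iP : BasedFunctor.comp (AlgSt.overMap bU) (BasedFunctor.comp y x) ≅
      BasedFunctor.comp (AlgSt.overMap aW) w :=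
    isoWhiskerRight ib.symm (BasedFunctor.comp y x) ≪≫ isoWhiskerLeft w₁ (fpIso (BasedFunctor.comp y x) w) ≪≫
      isoWhiskerRight ia w
  have step : ∀ Q : MorphismProperty (AlgSp.Sp S), Good Q → AlgSt.RepByAlgSpWith Q w₁ →
      AlgSt.RepByAlgSpWith Q w → AlgSt.RepByAlgSpWith Q (AlgSt.overMap bU) :=
    fun Q hQ h1 h2 => repByAlgSpWith_of_iso _ ib (repByAlgSpWith_comp hQ.bc hQ.comp hQ.det
      (isFibGrpd_overCat P) hM.isStack.1 h1 (repByAlgSpWith_fpFst Q _ h2))
  haveI : Smooth bU.left :=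
    mem_scheme_of_overMap Groth.Agent.AlgSpCov.standard_smooth (step _ good_smooth hw₁ hw)
  haveI : Surjective bU.left := surjective_of_overMap (step _ good_surjective hws₁ hws)
  have hPw : (AlgSp.yon S).map bU ≫ p = (AlgSp.yon S).map aW ≫ q := by
    rw [← hy, ← ptOf_overMap, ← ptOf_overMap]
    exact (ptOf_congr (isoWhiskerLeft (BasedFunctor.comp (AlgSt.overMap bU) y) e)).symm.trans
      (ptOf_congr (isoWhiskerRight iP π))
  let f : P ⟶ W₀ := (AlgSp.yon S).preimage (sq₀.lift _ _ hPw)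
  have hfa : f ≫ a₀ = bU := (AlgSp.yon S).map_injective (by
    rw [Functor.map_comp, (AlgSp.yon S).map_preimage, sq₀.lift_fst])
  have hfb : f ≫ b₀ = aW := (AlgSp.yon S).map_injective (by
    rw [Functor.map_comp, (AlgSp.yon S).map_preimage, sq₀.lift_snd])
  -- local isomorphisms
  let Φ₁ := BasedFunctor.comp (AlgSt.overMap b₀) w
  let Φ₂ := BasedFunctor.comp (AlgSt.overMap a₀) (BasedFunctor.comp y x)
  have hj : BasedFunctor.comp Φ₁ π = BasedFunctor.comp (AlgSt.overMap a₀) y := by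
    rw [eq_ofSpMap_ptOf (BasedFunctor.comp Φ₁ π), eq_ofSpMap_ptOf (BasedFunctor.comp (AlgSt.overMap a₀) y)]
    congr 2
    change ptOf (BasedFunctor.comp (AlgSt.overMap b₀) φ) = _
    rw [ptOf_overMap, ptOf_overMap, hy]
    exact sq₀.w.symm
  let j : BasedFunctor.comp Φ₁ π ≅ BasedFunctor.comp Φ₂ π :=
    eqToIso hj ≪≫ (isoWhiskerLeft (BasedFunctor.comp (AlgSt.overMap a₀) y) e).symm
  obtain ⟨R, hR, hiso⟩ := exists_isom_cover h𝒳.isStack.1 hπ.2 Φ₁ Φ₂ j
  obtain ⟨ι₀, X₀, f₀, rfl⟩ := R.exists_eq_ofArrows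
  obtain ⟨hcov, hP⟩ := (Scheme.ofArrows_mem_precoverage_iff _).1 hR
  -- sections of the space of isomorphisms, fppf locally
  have hsec : ∀ i : ι₀, ∃ (V : Over S) (c : V ⟶ W₀) (σ : V ⟶ P), σ ≫ f = c ∧ Flat c.left ∧
      LocallyOfFinitePresentation c.left ∧ ∀ z, z ∈ Set.range (f₀ i) → z ∈ Set.range c.left := by
    intro i
    haveI : Flat (f₀ i) := (hP i).1
    haveI : LocallyOfFinitePresentation (f₀ i) := (hP i).2
    let T : Over S := Over.mk (f₀ i ≫ W₀.hom)
    let t : T ⟶ W₀ := Over.homMk (f₀ i) rfl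
    obtain ⟨iso⟩ := hiso (f₀ i) ⟨i⟩
    let iaW : BasedFunctor.comp (AlgSt.overMap (t ≫ a₀)) (BasedFunctor.comp y x) ≅
        BasedFunctor.comp (AlgSt.overMap (t ≫ b₀)) w :=
      isoWhiskerRight (overMapCompIso t a₀) (BasedFunctor.comp y x) ≪≫ iso.symm ≪≫
        isoWhiskerRight (overMapCompIso t b₀).symm w
    let l : overCat T ⥤ᵇ fp (BasedFunctor.comp y x) w :=
      fpLift (AlgSt.overMap (t ≫ a₀)) (AlgSt.overMap (t ≫ b₀)) iaW
    obtain ⟨V, σ, c, ⟨k⟩, -, hc₁, hc₂, hc₃⟩ := exists_chart_fp hM w₁ l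
    haveI : Flat c.left := hc₁ (repByAlgSpWith_flat_of_smooth hw₁)
    haveI : LocallyOfFinitePresentation c.left := hc₂ (repByAlgSpWith_lfp_of_smooth hw₁)
    haveI : Surjective c.left := hc₃ hws₁
    have ha : σ ≫ bU = c ≫ t ≫ a₀ := overMap_injective
      (overMapCompIso σ bU ≪≫ isoWhiskerLeft (AlgSt.overMap σ) ib.symm ≪≫
        isoWhiskerRight k (fpFst (BasedFunctor.comp y x) w) ≪≫ (overMapCompIso c (t ≫ a₀)).symm)
    have hb : σ ≫ aW = c ≫ t ≫ b₀ := overMap_injective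
      (overMapCompIso σ aW ≪≫ isoWhiskerLeft (AlgSt.overMap σ) ia.symm ≪≫
        isoWhiskerRight k (fpSnd (BasedFunctor.comp y x) w) ≪≫ (overMapCompIso c (t ≫ b₀)).symm)
    refine ⟨V, c ≫ t, σ, ?_, ?_, ?_, ?_⟩
    · refine (AlgSp.yon S).map_injective (sq₀.hom_ext ?_ ?_)
      · rw [← Functor.map_comp, ← Functor.map_comp, Category.assoc, hfa, ha, Category.assoc]
      · rw [← Functor.map_comp, ← Functor.map_comp, Category.assoc, hfb, hb, Category.assoc]
    · exact inferInstanceAs (Flat (c.left ≫ f₀ i))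
    · exact inferInstanceAs (LocallyOfFinitePresentation (c.left ≫ f₀ i))
    · rintro z ⟨z', rfl⟩
      obtain ⟨v, rfl⟩ := c.left.surjective z'
      exact ⟨v, rfl⟩
  choose V c σ hσf hcfl hcfp hcr using hsec
  choose i hi using hcov
  let C : Scheme.{u} := ∐ fun z : W₀.left => (V (i z)).left
  let cC : C ⟶ W₀.left := Sigma.desc fun z => (c (i z)).left
  let σC : C ⟶ P.left := Sigma.desc fun z => (σ (i z)).left
  have hσC : σC ≫ f.left = cC := Sigma.hom_ext _ _ fun z => by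
    rw [Sigma.ι_desc_assoc, Sigma.ι_desc, ← Over.comp_left, hσf]
  haveI : Surjective cC := ⟨fun z => by
    obtain ⟨v, hv⟩ := hcr (i z) z (hi z)
    exact ⟨Sigma.ι (fun z : W₀.left => (V (i z)).left) z v, by
      rw [← Scheme.Hom.comp_apply, Sigma.ι_desc]; exact hv⟩⟩
  haveI : Flat cC := IsZariskiLocalAtSource.sigmaDesc fun z => hcfl (i z)
  haveI : LocallyOfFinitePresentation cC := IsZariskiLocalAtSource.sigmaDesc fun z => hcfp (i z)
  have hfa' : f.left ≫ a₀.left = bU.left := by rw [← Over.comp_left, hfa]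
  haveI : Flat (f.left ≫ a₀.left) := by rw [hfa']; infer_instance
  haveI : LocallyOfFinitePresentation (f.left ≫ a₀.left) := by rw [hfa']; infer_instance
  haveI : Surjective (f.left ≫ a₀.left) := by rw [hfa']; infer_instance
  haveI : Surjective a₀.left := Surjective.of_comp f.left a₀.left
  haveI : Flat a₀.left := BGAtlas.flat_of_section f.left a₀.left cC σC hσC
  haveI : LocallyOfFiniteType f.left := locallyOfFiniteType_of_comp f.left a₀.left
  haveI : LocallyOfFinitePresentation (σC ≫ f.left) := by rw [hσC]; infer_instance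
  haveI : LocallyOfFinitePresentation σC := GrpScheme.FlatFib.locallyOfFinitePresentation_of_comp σC f.left
  haveI : LocallyOfFinitePresentation (cC ≫ a₀.left) := by rw [← hσC, Category.assoc]; infer_instance
  let T : Over S := Over.mk (cC ≫ W₀.hom)
  let cT : T ⟶ W₀ := Over.homMk cC rfl
  let σT : T ⟶ P := Over.homMk σC (by
    change σC ≫ P.hom = cC ≫ W₀.hom
    rw [← hσC, Category.assoc, Over.w f])
  have hσT : σT ≫ f = cT := Over.OverMorphism.ext hσC
  refine ⟨U₀, p, T, cT ≫ a₀, cT ≫ b₀, hpe, hps,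
    ⟨inferInstanceAs (Flat (cC ≫ a₀.left)), inferInstanceAs (LocallyOfFinitePresentation (cC ≫ a₀.left)),
      inferInstanceAs (Surjective (cC ≫ a₀.left))⟩,
    ⟨inferInstanceAs (Flat (cC ≫ b₀.left)), inferInstanceAs (LocallyOfFinitePresentation (cC ≫ b₀.left)),
      inferInstanceAs (Surjective (cC ≫ b₀.left))⟩, ⟨?_⟩⟩
  rw [← hσT, Category.assoc, Category.assoc, hfa, hfb]
  exact isoWhiskerRight (overMapCompIso σT bU) (BasedFunctor.comp y x) ≪≫
    isoWhiskerLeft (AlgSt.overMap σT) iP ≪≫ isoWhiskerRight (overMapCompIso σT aW).symm w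

/-- A section of a gerbe over an algebraic space is flat, locally of finite presentation and surjective. -/
theorem section_fppf (h𝒳 : AlgSt.IsAlgStack K 𝒳) {π : 𝒳 ⥤ᵇ AlgSt.ofSp U.obj}
    (hπ : Gerb.IsGerbeOver (QuotSh.J K S) π)
    {x : AlgSt.ofSp U.obj ⥤ᵇ 𝒳} (e : BasedFunctor.comp x π ≅ BasedFunctor.id (AlgSt.ofSp U.obj)) :
    AlgSt.RepByAlgSpWith (AlgSp.LocP @Flat) x ∧
      AlgSt.RepByAlgSpWith (AlgSp.LocP @LocallyOfFinitePresentation) x ∧
      AlgSt.RepByAlgSpWith AlgSp.IsSurjectiveMor x := by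
  obtain ⟨W, w, hw, hws⟩ := h𝒳.atlas
  obtain ⟨U₀, p, T, g, α, hpe, hps, ⟨hg₁, hg₂, hg₃⟩, ⟨hα₁, hα₂, hα₃⟩, ⟨i⟩⟩ :=
    exists_section_cover h𝒳 hπ e w hw hws
  obtain ⟨hy, hys⟩ := atlas_of_etale p hpe hps
  let y := BasedFunctor.comp (AlgSt.ofOverCat U₀) (AlgSt.ofSpMap p)
  let k := BasedFunctor.comp (AlgSt.overMap g) y
  have gP : ∀ {Q : MorphismProperty (AlgSp.Sp S)}, Good Q → AlgSt.RepByAlgSpWith Q (AlgSt.overMap g) →
      AlgSt.RepByAlgSpWith Q y → AlgSt.RepByAlgSpWith Q k := fun hQ h1 h2 =>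
    repByAlgSpWith_comp hQ.bc hQ.comp hQ.det (isFibGrpd_overCat T) (isFibGrpd_overCat U₀) h1 h2
  have wP : ∀ {Q : MorphismProperty (AlgSp.Sp S)}, Good Q → AlgSt.RepByAlgSpWith Q (AlgSt.overMap α) →
      AlgSt.RepByAlgSpWith Q w → AlgSt.RepByAlgSpWith Q (BasedFunctor.comp k x) := fun hQ h1 h2 =>
    repByAlgSpWith_of_iso _ i.symm
      (repByAlgSpWith_comp hQ.bc hQ.comp hQ.det (isFibGrpd_overCat T) (isFibGrpd_overCat W) h1 h2)
  have sF := Groth.Agent.AlgSpCov.standard_flat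
  have sL := Groth.Agent.AlgSpCov.standard_locallyOfFinitePresentation
  have k₁ : AlgSt.RepByAlgSpWith (AlgSp.LocP @Flat) k :=
    gP (good_locP sF) (repByAlgSpWith_overMap_locP sF g hg₁) (repByAlgSpWith_flat_of_smooth hy)
  have k₂ : AlgSt.RepByAlgSpWith (AlgSp.LocP @LocallyOfFinitePresentation) k :=
    gP (good_locP sL) (repByAlgSpWith_overMap_locP sL g hg₂) (repByAlgSpWith_lfp_of_smooth hy)
  have k₃ : AlgSt.RepByAlgSpWith AlgSp.IsSurjectiveMor k :=
    gP good_surjective (RatLift.repByAlgSpWith_overMap_surjective g) hys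
  have hF := Stk.isFibGrpd_ofPsh U.obj.obj
  have kinf := repByAlgSpWith_inf (isFibGrpd_overCat T) hF (good_locP sF) (good_locP sL) k₁ k₂
  haveI := faithful_of_ofSp x
  have hx : AlgSt.RepByAlgSp1 x :=
    (faithful_iff_repByAlgSp1 (isAlgStack_of_repByAlgSp (repByAlgSp_ofSp U.property)) h𝒳 x).1 inferInstance
  haveI := AlgSpCov.isLocalAtSource_fppf_flat.{u}
  haveI := AlgSpCov.isLocalAtSource_fppf_locallyOfFinitePresentation.{u}
  haveI : AlgSpCov.Fppf.{u}.ContainsIdentities := ⟨fun X => AlgSpCov.fppf_of_etale (𝟙 X) inferInstance⟩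
  have hC := (good_locP (S := S) sF).inf (good_locP sL)
  refine ⟨?_, ?_, ?_⟩
  · refine repByAlgSpWith_of_comp_cover (good_locP sF).bc (good_locP sF).det hC ?_ (isFibGrpd_overCat T) hF hx
      kinf k₃ (wP (good_locP sF) (repByAlgSpWith_overMap_locP sF α hα₁) (repByAlgSpWith_flat_of_smooth hw))
    exact fun V A B hV hA hB b a hb hbs hba => locP_of_cover @Flat hV hA hB b a hb hbs hba
  · refine repByAlgSpWith_of_comp_cover (good_locP sL).bc (good_locP sL).det hC ?_ (isFibGrpd_overCat T) hF hx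
      kinf k₃ (wP (good_locP sL) (repByAlgSpWith_overMap_locP sL α hα₂) (repByAlgSpWith_lfp_of_smooth hw))
    exact fun V A B hV hA hB b a hb hbs hba => locP_of_cover @LocallyOfFinitePresentation hV hA hB b a hb hbs hba
  · refine repByAlgSpWith_of_comp_cover good_surjective.bc good_surjective.det hC ?_ (isFibGrpd_overCat T) hF hx
      kinf k₃ (wP good_surjective (RatLift.repByAlgSpWith_overMap_surjective α) hws)
    intro V A B hV hA hB b a hb hbs hba
    have : Function.Surjective (AlgSp.Points.map a ∘ AlgSp.Points.map b) := fun z => by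
      obtain ⟨v, hv⟩ := hba z
      exact ⟨v, by rw [Function.comp_apply, ← AlgSp.Points.map_comp]; exact hv⟩
    exact Function.Surjective.of_comp this

end Groth.Agent.StFib.Gerbe

end
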