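import Groth.Agent.StFib.Gerbe.Section
import Groth.Agent.StFib.AutRepChart

/-!
# The automorphism group of a section of a gerbe
-/

set_option autoImplicit false
set_option linter.unusedVariables false
set_option backward.isDefEq.respectTransparency false
set_option backward.isDefEq.respectTransparency.types false

universe u

open CategoryTheory CategoryTheory.Limits AlgebraicGeometry Opposite FibCat

noncomputable section

namespace Groth.Agent.StFib.Gerbe

variable {S : Scheme.{u}} {𝒳 : AlgSt.Cat S}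

/-- An equivalence is a gerbe. -/
theorem isGerbeOver_of_isEquivOver {J : GrothendieckTopology (Over S)} {𝒴 : AlgSt.Cat S}
    (h𝒴 : IsFibGrpd 𝒴.p) {F : 𝒳 ⥤ᵇ 𝒴} (hF : IsEquivOver F) : Gerb.IsGerbeOver J F := by
  have h : Gerb.IsGerbeOver J (BasedFunctor.id 𝒴) := by
    refine ⟨fun y => ⟨⊤, J.top_mem _, fun V f _ => ?_⟩, fun z z' b hb => ⟨⊤, J.top_mem _, fun V f _ => ?_⟩⟩
    · obtain ⟨a, φ, hφ⟩ := h𝒴.exists_lift f
      exact ⟨a, φ, hφ⟩
    · obtain ⟨a, φ, hφ⟩ := h𝒴.exists_lift f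
      have hb' : 𝒴.p.IsHomLift (𝟙 (𝒴.p.obj z)) (b : z ⟶ z') := hb
      refine ⟨a, φ, φ ≫ (b : z ⟶ z'), hφ, ?_, rfl⟩
      have := @IsHomLift.lift_id_comp _ _ _ _ 𝒴.p
      simpa using (inferInstance : 𝒴.p.IsHomLift (f ≫ 𝟙 (𝒴.p.obj z)) (φ ≫ (b : z ⟶ z')))
  exact (GalCohAux.GerbBasic.comp_equiv_iff (G := BasedFunctor.id 𝒴) hF).2 h

variable {U : Over S} {x : overCat U ⥤ᵇ 𝒳} {G : Over U.left} [GrpObj G]

/-- The automorphism of the pull-back of the point to its automorphism group. -/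
def autIsoFun (r : Gerb.AutRep x (Gerb.ptsGrp U G)) :
    BasedFunctor.comp (AlgSt.overMap (grpProj G)) x ≅ BasedFunctor.comp (AlgSt.overMap (grpProj G)) x :=
  isoMk (F := BasedFunctor.comp (AlgSt.overMap (grpProj G)) x) (G := BasedFunctor.comp (AlgSt.overMap (grpProj G)) x)
    (fun t => autIso (r.iso _ (autSec t))) (fun t => vert_autIso _) fun {t t'} φ => by
    have h := r.natural ((AlgSt.overMap (grpProj G)).map φ) (autSec t')
    rw [autSec_map φ] at h
    exact h.symm

theorem autIsoFun_app (r : Gerb.AutRep x (Gerb.ptsGrp U G)) (t : (overCat (grpOver G)).obj) :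
    (isoApp (autIsoFun r) t).hom = (r.iso _ (autSec t)).hom.1 := rfl

variable {π : 𝒳 ⥤ᵇ overCat U}

/-- A vertical isomorphism between values of a section comes from one of the base. -/
theorem exists_iso_of_section (e : BasedFunctor.comp x π ≅ BasedFunctor.id (overCat U)) {a b : Over U}
    (k : x.obj a ≅ x.obj b) (hk : Vert k.hom) :
    ∃ (h : a ≅ b), Vert (𝒳 := overCat U) h.hom := by
  refine ⟨(isoApp e a).symm ≪≫ π.toFunctor.mapIso k ≪≫ isoApp e b, ?_⟩
  exact (vert_isoApp_inv e a).comp ((hk.map π).comp (vert_isoApp e b))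

/-- The automorphism group of a section is the self fibre product of the section. -/
theorem autIsoFun_cart (h𝒳 : IsFibGrpd 𝒳.p) (e : BasedFunctor.comp x π ≅ BasedFunctor.id (overCat U))
    (r : Gerb.AutRep x (Gerb.ptsGrp U G)) :
    IsEquivOver (fpLift (F := x) (G := x) (AlgSt.overMap (grpProj G)) (AlgSt.overMap (grpProj G))
      (autIsoFun r)) := by
  refine fpLift_isEquivOver_mk _ _ _
    (fun {w w'} φ ψ h _ => Over.OverMorphism.ext (congrArg (fun k => Over.Hom.left k) h :))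
    (fun {w w'} a b h => ?_) fun z => ?_
  · rw [autIsoFun_app, autIsoFun_app] at h
    have hba : b = a := by
      refine Over.OverMorphism.ext ?_
      have h' := congrArg 𝒳.p.map h
      rw [Functor.map_comp, Functor.map_comp, w_map, w_map] at h'
      have hv : ∀ t, 𝒳.p.map (r.iso (autBase t) (autSec t)).hom.1 = 𝟙 _ :=
        fun t => ((vert_autIso _).2).trans (eqToHom_refl _ _)
      rw [hv, hv, Category.comp_id, Category.id_comp, cancel_epi, cancel_mono] at h'
      exact h'.symm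
    subst hba
    have hn := r.natural b (autSec w')
    have he : (Gerb.ptsGrp U G).map b.op (autSec w') = autSec w := by
      refine (r.iso _).injective (autO_ext (grpd_cancel h𝒳 (x.map b) (hn.trans h) ?_))
      exact (vert_autIso _).2.trans (vert_autIso (r.iso _ (autSec w))).2.symm
    have hw : b.left.left ≫ w'.hom.left = w.hom.left := congrArg (fun k => Over.Hom.left k) he
    exact ⟨Over.homMk b.left (Over.OverMorphism.ext hw), Over.OverMorphism.ext rfl, Over.OverMorphism.ext rfl⟩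
  · let T₀ : Over U := z.obj.fst
    let T₁ : Over U := z.obj.snd
    let κ : x.obj T₀ ≅ x.obj T₁ := z.obj.iso
    have hκ : Vert κ.hom := vert_fp_iso z
    obtain ⟨h₀, hh₀⟩ := exists_iso_of_section e κ hκ
    let β : x.obj T₀ ≅ x.obj T₀ := κ ≪≫ (x.toFunctor.mapIso h₀).symm
    obtain ⟨a, ha⟩ := exists_autO β (hκ.comp (Vert.inv (φ := x.toFunctor.mapIso h₀) (hh₀.map x)))
    let a₀ : (Over.iteratedSliceForward U).obj T₀ ⟶ G := (r.iso T₀).symm a
    have hra : (r.iso T₀ a₀).hom.1 = β.hom := by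
      rw [show r.iso T₀ a₀ = a from (r.iso T₀).apply_symm_apply a]
      exact ha
    let k : T₀.left ⟶ grpOver G := Over.homMk a₀.left (by
      change a₀.left ≫ G.hom ≫ U.hom = T₀.left.hom
      have h1 : a₀.left ≫ G.hom = T₀.hom.left := Over.w a₀
      rw [← Category.assoc, h1]
      exact Over.w T₀.hom)
    have hk : k ≫ grpProj G = T₀.hom := Over.OverMorphism.ext (Over.w a₀)
    let w : (overCat (grpOver G)).obj := Over.mk k
    let u : autBase w ≅ T₀ := Over.isoMk (Iso.refl _) (by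
      change 𝟙 _ ≫ T₀.hom = k ≫ grpProj G
      rw [hk, Category.id_comp])
    have hsec : (Gerb.ptsGrp U G).map u.hom.op a₀ = autSec w :=
      Over.OverMorphism.ext (Category.id_comp _)
    have hn := r.natural u.hom a₀
    rw [hsec, hra] at hn
    refine ⟨w, u, u ≪≫ h₀, ⟨rfl, rfl⟩, ?_⟩
    change x.map u.hom ≫ κ.hom = (r.iso _ (autSec w)).hom.1 ≫ x.map (u.hom ≫ h₀.hom)
    rw [Functor.map_comp, ← Category.assoc, hn]
    simp [β]

/-- The automorphism group scheme of a section of a gerbe is flat and locally of finite presentation. -/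
theorem flat_lfp_autGrp (h𝒳 : AlgSt.IsAlgStack Scheme.fppfPrecoverage 𝒳)
    (hπ : Gerb.IsGerbeOver (QuotSh.J Scheme.fppfPrecoverage S) π)
    (e : BasedFunctor.comp x π ≅ BasedFunctor.id (overCat U)) (r : Gerb.AutRep x (Gerb.ptsGrp U G)) :
    Flat G.hom ∧ LocallyOfFinitePresentation G.hom := by
  let Uspace : AlgSp.Space S := ⟨_, isAlgSpace_yon U⟩
  have hO : IsEquivOver (AlgSt.ofOverCat U) := ⟨AlgSt.toOverCat _, ⟨Iso.refl _⟩, ⟨Iso.refl _⟩⟩
  let π' : 𝒳 ⥤ᵇ AlgSt.ofSp Uspace.obj := BasedFunctor.comp π (AlgSt.ofOverCat U)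
  let x' : AlgSt.ofSp Uspace.obj ⥤ᵇ 𝒳 := BasedFunctor.comp (AlgSt.toOverCat U) x
  have hπ' : Gerb.IsGerbeOver (QuotSh.J Scheme.fppfPrecoverage S) π' :=
    GalCohAux.GerbBasic.comp h𝒳.isStack.1 (isFibGrpd_overCat U) hπ
      (isGerbeOver_of_isEquivOver (Stk.isFibGrpd_ofPsh _) hO)
  let e' : BasedFunctor.comp x' π' ≅ BasedFunctor.id (AlgSt.ofSp Uspace.obj) :=
    isoWhiskerRight (isoWhiskerLeft (AlgSt.toOverCat U) e) (AlgSt.ofOverCat U)
  obtain ⟨h1, h2, -⟩ := section_fppf h𝒳 hπ' e'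
  have hc := autIsoFun_cart h𝒳.isStack.1 e r
  exact ⟨mem_scheme_of_overMap Groth.Agent.AlgSpCov.standard_flat
      (repByAlgSpWith_of_cart _ _ _ _ hc (repByAlgSpWith_comp_isEquivOver h1 hO)),
    mem_scheme_of_overMap Groth.Agent.AlgSpCov.standard_locallyOfFinitePresentation
      (repByAlgSpWith_of_cart _ _ _ _ hc (repByAlgSpWith_comp_isEquivOver h2 hO))⟩

end Groth.Agent.StFib.Gerbe

end
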