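import Groth.Agent.StFib.Gerbe.Criterion
import Groth.Agent.StFib.QC2

/-!
# Quasi-compactness of the diagonal descends along gerbes
-/

set_option autoImplicit false
set_option linter.unusedVariables false
set_option backward.isDefEq.respectTransparency false
set_option backward.isDefEq.respectTransparency.types false

universe u

open CategoryTheory CategoryTheory.Limits AlgebraicGeometry Opposite FibCat

noncomputable section

namespace Groth.Agent.StFib.Gerbe

variable {S : Scheme.{u}} {𝒳 𝒴 : AlgSt.Cat S}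

local notation "K" => Scheme.fppfPrecoverage

theorem isQuasiCompactMor_lift_congr {𝒵 : AlgSt.Cat S} {V : Over S} {t t' : overCat V ⥤ᵇ selfOver (C := Over S)}
    (h : t = t') {a b : 𝒵 ⥤ᵇ overCat V} (e : BasedFunctor.comp a t ≅ BasedFunctor.comp b t)
    (e' : BasedFunctor.comp a t' ≅ BasedFunctor.comp b t')
    (hq : AlgSt.IsQuasiCompactMor K (fpLift (F := t) (G := t) a b e)) :
    AlgSt.IsQuasiCompactMor K (fpLift (F := t') (G := t') a b e') := by
  subst h
  refine isQuasiCompactMor_of_iso ?_ hq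
  refine isoMk (fun w => fpIsoMk (Iso.refl _) (Iso.refl _) ?_) (fun w => Vert.id _)
    (fun φ => fp_hom_ext ((Category.comp_id _).trans (Category.id_comp _).symm)
      ((Category.comp_id _).trans (Category.id_comp _).symm))
  obtain ⟨h1, h2⟩ := vert_isoApp e w
  obtain ⟨h3, h4⟩ := vert_isoApp e' w
  have he : (isoApp e w).hom = (isoApp e' w).hom := h2.trans h4.symm
  change t.map (𝟙 _) ≫ (isoApp e' w).hom = (isoApp e w).hom ≫ t.map (𝟙 _)
  rw [he, t.toFunctor.map_id, t.toFunctor.map_id]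
  exact (Category.id_comp _).trans (Category.comp_id _).symm

theorem isQuasiCompactMor_diag_of_gerbe (h𝒳 : AlgSt.IsAlgStack K 𝒳) (h𝒴 : AlgSt.IsAlgStack K 𝒴) {f : 𝒳 ⥤ᵇ 𝒴}
    (hf : Gerb.IsGerbeOver (QuotSh.J K S) f) (hΔ : AlgSt.IsQuasiCompactMor K (diag (toSelf 𝒳))) :
    AlgSt.IsQuasiCompactMor K (diag (toSelf 𝒴)) := by
  obtain ⟨V, y, hy, hys⟩ := h𝒴.atlas
  obtain ⟨V', c, x, hc₁, hc₂, hc₃, ⟨i⟩⟩ := exists_fppf_section h𝒳 h𝒴 hf y
  let y' := BasedFunctor.comp x f
  have hrep : ∀ {Q : MorphismProperty (AlgSp.Sp S)}, Good Q → AlgSt.RepByAlgSpWith Q (AlgSt.overMap c) →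
      AlgSt.RepByAlgSpWith Q y → AlgSt.RepByAlgSpWith Q (compPhi y' y' (toSelf 𝒴)) := fun hQ k1 k2 =>
    repByAlgSpWith_compPhi _ hQ h𝒴.isStack.1 (repByAlgSpWith_of_iso _ i.symm
      (repByAlgSpWith_comp hQ.bc hQ.comp hQ.det (isFibGrpd_overCat V') (isFibGrpd_overCat V) k1 k2))
  have hV := isAlgStack_overCat V'
  have hP := isAlgStack_prod h𝒴 h𝒴
  have hS := isAlgStack_selfOver (S := S)
  have hB := isAlgStack_fp hS.isStack hS.diag hV hV (BasedFunctor.comp y' (toSelf 𝒴)) (BasedFunctor.comp y' (toSelf 𝒴))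
  have hAx := isAlgStack_fp h𝒳.isStack h𝒳.diag hV hV x x
  have hAy := isAlgStack_fp h𝒴.isStack h𝒴.diag hV hV y' y'
  refine isQuasiCompactMor_of_fppf h𝒴 hP hB (compPhi y' y' (toSelf 𝒴))
    (locQ_of_repByAlgSpWith (isSmoothLocalST_locP smoothLocalProp_flat) hB hP
      (hrep (good_locP Groth.Agent.AlgSpCov.standard_flat)
        (repByAlgSpWith_overMap_locP Groth.Agent.AlgSpCov.standard_flat c hc₁) (repByAlgSpWith_flat_of_smooth hy)))
    (locQ_of_repByAlgSpWith (isSmoothLocalST_locP smoothLocalProp_lfp) hB hP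
      (hrep (good_locP Groth.Agent.AlgSpCov.standard_locallyOfFinitePresentation)
        (repByAlgSpWith_overMap_locP Groth.Agent.AlgSpCov.standard_locallyOfFinitePresentation c hc₂)
        (repByAlgSpWith_lfp_of_smooth hy)))
    (isSurjective_of_rep hB.isStack.1 hP.isStack.1
      (hrep good_surjective (RatLift.repByAlgSpWith_overMap_surjective c) hys)) ?_
  let ey := isoWhiskerRight (fpIso y' y') (toSelf 𝒴)
  have hE := comp_cart y' y' (toSelf 𝒴) ey (fun _ => rfl)
  refine isQuasiCompactMor_of_surjective hAy (isAlgStack_fp hP.isStack hP.diag hB h𝒴 _ _) hB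
    (points_bijective_of_isEquivOver hE).surjective ?_
  change AlgSt.IsQuasiCompactMor K (fpLift (F := BasedFunctor.comp y' (toSelf 𝒴)) (G := BasedFunctor.comp y' (toSelf 𝒴)) (fpFst y' y') (fpSnd y' y') ey)
  let ef := isoWhiskerRight (fpIso x x) f
  let M : fp x x ⥤ᵇ fp y' y' :=
    fpLift (F := BasedFunctor.comp x f) (G := BasedFunctor.comp x f) (fpFst x x) (fpSnd x x) ef
  have hM : AlgSt.IsSurjective M := isSurjective_of_rep hAx.isStack.1 hAy.isStack.1
    (repByAlgSpWith_of_cart _ _ _ _ (comp_cart x x f ef (fun _ => rfl)) (diag_fppf h𝒳 h𝒴 hf).2.2)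
  refine isQuasiCompactMor_of_surjective hAx hAy hB hM ?_
  let ex := isoWhiskerRight (fpIso x x) (toSelf 𝒳)
  have hx : AlgSt.IsQuasiCompactMor K (fpLift (F := BasedFunctor.comp x (toSelf 𝒳)) (G := BasedFunctor.comp x (toSelf 𝒳)) (fpFst x x) (fpSnd x x) ex) :=
    isQuasiCompactMor_of_cart _ _ _ (comp_cart x x (toSelf 𝒳) ex (fun _ => rfl)) hΔ
  exact isQuasiCompactMor_lift_congr
    (congrArg (BasedFunctor.comp x) (GalCohAux.GerbBasic.toSelf_comp f).symm) ex (isoWhiskerLeft M ey) hx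

end Groth.Agent.StFib.Gerbe

end
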