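import Groth.Agent.StFib.Gerbe.Criterion
import Groth.Agent.StFib.SpPoints
import Groth.Agent.S10370
import Groth.Agent.S10366

/-!
# Residual gerbes of gerbes over algebraic spaces
-/

set_option autoImplicit false
set_option linter.unusedVariables false
set_option backward.isDefEq.respectTransparency false
set_option backward.isDefEq.respectTransparency.types false

universe u

open CategoryTheory CategoryTheory.Limits AlgebraicGeometry Opposite FibCat

noncomputable section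

namespace Groth.Agent.StFib.Gerbe

variable {S : Scheme.{u}} {𝒳 : AlgSt.Cat S}

local notation "K" => Scheme.fppfPrecoverage

theorem resGerbeExists_of_gerbe (h𝒳 : AlgSt.IsAlgStack K 𝒳) (X : AlgSp.Space S) (π : 𝒳 ⥤ᵇ AlgSt.ofSp X.obj)
    (hπ : Gerb.IsGerbeOver (QuotSh.J K S) π) (x : AlgSt.Points 𝒳) : Gerb.ResGerbeExists K 𝒳 x := by
  let xb := toSpPt (AlgSt.Points.map π x)
  obtain ⟨Z, i, hi, hrange, k, hk, str, p, -, hp₁, hp₂⟩ := Groth.Agent.S10370.result X xb
  obtain ⟨-, hne, hsub⟩ := (Groth.Agent.S10366.result Z).2 ⟨k, hk, str, p, hp₁, hp₂⟩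
  have hZ := isAlgStack_ofSp (S := S) Z.property
  have hX := isAlgStack_ofSp (S := S) X.property
  let 𝒵 := fp (AlgSt.ofSpMap i.hom) π
  have h𝒵 : AlgSt.IsAlgStack K 𝒵 := isAlgStack_fp hX.isStack hX.diag hZ h𝒳 _ _
  have hmono : AlgSt.IsMono (fpSnd (AlgSt.ofSpMap i.hom) π) :=
    repByAlgSpWith_fpSnd _ (AlgSt.ofSpMap i.hom) (repByAlgSpWith_ofSpMap good_mono.bc Z.property X.property i.hom hi)
  have hg : Gerb.IsGerbeOver (QuotSh.J K S) (fpFst (AlgSt.ofSpMap i.hom) π) :=
    GalCohAux.GerbBasic.baseChange (e := fpIso (AlgSt.ofSpMap i.hom) π) (G' := fpSnd (AlgSt.ofSpMap i.hom) π)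
      hZ.isStack.1 hX.isStack.1 (fpLift_self_isEquivOver _ _) hπ
  have hh := (isHomeomorph_points h𝒵 hZ hg).bijective
  have hb := (isHomeomorph_points h𝒳 hX hπ).bijective
  have hz : ∀ P : AlgSt.Points 𝒵, AlgSt.Points.map (fpSnd (AlgSt.ofSpMap i.hom) π) P = x := fun P => by
    refine hb.injective (toSpPt_bijective.injective ?_)
    have h1 : AlgSp.Points.map i.hom (toSpPt (AlgSt.Points.map (fpFst (AlgSt.ofSpMap i.hom) π) P)) = xb :=
      hrange.subset ⟨_, rfl⟩
    rw [← toSpPt_map] at h1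
    refine Eq.trans ?_ h1
    refine congrArg toSpPt ?_
    have h2 := congrFun (points_map_congr (fpIso (AlgSt.ofSpMap i.hom) π)) P
    rw [points_map_comp, points_map_comp] at h2
    exact h2.symm
  obtain ⟨P₀, -⟩ : xb ∈ Set.range (AlgSp.Points.map i.hom) := hrange ▸ rfl
  obtain ⟨Q₀, -⟩ := toSpPt_bijective.surjective P₀
  exact ⟨𝒵, fpSnd (AlgSt.ofSpMap i.hom) π, h𝒵, hmono, ⟨(hh.surjective Q₀).choose⟩,
    ⟨fun a b => hh.injective (toSpPt_bijective.injective (Subsingleton.elim _ _))⟩, hz⟩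

end Groth.Agent.StFib.Gerbe

end
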