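import Groth.Agent.StFib.Gerbe.Stratum
import Groth.Agent.StFib.Gerbe.Residual
import Groth.Agent.StFib.Gerbe.ResSub

/-!
# Residual gerbes of stacks with quasi-compact inertia
-/

set_option autoImplicit false
set_option linter.unusedVariables false
set_option linter.style.haveILetI false
set_option backward.isDefEq.respectTransparency false
set_option backward.isDefEq.respectTransparency.types false

universe u

open CategoryTheory CategoryTheory.Limits AlgebraicGeometry Opposite FibCat TopologicalSpace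

noncomputable section

namespace Groth.Agent.StFib.Gerbe

variable {S : Scheme.{u}} {𝒳 𝒵 : AlgSt.Cat S}

local notation "K" => Scheme.fppfPrecoverage

/-- A residual gerbe maps to a residual gerbe along a monomorphism. -/
theorem resGerbeExists_of_isMono (h𝒳 : AlgSt.IsAlgStack K 𝒳) (h𝒵 : AlgSt.IsAlgStack K 𝒵) {j : 𝒵 ⥤ᵇ 𝒳}
    (hj : AlgSt.IsMono j) {z : AlgSt.Points 𝒵} (h : Gerb.ResGerbeExists K 𝒵 z) :
    Gerb.ResGerbeExists K 𝒳 (AlgSt.Points.map j z) := by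
  obtain ⟨ℛ, g, hℛ, hg, hne, hss, hgz⟩ := h
  obtain ⟨hfull, hfaith⟩ := fullyFaithful_of_isMono h𝒵.isStack.1 h𝒳.isStack.1 j hj
  obtain ⟨hfull', hfaith'⟩ := fullyFaithful_of_isMono hℛ.isStack.1 h𝒵.isStack.1 g hg
  haveI : (BasedFunctor.comp g j).toFunctor.Full := inferInstanceAs (g.toFunctor ⋙ j.toFunctor).Full
  haveI : (BasedFunctor.comp g j).toFunctor.Faithful := inferInstanceAs (g.toFunctor ⋙ j.toFunctor).Faithful
  refine ⟨ℛ, BasedFunctor.comp g j, hℛ, isMono_of_fullyFaithful hℛ h𝒳 _, hne, hss, fun r => ?_⟩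
  rw [points_map_comp]
  exact congrArg _ (hgz r)

theorem resGerbeExists_of_qcInertia (h𝒳 : AlgSt.IsAlgStack K 𝒳)
    (hI : AlgSt.IsQuasiCompactMor K (inertiaToBase (toSelf 𝒳))) (x : AlgSt.Points 𝒳) :
    Gerb.ResGerbeExists K 𝒳 x := by
  obtain ⟨QZ, ⟨hQi, hZ, hcl⟩, hrange, hred⟩ :=
    exists_reduced_closedSubstack h𝒳 (closure {x}) isClosed_closure
  let i := AlgSt.subIncl 𝒳 QZ
  obtain ⟨L, ee, hcart⟩ := exists_inertia_sub_cart (𝒳 := 𝒳) QZ
  obtain ⟨Ω, hΩ, hdense, hgerbe⟩ := exists_dense_gerbe hZ hred (isQuasiCompactMor_of_cart _ _ _ hcart hI)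
  obtain ⟨q, hq⟩ : x ∈ Set.range (AlgSt.Points.map i) := hrange.symm ▸ subset_closure rfl
  have hmono := subIncl_isMono hZ h𝒳
  have hinj := points_map_injective_of_isMono hZ.isStack.1 h𝒳.isStack.1 i hmono
  have hqΩ : q ∈ Ω := by
    by_contra hqn
    haveI : Nonempty (AlgSt.Points (AlgSt.fullSub 𝒳 QZ)) := ⟨q⟩
    obtain ⟨r, hr⟩ := hdense.nonempty
    have h1 : closure {x} ⊆ AlgSt.Points.map i '' Ωᶜ :=
      closure_minimal (Set.singleton_subset_iff.2 ⟨q, hqn, hq⟩)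
        (isClosedMap_of_isClosedImm hZ h𝒳 hcl _ hΩ.isClosed_compl)
    obtain ⟨r', hr', he⟩ := h1 (hrange.le ⟨r, rfl⟩)
    exact hr' ((hinj he).symm ▸ hr)
  obtain ⟨-, hA, -⟩ := isOpenSubstack_ptsProp hZ hΩ
  let j := AlgSt.subIncl (AlgSt.fullSub 𝒳 QZ) (ptsProp Ω)
  obtain ⟨p, hp⟩ : q ∈ Set.range (AlgSt.Points.map j) := by
    rw [range_subIncl_ptsProp Ω hZ.isStack.1]; exact hqΩ
  obtain ⟨X, π, hπ⟩ := hgerbe Ω hΩ le_rfl
  have := resGerbeExists_of_isMono h𝒳 hZ hmono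
    (resGerbeExists_of_isMono hZ hA (subIncl_isMono hA hZ) (resGerbeExists_of_gerbe hA X π hπ p))
  rwa [hp, hq] at this

end Groth.Agent.StFib.Gerbe

end
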