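import Groth.Agent.StFib.Gerbe.Isolated
import Groth.Agent.StFib.LqfSlice.Pairs
import Groth.Agent.StFib.LqfSlice.Main

/-!
# Residual gerbes of quasi-DM stacks
-/

set_option autoImplicit false
set_option linter.unusedVariables false
set_option linter.style.haveILetI false
set_option backward.isDefEq.respectTransparency false
set_option backward.isDefEq.respectTransparency.types false

universe u

open CategoryTheory CategoryTheory.Limits AlgebraicGeometry Opposite FibCat TopologicalSpace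

noncomputable section

namespace Groth.Agent.StFib.Gerbe

variable {S : Scheme.{u}} {𝒳 : AlgSt.Cat S}

local notation "K" => Scheme.fppfPrecoverage

/-- An etale chart of a fibre of a quasi-DM stack is quasi-finite over the product. -/
theorem exists_lqf_pair (hqf : AlgSt.IsQuasiDMOver 𝒳) (h𝒳 : AlgSt.IsAlgStack K 𝒳) {T U W : Over S}
    {z : overCat T ⥤ᵇ 𝒳} {x : overCat U ⥤ᵇ 𝒳} (w : overCat W ⥤ᵇ fp z x)
    (hw : AlgSt.RepByAlgSpWith (AlgSp.LocP @Etale) w) {d : W ⟶ T} {c : W ⟶ U}
    (id' : BasedFunctor.comp w (fpFst z x) ≅ AlgSt.overMap d)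
    (ic : BasedFunctor.comp w (fpSnd z x) ≅ AlgSt.overMap c) :
    ∃ (P : Over S) (p₁ : P ⟶ U) (p₂ : P ⟶ T) (b : W ⟶ P), b ≫ p₁ = c ∧ b ≫ p₂ = d ∧
      IsPullback p₁.left p₂.left U.hom T.hom ∧ LocallyQuasiFinite b.left := by
  let O : Over S := Over.mk (𝟙 S)
  let hT : T ⟶ O := Over.homMk T.hom (Category.comp_id _)
  let hU : U ⟶ O := Over.homMk U.hom (Category.comp_id _)
  obtain ⟨N, hN, ⟨n₁⟩, ⟨n₂⟩⟩ := exists_equiv_pullback hT hU
  have hu : ∀ {T : Over S} (a b : T ⟶ O), a = b := fun a b =>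
    Over.OverMorphism.ext (((Category.comp_id _).symm.trans (Over.w a)).trans
      ((Over.w b).symm.trans (Category.comp_id _)))
  have : (toSelf (overCat O)).toFunctor.Faithful := ⟨fun h => Over.OverMorphism.ext h⟩
  have : (toSelf (overCat O)).toFunctor.Full := ⟨fun {a b} g => ⟨Over.homMk g (hu _ _), rfl⟩⟩
  let q : 𝒳 ⥤ᵇ selfOver (C := Over S) := toSelf 𝒳
  let zt := BasedFunctor.comp z q
  let xt := BasedFunctor.comp x q
  obtain ⟨iT⟩ := exists_iso_toSelf (BasedFunctor.comp (AlgSt.overMap hT) (toSelf (overCat O)))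
  obtain ⟨iU⟩ := exists_iso_toSelf (BasedFunctor.comp (AlgSt.overMap hU) (toSelf (overCat O)))
  obtain ⟨jT⟩ := exists_iso_toSelf zt
  obtain ⟨jU⟩ := exists_iso_toSelf xt
  let M := fpMap (F := zt) (G := xt) (F' := AlgSt.overMap hT) (G' := AlgSt.overMap hU) (BasedFunctor.id _)
    (BasedFunctor.id _) (toSelf (overCat O)) (jT ≪≫ iT.symm) (jU ≪≫ iU.symm)
  have hNE : IsEquivOver (BasedFunctor.comp N M) :=
    isEquivOver_comp hN (fpMap_isEquivOver _ _ _ _ _ (isEquivOver_id _) (isEquivOver_id _))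
  obtain ⟨d', hd', -, ⟨jd⟩⟩ := isEquivOver_symm hNE
  let u : fp z x ⥤ᵇ fp zt xt := fpLift (fpFst z x) (fpSnd z x) (isoWhiskerRight (fpIso z x) q)
  have sP := Groth.Agent.AlgSpCov.standard_locallyQuasiFinite.{u}
  have hu' : AlgSt.RepByAlgSpWith (AlgSp.LocP (@LocallyQuasiFinite ⊓ @LocallyOfFiniteType)) u := by
    have hcart := comp_cart z x q (isoWhiskerRight (fpIso z x) q) fun _ => rfl
    exact (repByAlgSpWith_iff_of_equiv _ _ (BasedFunctor.id _) hcart (isEquivOver_id _)
      (f := fpFst (compPhi z x q) (diag q)) (f' := u) (Iso.refl _)).1 (repByAlgSpWith_fpFst _ _ hqf)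
  have hM : IsFibGrpd (fp z x).p := isFibGrpd_fp (isFibGrpd_overCat T) (isFibGrpd_overCat U) h𝒳.isStack.1 z x
  let Ψ := BasedFunctor.comp w (BasedFunctor.comp u d')
  obtain ⟨b, ⟨ib⟩⟩ := exists_iso_overMap Ψ
  have hb : (@LocallyQuasiFinite ⊓ @LocallyOfFiniteType : MorphismProperty Scheme) b.left :=
    mem_scheme_of_overMap sP (repByAlgSpWith_of_iso _ ib (repByAlgSpWith_comp (good_locP sP).bc (good_locP sP).comp
      (good_locP sP).det (isFibGrpd_overCat W) hM
      (repByAlgSpWith_mono hw fun F W m hm A B a b k ha hb e => sP.of_etale _ (hm a b k ha hb e))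
      (SliceDM.repByAlgSpWith_comp_equiv' hu' hd')))
  have key : BasedFunctor.comp (AlgSt.overMap b) (BasedFunctor.comp N M) ≅ BasedFunctor.comp w u :=
    isoWhiskerRight ib.symm (BasedFunctor.comp N M) ≪≫ isoWhiskerLeft (BasedFunctor.comp w u) jd
  refine ⟨pullback hT hU, pullback.snd hT hU, pullback.fst hT hU, b, ?_, ?_,
    ((IsPullback.of_hasPullback hT hU).map (Over.forget S)).flip, hb.1⟩
  · exact overMap_injective (overMapCompIso _ _ ≪≫ isoWhiskerLeft (AlgSt.overMap b) n₂.symm ≪≫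
      isoWhiskerRight key (fpSnd zt xt) ≪≫ ic)
  · exact overMap_injective (overMapCompIso _ _ ≪≫ isoWhiskerLeft (AlgSt.overMap b) n₁.symm ≪≫
      isoWhiskerRight key (fpFst zt xt) ≪≫ id')

theorem isClosed_of_isolated {W : Scheme.{u}} [IsLocallyNoetherian W] [JacobsonSpace W] {D A : Set W}
    (hD : IsClosed D) (hA : A ⊆ D) (h : ∀ w ∈ A, ∃ O : Set W, IsOpen O ∧ O ∩ D = {w}) : IsClosed A := by
  refine ⟨?_⟩
  rw [isOpen_iff_forall_mem_open]
  intro p hp
  obtain ⟨N, hN, hpN, -⟩ := exists_isAffineOpen_mem_and_subset (x := p) (U := (⊤ : W.Opens)) trivial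
  haveI : IsAffine N.toScheme := hN
  haveI : IsLocallyNoetherian N.toScheme := isLocallyNoetherian_of_isOpenImmersion N.ι
  haveI : IsNoetherian N.toScheme := {}
  haveI : IsNoetherianRing Γ(W, N) := IsLocallyNoetherian.component_noetherian ⟨N, hN⟩
  haveI : NoetherianSpace N := noetherianSpace_of_isAffineOpen N hN
  have hc : IsCompact ((N : Set W) ∩ A) := by
    have := IsCompact.image (@NoetherianSpace.isCompact _ _ (noetherianSpace_of_isAffineOpen N hN)
      ((Subtype.val : N → W) ⁻¹' A)) continuous_subtype_val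
    rwa [Set.image_preimage_eq_inter_range, Subtype.range_coe, Set.inter_comm] at this
  choose O hO hOw using h
  obtain ⟨t, ht⟩ := hc.elim_finite_subcover (fun w : A => O w.1 w.2) (fun w => hO w.1 w.2)
    (fun w hw => Set.mem_iUnion.2 ⟨⟨w, hw.2⟩, ((hOw w hw.2).ge rfl).1⟩)
  have hfin : ((N : Set W) ∩ A).Finite := Set.Finite.subset ((t.finite_toSet.image Subtype.val)) fun w hw => by
    obtain ⟨a, ha, hwa⟩ := Set.mem_iUnion₂.1 (ht hw)
    exact ⟨a, ha, ((hOw a.1 a.2).le ⟨hwa, hA hw.2⟩).symm⟩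
  have hpt : ∀ w ∈ A, IsClosed ({w} : Set W) := fun w hw =>
    isClosed_singleton_of_isLocallyClosed_singleton (hOw w hw ▸ ((hO w hw).isLocallyClosed.inter hD.isLocallyClosed))
  refine ⟨(N : Set W) \ ((N : Set W) ∩ A), fun q hq hqA => hq.2 ⟨hq.1, hqA⟩,
    N.isOpen.sdiff ?_, hpN, fun h => hp h.2⟩
  rw [← Set.biUnion_of_singleton ((N : Set W) ∩ A)]
  exact hfin.isClosed_biUnion fun w hw => hpt w hw.2

/-- Residual gerbes of quasi-DM stacks exist. -/
theorem resGerbeExists_of_quasiDM (h𝒳 : AlgSt.IsAlgStack K 𝒳) (hqf : AlgSt.IsQuasiDMOver 𝒳)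
    (P : AlgSt.Points 𝒳) : Gerb.ResGerbeExists K 𝒳 P := by
  obtain ⟨U, x, hx, hxs⟩ := h𝒳.atlas
  obtain ⟨u₀, rfl⟩ := ofChart_surjective h𝒳.isStack.1 hxs P
  have hxl : AlgSt.RepByAlgSpWith (AlgSp.LocP @LocallyOfFiniteType) x :=
    repByAlgSpWith_mono (repByAlgSpWith_lfp_of_smooth hx) fun F W m hm A B a b k ha hb e =>
      have : LocallyOfFinitePresentation k.left := hm a b k ha hb e
      inferInstance
  have sT := Groth.Agent.AlgSpCov.standard_locallyOfFiniteType.{u}
  have hz : ∀ (v : U.left) (t : (resPt U v).left),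
      AlgSt.Points.ofChart (BasedFunctor.comp (AlgSt.overMap (resIncl U v)) x) t = AlgSt.Points.ofChart x v :=
    fun v t => (ofChart_overMap x (resIncl U v) t).trans (congrArg _ (Scheme.fromSpecResidueField_apply v t))
  -- charts of fibres
  have chart : ∀ v : U.left, ∃ (W : Over S)
      (w : overCat W ⥤ᵇ fp (BasedFunctor.comp (AlgSt.overMap (resIncl U v)) x) x) (d : W ⟶ resPt U v) (c : W ⟶ U)
      (id' : BasedFunctor.comp w (fpFst _ x) ≅ AlgSt.overMap d)
      (ic : BasedFunctor.comp w (fpSnd _ x) ≅ AlgSt.overMap c),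
      AlgSt.RepByAlgSpWith (AlgSp.LocP @Etale) w ∧ AlgSt.RepByAlgSpWith AlgSp.IsSurjectiveMor w ∧
      LocallyOfFiniteType d.left ∧
      ∀ p, AlgSt.Points.ofChart x (c.left p) = AlgSt.Points.ofChart x v := by
    intro v
    let z := BasedFunctor.comp (AlgSt.overMap (resIncl U v)) x
    obtain ⟨W, w, hw, hws⟩ := exists_etale_atlas (repByAlgSp1_chart h𝒳 x (resPt U v) z)
    obtain ⟨d, ⟨id'⟩⟩ := exists_iso_overMap (BasedFunctor.comp w (fpFst z x))
    obtain ⟨c, ⟨ic⟩⟩ := exists_iso_overMap (BasedFunctor.comp w (fpSnd z x))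
    have hM : IsFibGrpd (fp z x).p := isFibGrpd_fp (isFibGrpd_overCat _) (isFibGrpd_overCat U) h𝒳.isStack.1 z x
    refine ⟨W, w, d, c, id', ic, hw, hws, mem_scheme_of_overMap sT (repByAlgSpWith_of_iso _ id'
      (repByAlgSpWith_comp (good_locP sT).bc (good_locP sT).comp (good_locP sT).det (isFibGrpd_overCat W) hM
        (repByAlgSpWith_mono hw fun F W m hm A B a b k ha hb e => sT.of_etale _ (hm a b k ha hb e))
        (repByAlgSpWith_fpFst _ z hxl))), fun p => ?_⟩
    rw [← ofChart_overMap x c]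
    refine (congrFun (ofChart_congr (isoWhiskerRight ic.symm x ≪≫ isoWhiskerLeft w (fpIso z x).symm ≪≫
      isoWhiskerRight id' z)) p).trans ?_
    rw [ofChart_overMap]
    exact hz v _
  obtain ⟨W, w, d, c, id', ic, hw, hws, hd, hcx⟩ := chart u₀
  obtain ⟨Pp, p₁, p₂, b, hb₁, hb₂, sq, hbq⟩ := exists_lqf_pair hqf h𝒳 w hw id' ic
  haveI := hd
  haveI : IsLocallyNoetherian (resPt U u₀).left :=
    inferInstanceAs (IsLocallyNoetherian (Spec (U.left.residueField u₀)))
  haveI : IsLocallyNoetherian W.left := LocallyOfFiniteType.isLocallyNoetherian d.left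
  haveI : JacobsonSpace (resPt U u₀).left := inferInstanceAs (JacobsonSpace (PrimeSpectrum (U.left.residueField u₀)))
  haveI : JacobsonSpace W.left := LocallyOfFiniteType.jacobsonSpace d.left
  -- a point over the given one
  let z₀ := BasedFunctor.comp (AlgSt.overMap (resIncl U u₀)) x
  obtain ⟨P₀, -, -⟩ := exists_points_fp_of_map_eq (isFibGrpd_overCat U) (isFibGrpd_overCat _) h𝒳.isStack.1 x z₀
    (AlgSt.Points.ofChart (BasedFunctor.id _) (IsLocalRing.closedPoint (U.left.residueField u₀)))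
    (AlgSt.Points.ofChart (BasedFunctor.id _) u₀)
    ((ofChart_eq_map z₀ _).symm.trans ((hz u₀ _).trans (ofChart_eq_map x _)))
  obtain ⟨w₀, -⟩ := ofChart_surjective (isFibGrpd_fp (isFibGrpd_overCat _) (isFibGrpd_overCat U) h𝒳.isStack.1 z₀ x)
    hws P₀
  obtain ⟨O, hO, hw₀, -⟩ := exists_isAffineOpen_mem_and_subset (x := w₀) (U := (⊤ : W.left.Opens)) trivial
  haveI : IsAffine O.toScheme := hO
  haveI : IsLocallyNoetherian O.toScheme := isLocallyNoetherian_of_isOpenImmersion O.ι
  haveI : IsNoetherian O.toScheme := {}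
  haveI : IsNoetherianRing Γ(W.left, O) := IsLocallyNoetherian.component_noetherian ⟨O, hO⟩
  haveI : NoetherianSpace O := noetherianSpace_of_isAffineOpen O hO
  haveI : QuasiSober O := inferInstanceAs (QuasiSober O.toScheme)
  -- a minimal trace
  let tr : Closeds U.left → Closeds O :=
    fun C => ⟨(fun o : O => c.left o.1) ⁻¹' C, C.isClosed.preimage (c.left.continuous.comp continuous_subtype_val)⟩
  obtain ⟨M, ⟨C, hC, rfl⟩, hmin⟩ := (wellFounded_lt (α := Closeds O)).has_min
    (tr '' {C | ((tr C : Closeds O) : Set O).Nonempty}) ⟨_, ⊤, ⟨⟨w₀, hw₀⟩, trivial⟩, rfl⟩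
  obtain ⟨m, hm⟩ := hC
  let v := c.left m.1
  have hle : ∀ o : O, o ∈ tr C → c.left o.1 = v := by
    intro o ho
    have key : ∀ a b : O, a ∈ tr C → b ∈ tr C → c.left b.1 ∈ closure {c.left a.1} := by
      intro a b ha hb
      let C' : Closeds U.left := ⟨closure {c.left a.1}, isClosed_closure⟩
      have h1 : tr C' ≤ tr C := fun p hp => (closure_minimal (show ({c.left a.1} : Set U.left) ⊆ C from Set.singleton_subset_iff.2 ha) C.isClosed) hp
      have h2 : tr C' = tr C := by
        by_contra hne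
        exact hmin _ ⟨C', ⟨a, subset_closure rfl⟩, rfl⟩ (lt_of_le_of_ne h1 hne)
      exact h2.ge hb
    exact ((specializes_iff_mem_closure.2 (key m o hm ho)).antisymm (specializes_iff_mem_closure.2 (key o m ho hm))).eq.symm
  let Z : Set U.left := closure {v}
  have hZC : Z ⊆ C := closure_minimal (Set.singleton_subset_iff.2 hm) C.isClosed
  let D : Set O := (fun o : O => c.left o.1) ⁻¹' Z
  have hDclosed : IsClosed D := isClosed_closure.preimage (c.left.continuous.comp continuous_subtype_val)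
  have hclosedpt : ∀ o ∈ D, closure ({o} : Set O) = {o} := fun o ho => by
    refine Set.Subset.antisymm (fun o' ho' => ?_) subset_closure
    have hs : o.1 ⤳ o'.1 := (specializes_iff_mem_closure.2 ho').map continuous_subtype_val
    refine Subtype.ext (Eq.symm ?_)
    haveI : LocallyQuasiFinite b.left := hbq
    haveI : LocallyOfFiniteType (b.left ≫ p₂.left) := by
      rw [← Over.comp_left, hb₂]; infer_instance
    refine eq_of_specializes_over_point sq b.left hO v o.2 o'.2 hs fun w' hw' hs' => ?_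
    change (b ≫ p₁).left w' = v
    rw [hb₁]
    refine hle ⟨w', hw'⟩ (hZC ?_)
    have h1 : c.left o.1 ⤳ c.left w' := hs'.map c.left.continuous
    exact closure_minimal (show ({c.left o.1} : Set U.left) ⊆ Z from Set.singleton_subset_iff.2 ho) isClosed_closure
      (specializes_iff_mem_closure.1 h1)
  obtain ⟨S', hS'fin, hS'c, hS'i, hDS⟩ := NoetherianSpace.exists_finite_set_isClosed_irreducible hDclosed
  have hsingle : ∀ s ∈ S', ∃ o, s = {o} := fun s hs => by
    obtain ⟨η, hη⟩ := QuasiSober.sober (hS'i s hs) (hS'c s hs)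
    have hηD : η ∈ D := hDS ▸ Set.mem_sUnion.2 ⟨s, hs, hη.mem⟩
    exact ⟨η, hη.symm.trans (hclosedpt η hηD)⟩
  have hDfin : D.Finite := by
    rw [hDS]
    exact hS'fin.sUnion fun s hs => by obtain ⟨o, rfl⟩ := hsingle s hs; exact Set.finite_singleton o
  have hmD : m ∈ D := subset_closure rfl
  have hrest : IsClosed (D \ {m}) := by
    rw [← Set.biUnion_of_singleton (D \ {m})]
    exact (hDfin.sdiff).isClosed_biUnion fun o ho => hclosedpt o ho.1 ▸ isClosed_closure
  have hiso : ∃ Os : Set W.left, IsOpen Os ∧ Os ∩ c.left ⁻¹' Z = {m.1} := by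
    refine ⟨Subtype.val '' (D \ {m})ᶜ, O.isOpen.isOpenMap_subtype_val _ hrest.isOpen_compl, ?_⟩
    refine Set.Subset.antisymm ?_ (Set.singleton_subset_iff.2 ⟨⟨m, fun h => h.2 rfl, rfl⟩, hmD⟩)
    rintro _ ⟨⟨o, ho, rfl⟩, hoZ⟩
    by_contra hne
    exact ho ⟨hoZ, fun h => hne (congrArg Subtype.val h)⟩
  have hmclosed : IsClosed ({m.1} : Set W.left) := by
    obtain ⟨Os, h1, h2⟩ := hiso
    exact isClosed_singleton_of_isLocallyClosed_singleton
      (h2 ▸ h1.isLocallyClosed.inter (isClosed_closure.preimage c.left.continuous).isLocallyClosed)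
  have hqm : LocallyQuasiFinite (W.left.fromSpecResidueField m.1 ≫ d.left) := by
    refine LqfSlice.lqf_fromSpecResidueField_comp d.left m.1 ?_
    have : ({d.left.asFiber m.1} : Set (d.left.fiber (d.left m.1))) = d.left.fiberι _ ⁻¹' {m.1} := by
      ext p
      constructor
      · rintro rfl
        exact Scheme.Hom.fiberι_asFiber _ _
      · intro hp
        exact (d.left.fiberι _).isEmbedding.injective (hp.trans (Scheme.Hom.fiberι_asFiber _ _).symm)
    rw [this]
    exact hmclosed.preimage (d.left.fiberι _).continuous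
  -- the chart at the new point
  obtain ⟨W₁, w₁, d₁, c₁, id₁, ic₁, hw₁, hws₁, hd₁, -⟩ := chart v
  haveI := hd₁
  haveI : IsLocallyNoetherian (resPt U v).left :=
    inferInstanceAs (IsLocallyNoetherian (Spec (U.left.residueField v)))
  haveI : IsLocallyNoetherian W₁.left := LocallyOfFiniteType.isLocallyNoetherian d₁.left
  haveI : JacobsonSpace (resPt U v).left := inferInstanceAs (JacobsonSpace (PrimeSpectrum (U.left.residueField v)))
  haveI : JacobsonSpace W₁.left := LocallyOfFiniteType.jacobsonSpace d₁.left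
  have hclosed : IsClosed (c₁.left ⁻¹' {v}) :=
    isClosed_of_isolated (isClosed_closure.preimage c₁.left.continuous) (Set.preimage_mono subset_closure)
      fun p hp => isolated_translate h𝒳 (F₁ := U.left.residueField v) rfl w hw id' ic w₁ hw₁ id₁ ic₁ m.1 p
        (Eq.symm hp) hqm hiso
  have hvx : AlgSt.Points.ofChart x v = AlgSt.Points.ofChart x u₀ := hcx m.1
  let z₁ := BasedFunctor.comp (AlgSt.overMap (resIncl U v)) x
  have hwsm : AlgSt.RepByAlgSpWith (AlgSp.LocP @Smooth) w₁ :=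
    repByAlgSpWith_mono hw₁ fun F W m hm A B a b k ha hb e =>
      Groth.Agent.AlgSpCov.standard_smooth.of_etale _ (hm a b k ha hb e)
  have := resGerbeExists_of_closed_chart h𝒳 x hxl v (BasedFunctor.comp w₁ (fpSwap z₁ x))
    (SliceDM.repByAlgSpWith_comp_equiv' hwsm (fpSwap_isEquivOver z₁ x))
    (SliceDM.repByAlgSpWith_comp_equiv' hws₁ (fpSwap_isEquivOver z₁ x)) (c := c₁) ic₁ hclosed
  rwa [hvx] at this

end Groth.Agent.StFib.Gerbe

end
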