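import Groth.Agent.StFib.Gerbe.ResPoint

/-!
# Residual gerbes of locally Noetherian stacks
-/

set_option autoImplicit false
set_option linter.unusedVariables false
set_option linter.style.haveILetI false
set_option backward.isDefEq.respectTransparency false
set_option backward.isDefEq.respectTransparency.types false

universe u

open CategoryTheory CategoryTheory.Limits AlgebraicGeometry Opposite FibCat TopologicalSpace

noncomputable section

namespace Groth.Agent.StFib.Gerbe

variable {S : Scheme.{u}} {𝒳 : AlgSt.Cat S}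

local notation "K" => Scheme.fppfPrecoverage

theorem exists_minimal_specialization {X : Type*} [TopologicalSpace X] [T0Space X] [NoetherianSpace X]
    {A : Set X} (hA : A.Nonempty) : ∃ p ∈ A, ∀ q ∈ A, p ⤳ q → q = p := by
  obtain ⟨a, ha⟩ := hA
  obtain ⟨C, ⟨p, hp, rfl⟩, hmin⟩ := (wellFounded_lt (α := Closeds X)).has_min
    ((fun p => (⟨closure {p}, isClosed_closure⟩ : Closeds X)) '' A) ⟨_, a, ha, rfl⟩
  refine ⟨p, hp, fun q hq hpq => ?_⟩
  have hle : closure {q} ⊆ closure {p} := specializes_iff_closure_subset.1 hpq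
  have heq : closure {q} = closure {p} := by
    by_contra hne
    exact hmin ⟨closure {q}, isClosed_closure⟩ ⟨q, hq, rfl⟩
      (lt_of_le_of_ne (by exact hle) fun h => hne (congrArg Closeds.carrier h))
  exact ((specializes_iff_closure_subset.2 heq.ge).antisymm hpq).eq

theorem resGerbeExists_of_locallyNoetherian (h𝒳 : AlgSt.IsAlgStack K 𝒳)
    (hN : AlgSt.SmoothLocally (fun T => IsLocallyNoetherian T) 𝒳) (P : AlgSt.Points 𝒳) :
    Gerb.ResGerbeExists K 𝒳 P := by
  obtain ⟨U, x, hx, hxs⟩ := h𝒳.atlas
  obtain ⟨u₀, rfl⟩ := ofChart_surjective h𝒳.isStack.1 hxs P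
  obtain ⟨O, hO, hu, -⟩ := exists_isAffineOpen_mem_and_subset (x := u₀) (U := (⊤ : U.left.Opens)) trivial
  let T : Over S := Over.mk (O.ι ≫ U.hom)
  let o : T ⟶ U := Over.homMk O.ι rfl
  haveI : IsOpenImmersion o.left := inferInstanceAs (IsOpenImmersion O.ι)
  haveI : IsLocallyNoetherian U.left := hN U x hx
  haveI : IsAffine T.left := hO
  haveI : IsLocallyNoetherian T.left := inferInstanceAs (IsLocallyNoetherian O.toScheme)
  haveI : IsNoetherian T.left := {}
  let x' := BasedFunctor.comp (AlgSt.overMap o) x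
  have hx' := smooth_chart_comp o hx
  let t₀ : T.left := ⟨u₀, hu⟩
  have ht₀ : AlgSt.Points.ofChart x' t₀ = AlgSt.Points.ofChart x u₀ := ofChart_overMap x o t₀
  obtain ⟨p, hp, hmin⟩ := exists_minimal_specialization
    (A := {t : T.left | AlgSt.Points.ofChart x' t = AlgSt.Points.ofChart x u₀}) ⟨t₀, ht₀⟩
  have hxl : AlgSt.RepByAlgSpWith (AlgSp.LocP @LocallyOfFiniteType) x' :=
    repByAlgSpWith_mono (repByAlgSpWith_lfp_of_smooth hx') fun F W m hm A B a b k ha hb e =>
      have : LocallyOfFinitePresentation k.left := hm a b k ha hb e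
      inferInstance
  have := resGerbeExists_of_closed_in_orbit h𝒳 x' hxl p fun v hv he => hmin v (he.trans hp) hv
  rwa [hp] at this

end Groth.Agent.StFib.Gerbe

end
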