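import Groth.Agent.StFib.Gerbe.AlgGerbe
import Groth.Agent.StFib.GenInertia
import Groth.Agent.StFib.DiagLft
import Groth.Agent.StFib.OpenSub
import Groth.Agent.S12768
import Groth.Agent.S0414

/-!
# A reduced stack with quasi-compact inertia is a gerbe over a dense open substack
-/

set_option autoImplicit false
set_option linter.unusedVariables false
set_option linter.style.haveILetI false
set_option backward.isDefEq.respectTransparency false
set_option backward.isDefEq.respectTransparency.types false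

universe u

open CategoryTheory CategoryTheory.Limits AlgebraicGeometry Opposite FibCat TopologicalSpace

noncomputable section

namespace Groth.Agent.StFib.Gerbe

variable {S : Scheme.{u}} {𝒳 𝒴 𝒵 : AlgSt.Cat S}

local notation "K" => Scheme.fppfPrecoverage

/-- A base change along a jointly surjective family with lifts has the property. -/
theorem mem_of_family_lift {P : MorphismProperty (AlgSp.Sp S)} (hPb : StableBC P)
    (hP : AlgSp.IsLocalOnBase AlgSp.IsFppfCover P) {f : 𝒳 ⥤ᵇ 𝒴} {ι : Type u} {T' : ι → Over S}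
    {g : ∀ i, overCat (T' i) ⥤ᵇ 𝒴}
    (h' : ∀ i, AlgSt.RepByAlgSpWith P (fpFst (g i) f)) {U : Over S} {y : overCat U ⥤ᵇ 𝒴} (A : AlgSp.Space S)
    (e : AlgSt.ofSp A.obj ⥤ᵇ fp y f) (he : IsEquivOver e) {W : ι → Over S} (c : ∀ i, W i ⟶ U)
    (hc₁ : ∀ i, Flat (c i).left) (hc₂ : ∀ i, LocallyOfFinitePresentation (c i).left)
    (hc₃ : ∀ t : U.left, ∃ i w, (c i).left w = t) (z : ∀ i, overCat (W i) ⥤ᵇ overCat (T' i))
    (j : ∀ i, BasedFunctor.comp (z i) (g i) ≅ BasedFunctor.comp (AlgSt.overMap (c i)) y) :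
    P (AlgSt.spMapOfOver (BasedFunctor.comp e (fpFst y f))) := by
  have hdet := detected_of_isLocalOnBase hP
  refine (hP (fun i => (AlgSp.yon S).obj (W i)) (fun i => (AlgSp.yon S).map (c i)) (isAlgSpace_yon U)
    (fun _ => isAlgSpace_yon _) ⟨fun i => ⟨?_, ?_⟩, fun t => ?_⟩ _ A.property
    (fun i => pullback _ ((AlgSp.yon S).map (c i))) (fun _ => pullback.snd _ _) (fun _ => pullback.fst _ _)
    (fun _ => Groth.Agent.AlgSp.isAlgSpace_pullback (isAlgSpace_yon U) A.property (isAlgSpace_yon _) _ _)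
    (fun _ => IsPullback.of_hasPullback _ _)).2 fun i => ?_
  · exact Groth.Agent.AlgSpCov.locP_of_repWith Groth.Agent.AlgSpCov.etaleLocal_flat
      ((AlgSp.repWith_yon_map_iff _ _).2 (hc₁ i))
  · exact Groth.Agent.AlgSpCov.locP_of_repWith
      Groth.Agent.AlgSpCov.etaleLocal_locallyOfFinitePresentation
      ((AlgSp.repWith_yon_map_iff _ _).2 (hc₂ i))
  · obtain ⟨x, rfl⟩ := (AlgSp.Points.schemeHomeo U).surjective t
    obtain ⟨i, w, hw⟩ := hc₃ x
    exact ⟨i, AlgSp.Points.schemeHomeo (W i) w, by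
      rw [AlgSp.Points.map_yon_map_apply]
      exact congrArg _ hw⟩
  · exact mem_pullback_of_lift hPb hdet (h' i) A e he (c i) (z i) (j i)

/-- Generic flatness of the inertia over an affine chart. -/
theorem exists_dense_flat_inertia (h𝒳 : AlgSt.IsAlgStack K 𝒳)
    (hI : AlgSt.IsQuasiCompactMor K (inertiaToBase (toSelf 𝒳)))
    {T : Over S} [IsAffine T.left] [IsReduced T.left] (x : overCat T ⥤ᵇ 𝒳)
    (hx : AlgSt.RepByAlgSpWith (AlgSp.LocP @Smooth) x) :
    ∃ (D : T.left.Opens) (o : Over.mk (D.ι ≫ T.hom) ⟶ T), o.left = D.ι ∧ Dense (D : Set T.left) ∧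
      AlgSt.RepByAlgSpWith (AlgSp.LocP @Smooth) (BasedFunctor.comp (AlgSt.overMap o) x) ∧
      AlgSt.RepByAlgSpWith (AlgSp.LocP @Flat)
        (fpFst (BasedFunctor.comp (AlgSt.overMap o) x) (inertiaToBase (toSelf 𝒳))) ∧
      AlgSt.RepByAlgSpWith (AlgSp.LocP @LocallyOfFinitePresentation)
        (fpFst (BasedFunctor.comp (AlgSt.overMap o) x) (inertiaToBase (toSelf 𝒳))) := by
  let I := inertiaToBase (toSelf 𝒳)
  have hlft : AlgSt.RepByAlgSpWith (AlgSp.LocP @LocallyOfFiniteType) I :=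
    inertiaToBase_mem _ (lft_diag h𝒳 isAlgStack_selfOver (toSelf 𝒳))
  have hIst := isAlgStack_inertia h𝒳 isAlgStack_selfOver (toSelf 𝒳)
  obtain ⟨V, v, hV, hv, hvs⟩ := hI _ (isAlgStack_overCat T) (isQuasiCompact_overCat T) x
  have hM : IsFibGrpd (fp x I).p :=
    isFibGrpd_fp (isFibGrpd_overCat T) hIst.isStack.1 h𝒳.isStack.1 x I
  obtain ⟨c, ⟨ic⟩⟩ := exists_iso_overMap (BasedFunctor.comp v (fpFst x I))
  have sT := Groth.Agent.AlgSpCov.standard_locallyOfFiniteType.{u}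
  haveI : LocallyOfFiniteType c.left := mem_scheme_of_overMap sT
    (repByAlgSpWith_of_iso _ ic (repByAlgSpWith_comp (good_locP sT).bc (good_locP sT).comp (good_locP sT).det
      (isFibGrpd_overCat V) hM
      (repByAlgSpWith_mono (repByAlgSpWith_lfp_of_smooth hv) fun F W m hm A B a b k ha hb e =>
        have : LocallyOfFinitePresentation k.left := hm a b k ha hb e
        inferInstance)
      (repByAlgSpWith_fpFst _ x hlft)))
  haveI : QuasiCompact c.left := inferInstance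
  obtain ⟨D, hD, hfl, hfp⟩ := Groth.Agent.S0414.result c.left
  let U0 : Over S := Over.mk (D.ι ≫ T.hom)
  let o : U0 ⟶ T := Over.homMk D.ι rfl
  haveI : IsOpenImmersion o.left := inferInstanceAs (IsOpenImmersion D.ι)
  let x0 := BasedFunctor.comp (AlgSt.overMap o) x
  have hx0 : AlgSt.RepByAlgSpWith (AlgSp.LocP @Smooth) x0 := smooth_chart_comp o hx
  let Y0 : Over S := Over.mk ((c.left ⁻¹ᵁ D).ι ≫ V.hom)
  let h0 : Y0 ⟶ U0 := Over.homMk (c.left ∣_ D) (by
    change (c.left ∣_ D) ≫ D.ι ≫ T.hom = (c.left ⁻¹ᵁ D).ι ≫ V.hom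
    rw [← Category.assoc, morphismRestrict_ι, Category.assoc, Over.w c])
  let r : Y0 ⟶ V := Over.homMk (c.left ⁻¹ᵁ D).ι rfl
  have sq0 : IsPullback h0 r o c := IsPullback.of_map (Over.forget S)
    (Over.OverMorphism.ext (morphismRestrict_ι _ _)) (isPullback_morphismRestrict c.left D)
  obtain ⟨N, hN, ⟨iN⟩, -⟩ := exists_equiv_pullback o c
  haveI : (BasedFunctor.id (overCat T)).toFunctor.Full := inferInstanceAs (𝟭 _).Full
  haveI : (BasedFunctor.id (overCat T)).toFunctor.Faithful := inferInstanceAs (𝟭 _).Faithful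
  let M1 := fpMap (F := AlgSt.overMap o) (G := BasedFunctor.comp v (fpFst x I)) (F' := AlgSt.overMap o)
    (G' := AlgSt.overMap c) (BasedFunctor.id _) (BasedFunctor.id _) (BasedFunctor.id _) (Iso.refl _) ic
  have hM1 : IsEquivOver M1 := fpMap_isEquivOver _ _ _ _ _ (isEquivOver_id _) (isEquivOver_id _)
  let M2 := fpMap (F := AlgSt.overMap o) (G := fpFst x I) (F' := AlgSt.overMap o)
    (G' := BasedFunctor.comp v (fpFst x I)) (BasedFunctor.id _) v (BasedFunctor.id _) (Iso.refl _) (Iso.refl _)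
  let p := IsPullback.isoPullback sq0
  let N0 : overCat Y0 ⥤ᵇ fp (AlgSt.overMap o) (BasedFunctor.comp v (fpFst x I)) :=
    BasedFunctor.comp (AlgSt.overMap p.hom) (BasedFunctor.comp N M1)
  have hN0 : IsEquivOver N0 :=
    isEquivOver_comp (isEquivOver_overMap_of_iso p) (isEquivOver_comp hN hM1)
  let w : overCat Y0 ⥤ᵇ fp x0 I := BasedFunctor.comp (BasedFunctor.comp N0 M2) (fpPaste x I (AlgSt.overMap o))
  have hP : ∀ {P : MorphismProperty (AlgSp.Sp S)}, Good P → AlgSt.RepByAlgSpWith P v →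
      AlgSt.RepByAlgSpWith P w := fun {P} hg h => by
    have h2 := repByAlgSpWith_fpMap_right P h (AlgSt.overMap o) (fpFst x I)
    obtain ⟨d, hd, ⟨i₁⟩, -⟩ := isEquivOver_symm (fpPaste_isEquivOver x I (AlgSt.overMap o))
    exact (repByAlgSpWith_iff_of_equiv P N0 d hN0 hd (f := M2) (f' := w)
      (isoWhiskerLeft (BasedFunctor.comp N0 M2) i₁)).1 h2
  let i0 : BasedFunctor.comp w (fpFst x0 I) ≅ AlgSt.overMap h0 :=
    isoWhiskerLeft (AlgSt.overMap p.hom) iN ≪≫ (overMapCompIso _ _).symm ≪≫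
      eqToIso (congrArg AlgSt.overMap (IsPullback.isoPullback_hom_fst sq0))
  have sF := Groth.Agent.AlgSpCov.standard_flat.{u}
  have sL := Groth.Agent.AlgSpCov.standard_locallyOfFinitePresentation.{u}
  have hM0 : IsFibGrpd (fp x0 I).p :=
    isFibGrpd_fp (isFibGrpd_overCat U0) hIst.isStack.1 h𝒳.isStack.1 x0 I
  have hy : AlgSt.RepByAlgSp1 (fpFst x0 I) := repByAlgSp1_of_with (repByAlgSpWith_fpFst _ x0 hlft)
  have hC := (good_locP (S := S) sF).inf (good_locP sL)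
  have hw := repByAlgSpWith_inf (isFibGrpd_overCat Y0) hM0 (good_locP sF) (good_locP sL)
    (hP (good_locP sF) (repByAlgSpWith_flat_of_smooth hv))
    (hP (good_locP sL) (repByAlgSpWith_lfp_of_smooth hv))
  have hws := hP good_surjective hvs
  haveI := AlgSpCov.isLocalAtSource_fppf_flat.{u}
  haveI := AlgSpCov.isLocalAtSource_fppf_locallyOfFinitePresentation.{u}
  haveI : AlgSpCov.Fppf.{u}.ContainsIdentities := ⟨fun X => AlgSpCov.fppf_of_etale (𝟙 X) inferInstance⟩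
  refine ⟨D, o, rfl, hD, hx0, ?_, ?_⟩
  · exact repByAlgSpWith_of_comp_cover (good_locP sF).bc (good_locP sF).det hC
      (fun A B C hA hB hC b a hb hbs hba => locP_of_cover @Flat hA hB hC b a hb hbs hba)
      (isFibGrpd_overCat Y0) hM0 hy hw hws
      (repByAlgSpWith_of_iso _ i0.symm (repByAlgSpWith_overMap_locP sF h0 hfl))
  · exact repByAlgSpWith_of_comp_cover (good_locP sL).bc (good_locP sL).det hC
      (fun A B C hA hB hC b a hb hbs hba => locP_of_cover @LocallyOfFinitePresentation hA hB hC b a hb hbs hba)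
      (isFibGrpd_overCat Y0) hM0 hy hw hws
      (repByAlgSpWith_of_iso _ i0.symm (repByAlgSpWith_overMap_locP sL h0 hfp))

theorem isOpenSubstack_ptsProp (h𝒳 : AlgSt.IsAlgStack K 𝒳) {T : Set (AlgSt.Points 𝒳)} (hT : IsOpen T) :
    AlgSt.IsOpenSubstack 𝒳 (ptsProp T) K :=
  ⟨isClosedUnderIso_ptsProp T,
    Groth.Agent.S12768.result (isFibGrpd_fullSub h𝒳.isStack.1 _ ptsProp_of_hom) h𝒳 _
      (repByAlgSp1_of_with (isOpenImm_subIncl_ptsProp h𝒳 hT)),
    isOpenImm_subIncl_ptsProp h𝒳 hT⟩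

/-- The open substack of a jointly surjective family of charts with flat inertia is a gerbe. -/
theorem isAlgGerbe_ptsProp (h𝒳 : AlgSt.IsAlgStack K 𝒳) {ι : Type u} {T' : ι → Over S}
    (g : ∀ i, overCat (T' i) ⥤ᵇ 𝒳) (hg : ∀ i, AlgSt.RepByAlgSpWith (AlgSp.LocP @Smooth) (g i))
    {Ω : Set (AlgSt.Points 𝒳)} (hΩ : IsOpen Ω) (hcov : Ω ⊆ ⋃ i, Set.range (AlgSt.Points.ofChart (g i)))
    (h₁ : ∀ i, AlgSt.RepByAlgSpWith (AlgSp.LocP @Flat) (fpFst (g i) (inertiaToBase (toSelf 𝒳))))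
    (h₂ : ∀ i, AlgSt.RepByAlgSpWith (AlgSp.LocP @LocallyOfFinitePresentation)
      (fpFst (g i) (inertiaToBase (toSelf 𝒳)))) :
    Gerb.IsAlgGerbe K (AlgSt.fullSub 𝒳 (ptsProp Ω)) := by
  let Q := ptsProp Ω
  have hQ := (isOpenSubstack_ptsProp h𝒳 hΩ).2.1
  have hIr : AlgSt.RepByAlgSp1 (inertiaToBase (toSelf 𝒳)) :=
    repByAlgSp1_of_with (inertiaToBase_mem _ (lft_diag h𝒳 isAlgStack_selfOver (toSelf 𝒳)))
  have key : ∀ {P : MorphismProperty Scheme.{u}}, AlgSpCov.Standard P →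
      AlgSp.IsLocalOnBase AlgSp.IsFppfCover (AlgSp.LocP (S := S) P) →
      (∀ i, AlgSt.RepByAlgSpWith (AlgSp.LocP P) (fpFst (g i) (inertiaToBase (toSelf 𝒳)))) →
      AlgSt.RepByAlgSpWith (AlgSp.LocP P) (inertiaToBase (toSelf (AlgSt.fullSub 𝒳 Q))) := by
    intro P hPs hbase h' T y
    let y' := BasedFunctor.comp y (AlgSt.subIncl 𝒳 Q)
    obtain ⟨L, ee, hcart⟩ := exists_inertia_sub_cart Q
    obtain ⟨G, hG, ⟨iG⟩, -⟩ := exists_fp_of_cart (inertiaToBase (toSelf (AlgSt.fullSub 𝒳 Q))) L ee hcart y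
    obtain ⟨d, hd, -, ⟨jd⟩⟩ := isEquivOver_symm hG
    obtain ⟨A', e', he'⟩ := hIr T y'
    refine ⟨A', BasedFunctor.comp e' d, isEquivOver_comp he' hd, ?_⟩
    have H := fun i => exists_chart_fp h𝒳 (g i) y'
    choose W α c hj hex hc₁ hc₂ _ using H
    have hmem := mem_of_family_lift (good_locP hPs).bc hbase h' A' e' he' c
      (fun i => hc₁ i (repByAlgSpWith_flat_of_smooth (hg i)))
      (fun i => hc₂ i (repByAlgSpWith_lfp_of_smooth (hg i))) (fun t => by
        have hQ' : Q (y'.obj (Over.mk (𝟙 T))) := (y.obj (Over.mk (𝟙 T))).property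
        have ht := (ptsProp_chart_iff h𝒳.isStack.1 y' (Over.mk (𝟙 T)) Ω).1 hQ' t
        obtain ⟨i, v, hv⟩ := Set.mem_iUnion.1 (hcov ht)
        obtain ⟨w, -, hw⟩ := hex i v ((𝟙 T : T ⟶ T).left t) hv
        exact ⟨i, w, hw⟩) (fun i => AlgSt.overMap (α i)) (fun i => (hj i).some)
    rwa [spMapOfOver_congr (show BasedFunctor.comp (BasedFunctor.comp e' d)
        (fpFst y (inertiaToBase (toSelf (AlgSt.fullSub 𝒳 Q)))) ≅
      BasedFunctor.comp e' (fpFst y' (inertiaToBase (toSelf 𝒳))) from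
      isoWhiskerLeft e' (isoWhiskerLeft d iG.symm ≪≫ isoWhiskerRight jd (fpFst y' _)))]
  have hIQ := isAlgStack_inertia hQ isAlgStack_selfOver (toSelf (AlgSt.fullSub 𝒳 Q))
  exact (isAlgGerbe_iff hQ).2
    ⟨locQ_of_repByAlgSpWith (isSmoothLocalST_locP smoothLocalProp_flat) hIQ hQ
      (key AlgSpCov.standard_flat
        (fppfLocal_of_fpqc (AlgSpCov.isLocalOnBase_locP AlgSpCov.standard_flat.etaleLocal)) h₁),
    locQ_of_repByAlgSpWith (isSmoothLocalST_locP smoothLocalProp_lfp) hIQ hQ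
      (key AlgSpCov.standard_locallyOfFinitePresentation
        (fppfLocal_of_fpqc (AlgSpCov.isLocalOnBase_locP
          AlgSpCov.standard_locallyOfFinitePresentation.etaleLocal)) h₂)⟩

theorem exists_dense_gerbe (h𝒳 : AlgSt.IsAlgStack K 𝒳)
    (hred : AlgSt.SmoothLocally (fun T => IsReduced T) 𝒳)
    (hI : AlgSt.IsQuasiCompactMor K (inertiaToBase (toSelf 𝒳))) :
    ∃ Ω : Set (AlgSt.Points 𝒳), IsOpen Ω ∧ Dense Ω ∧
      ∀ W : Set (AlgSt.Points 𝒳), IsOpen W → W ⊆ Ω → Gerb.IsAlgGerbe K (AlgSt.fullSub 𝒳 (ptsProp W)) := by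
  obtain ⟨U, x, hx, hxs⟩ := h𝒳.atlas
  haveI : IsReduced U.left := hred U x hx
  let ι := {O : U.left.Opens // IsAffineOpen O}
  let T : ι → Over S := fun O => Over.mk (O.1.ι ≫ U.hom)
  let o : ∀ O, T O ⟶ U := fun O => Over.homMk O.1.ι rfl
  have H : ∀ O : ι, _ := fun O =>
    haveI : IsAffine (T O).left := O.2
    haveI : IsReduced (T O).left := inferInstanceAs (IsReduced O.1.toScheme)
    haveI : IsOpenImmersion (o O).left := inferInstanceAs (IsOpenImmersion O.1.ι)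
    exists_dense_flat_inertia h𝒳 hI (BasedFunctor.comp (AlgSt.overMap (o O)) x) (smooth_chart_comp (o O) hx)
  choose D d hd hdense hsm h₁ h₂ using H
  let g := fun O => BasedFunctor.comp (AlgSt.overMap (d O)) (BasedFunctor.comp (AlgSt.overMap (o O)) x)
  let Ω : Set (AlgSt.Points 𝒳) := ⋃ O, Set.range (AlgSt.Points.ofChart (g O))
  have hΩ : IsOpen Ω := isOpen_iUnion fun O => by
    rw [← Set.image_univ]
    exact isOpenMap_ofChart h𝒳 (repByAlgSpWith_flat_of_smooth (hsm O))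
      (repByAlgSpWith_lfp_of_smooth (hsm O)) _ isOpen_univ
  refine ⟨Ω, hΩ, dense_iff_inter_open.2 fun W hW ⟨P, hP⟩ => ?_, fun W hW hWΩ => isAlgGerbe_ptsProp h𝒳 g hsm hW hWΩ h₁ h₂⟩
  obtain ⟨u, rfl⟩ := ofChart_surjective h𝒳.isStack.1 hxs P
  obtain ⟨O, hO, huO, -⟩ := exists_isAffineOpen_mem_and_subset (x := u) (U := (⊤ : U.left.Opens)) trivial
  let i : ι := ⟨O, hO⟩
  have hW' : IsOpen ((o i).left ⁻¹' (AlgSt.Points.ofChart x ⁻¹' W)) :=
    (hW.preimage (continuous_ofChart h𝒳 x)).preimage (o i).left.continuous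
  obtain ⟨t, htW, htD⟩ := (hdense i).inter_open_nonempty _ hW' ⟨⟨u, huO⟩, hP⟩
  refine ⟨_, htW, Set.mem_iUnion.2 ⟨i, ⟨t, htD⟩, ?_⟩⟩
  change AlgSt.Points.ofChart (BasedFunctor.comp (AlgSt.overMap (d i)) _) _ = _
  rw [ofChart_overMap, ofChart_overMap, hd i]
  rfl

end Groth.Agent.StFib.Gerbe

end
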