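import Mathlib

/-!
# Well-ordered stratifications of a topological space
-/

set_option autoImplicit false

universe v w

open TopologicalSpace Cardinal

noncomputable section

namespace Groth.Agent.StFib.Gerbe

/-- Strata can be assembled to a well-ordered stratification. -/
theorem exists_stratification {X : Type v} [TopologicalSpace X] {QT : Type w} [Inhabited QT]
    (P : Set X → QT → Prop) (rg : QT → Set X) (hex : ∀ T, IsClosed T → ∃ q, P T q)
    (hsub : ∀ T q, P T q → rg q ⊆ T)
    (hopen : ∀ T q, P T q → IsOpen ((Subtype.val : T → X) ⁻¹' rg q))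
    (hne : ∀ T q, P T q → T.Nonempty → (rg q).Nonempty) :
    ∃ (I : Type v) (_ : LinearOrder I) (_ : WellFoundedLT I) (Q : I → QT) (T : I → Set X),
      (∀ i, T i = {p | ∀ i', i' < i → p ∉ rg (Q i')}) ∧ (∀ i, P (T i) (Q i)) ∧
      (∀ p : X, ∃ i, p ∈ rg (Q i)) ∧ (∀ i, IsClosed (T i)) := by
  classical
  let q : Set X → QT := fun T => if h : IsClosed T then (hex T h).choose else default
  have hq : ∀ T, IsClosed T → P T (q T) := fun T h => by
    simp only [q, dif_pos h]
    exact (hex T h).choose_spec
  let I := (Order.succ #X).ord.ToType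
  let Q : I → QT := wellFounded_lt.fix fun i IH => q {p | ∀ j (h : j < i), p ∉ rg (IH j h)}
  let T : I → Set X := fun i => {p | ∀ i', i' < i → p ∉ rg (Q i')}
  have hQ : ∀ i, Q i = q (T i) := fun i => wellFounded_lt.fix_eq _ i
  have hcl : ∀ i, IsClosed (T i) := by
    intro i
    induction i using WellFoundedLT.induction with
    | _ i IH =>
      have hc : ∀ j : I, j < i → ∃ V : Set X, IsOpen V ∧ rg (Q j) ⊆ V ∧ V ⊆ (T i)ᶜ := fun j hj => by
        have hP := hq _ (IH j hj)
        rw [← hQ] at hP
        obtain ⟨O, hO, hO'⟩ := isOpen_induced_iff.1 (hopen _ _ hP)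
        refine ⟨(T j)ᶜ ∪ O, (IH j hj).isOpen_compl.union hO, fun p hp => ?_, ?_⟩
        · have := Set.ext_iff.1 hO' ⟨p, hsub _ _ hP hp⟩
          exact Or.inr (this.2 hp)
        · rintro p (hp | hp) hpi
          · exact hp fun k hk => hpi k (hk.trans hj)
          · by_cases hpj : p ∈ T j
            · exact hpi j hj ((Set.ext_iff.1 hO' ⟨p, hpj⟩).1 hp)
            · exact hpj fun k hk => hpi k (hk.trans hj)
      choose V hV hV₁ hV₂ using hc
      have : (T i)ᶜ = ⋃ (j) (h : j < i), V j h := by
        refine Set.Subset.antisymm (fun p hp => ?_) (Set.iUnion₂_subset fun j h => hV₂ j h)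
        simp only [T, Set.mem_compl_iff, Set.mem_ofPred_eq, not_forall, not_not] at hp
        obtain ⟨j, hj, hp⟩ := hp
        exact Set.mem_iUnion₂.2 ⟨j, hj, hV₁ j hj hp⟩
      rw [← isOpen_compl_iff, this]
      exact isOpen_iUnion fun j => isOpen_iUnion fun h => hV j h
  have hP : ∀ i, P (T i) (Q i) := fun i => hQ i ▸ hq _ (hcl i)
  refine ⟨I, inferInstance, inferInstance, Q, T, fun i => rfl, hP, fun p => ?_, hcl⟩
  by_contra hp
  push Not at hp
  have hT : ∀ i, (rg (Q i)).Nonempty := fun i => hne _ _ (hP i) ⟨p, fun j _ => hp j⟩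
  choose f hf using hT
  have hf' : Function.Injective f := fun i j h => by
    rcases lt_trichotomy i j with hij | hij | hij
    · exact absurd (hsub _ _ (hP j) (hf j)) fun hj => hj i hij (h ▸ hf i)
    · exact hij
    · exact absurd (hsub _ _ (hP i) (hf i)) fun hi => hi j hij (h ▸ hf j)
  have := mk_le_of_injective hf'
  rw [mk_ord_toType] at this
  exact (lt_irrefl _) ((Order.lt_succ #X).trans_le this)

end Groth.Agent.StFib.Gerbe

end
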