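import Groth.Agent.StFib.Gerbe.GenericFlat
import Groth.Agent.StFib.Gerbe.AutGroup
import Groth.Agent.StFib.RedSubstack
import Groth.Agent.StFib.NoethTop
import Groth.Agent.S12868
import Groth.Agent.S12870
import Groth.Agent.S12878
import Groth.Agent.AlgSpB.RedInduced

/-!
# Strata which are gerbes
-/

set_option autoImplicit false
set_option linter.unusedVariables false
set_option linter.style.haveILetI false
set_option backward.isDefEq.respectTransparency false
set_option backward.isDefEq.respectTransparency.types false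

universe u

open CategoryTheory CategoryTheory.Limits AlgebraicGeometry Opposite FibCat TopologicalSpace

noncomputable section

namespace Groth.Agent.StFib.Gerbe

variable {S : Scheme.{u}} {𝒳 𝒵 : AlgSt.Cat S}

local notation "K" => Scheme.fppfPrecoverage

/-- A closed immersion is closed on points. -/
theorem isClosedMap_of_isClosedImm (h𝒵 : AlgSt.IsAlgStack K 𝒵) (h𝒳 : AlgSt.IsAlgStack K 𝒳) {i : 𝒵 ⥤ᵇ 𝒳}
    (hi : AlgSt.IsClosedImm i) : IsClosedMap (AlgSt.Points.map i) := by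
  intro C hC
  refine ⟨fun U y hy => ?_⟩
  rw [Set.preimage_compl]
  refine IsClosed.isOpen_compl (self := ?_)
  obtain ⟨A, e, he, hA⟩ := hi U y
  obtain ⟨ia⟩ := exists_iso_ofSpMap_toOverCat (A := A.obj) (BasedFunctor.comp e (fpFst y i))
  let a := AlgSt.spMapOfOver (BasedFunctor.comp e (fpFst y i))
  obtain ⟨B, j, ι, hι, hj⟩ := exists_iso_yon_of_repWith @IsClosedImmersion hA
  haveI : IsClosedImmersion j.left := hj
  let E : overCat B ⥤ᵇ fp y i :=
    BasedFunctor.comp (AlgSt.ofOverCat B) (BasedFunctor.comp (AlgSt.ofSpMap ι.hom) e)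
  have hE : IsEquivOver E := isEquivOver_comp ⟨AlgSt.toOverCat B, ⟨Iso.refl _⟩, ⟨Iso.refl _⟩⟩
    (isEquivOver_comp (isEquivOver_ofSpMap_iso ι) he)
  let iE : BasedFunctor.comp E (fpFst y i) ≅ AlgSt.overMap j :=
    isoWhiskerLeft (BasedFunctor.comp (AlgSt.ofOverCat B) (AlgSt.ofSpMap ι.hom)) ia.symm ≪≫
      eqToIso (show BasedFunctor.comp (AlgSt.ofOverCat B)
          (BasedFunctor.comp (AlgSt.ofSpMap (ι.hom ≫ a)) (AlgSt.toOverCat U)) =
        BasedFunctor.comp (AlgSt.ofOverCat B)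
          (BasedFunctor.comp (AlgSt.ofSpMap ((AlgSp.yon S).map j)) (AlgSt.toOverCat U)) by rw [hι]) ≪≫
      isoWhiskerLeft (AlgSt.ofOverCat B) (toOverCatIso j).symm
  let v := BasedFunctor.comp E (fpSnd y i)
  have he' : AlgSt.Points.ofChart y ⁻¹' (AlgSt.Points.map i '' C) = j.left '' (AlgSt.Points.ofChart v ⁻¹' C) := by
    ext t
    constructor
    · rintro ⟨P, hP, ht⟩
      obtain ⟨r, hr₁, hr₂⟩ := exists_points_fp_of_map_eq h𝒵.isStack.1 (isFibGrpd_overCat U) h𝒳.isStack.1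
        i y (AlgSt.Points.ofChart (BasedFunctor.id _) t) P (ht.trans (ofChart_eq_map y t)).symm
      obtain ⟨r', rfl⟩ := (points_bijective_of_isEquivOver hE).surjective r
      rw [← ofChart_id_ptMap r', ← ofChart_eq_map] at hr₁ hr₂
      rw [map_ofChart, ofChart_congr iE] at hr₁
      rw [map_ofChart] at hr₂
      refine ⟨ptMap r', ?_, ?_⟩
      · rw [Set.mem_preimage]
        exact hr₂.symm ▸ hP
      · have := congrArg ptMap hr₁
        rw [ptMap_ofChart_id] at this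
        refine Eq.trans ?_ this
        exact ((congrArg ptMap (ofChart_overMap (BasedFunctor.id (overCat U)) j _)).trans
          (ptMap_ofChart_id _)).symm
    · rintro ⟨b, hb, rfl⟩
      refine ⟨_, hb, ?_⟩
      rw [map_ofChart, ← ofChart_overMap]
      exact congrFun (ofChart_congr ((isoWhiskerLeft E (fpIso y i)).symm ≪≫ isoWhiskerRight iE y)) b
  rw [he']
  exact j.left.isClosedEmbedding.isClosedMap _ (hC.preimage (continuous_ofChart h𝒵 v))

/-- The data of a stratum in a closed set. -/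
def IsStratum (T : Set (AlgSt.Points 𝒳)) (Q : 𝒳.obj → Prop) : Prop :=
  AlgSt.IsLocClosedSubstack 𝒳 Q K ∧ AlgSt.SmoothLocally (fun X => IsReduced X) (AlgSt.fullSub 𝒳 Q) ∧
    Gerb.IsAlgGerbe K (AlgSt.fullSub 𝒳 Q) ∧ Set.range (AlgSt.Points.map (AlgSt.subIncl 𝒳 Q)) ⊆ T ∧
    IsOpen ((Subtype.val : T → AlgSt.Points 𝒳) ⁻¹' Set.range (AlgSt.Points.map (AlgSt.subIncl 𝒳 Q))) ∧
    (T.Nonempty → (Set.range (AlgSt.Points.map (AlgSt.subIncl 𝒳 Q))).Nonempty)

theorem isAlgGerbe_of_isEquivOver {E : 𝒵 ⥤ᵇ 𝒳} (hE : IsEquivOver E)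
    (h : Gerb.IsAlgGerbe K 𝒵) (h𝒵 : IsFibGrpd 𝒵.p) (h𝒳 : IsFibGrpd 𝒳.p) : Gerb.IsAlgGerbe K 𝒳 := by
  obtain ⟨X, π, hπ⟩ := h
  obtain ⟨d, hd, -, -⟩ := isEquivOver_symm hE
  exact ⟨X, BasedFunctor.comp d π, GalCohAux.GerbBasic.comp h𝒳 h𝒵
    (isGerbeOver_of_isEquivOver h𝒵 hd) hπ⟩

/-- Strata exist. -/
theorem exists_stratum (h𝒳 : AlgSt.IsAlgStack K 𝒳)
    (hI : AlgSt.IsQuasiCompactMor K (inertiaToBase (toSelf 𝒳))) {T : Set (AlgSt.Points 𝒳)} (hT : IsClosed T) :
    (∃ Q, IsStratum T Q ∧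
      Dense ((Subtype.val : T → AlgSt.Points 𝒳) ⁻¹' Set.range (AlgSt.Points.map (AlgSt.subIncl 𝒳 Q)))) ∧
    (∃ Q, IsStratum T Q ∧ AlgSt.IsQuasiCompact (AlgSt.fullSub 𝒳 Q)) := by
  obtain ⟨QZ, ⟨hQi, hZ, hcl⟩, hrange, hred⟩ := exists_reduced_closedSubstack h𝒳 T hT
  let i := AlgSt.subIncl 𝒳 QZ
  obtain ⟨L, ee, hcart⟩ := exists_inertia_sub_cart (𝒳 := 𝒳) QZ
  obtain ⟨Ω, hΩ, hdense, hgerbe⟩ := exists_dense_gerbe hZ hred (isQuasiCompactMor_of_cart _ _ _ hcart hI)
  have himm : AlgSt.IsImm i := repByAlgSpWith_mono hcl fun F U a h =>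
    AlgSp.repWith_mono (Q := @IsImmersion) (fun g hg => have : IsClosedImmersion g := hg; inferInstance) h
  have hmono := Groth.Agent.S12868.result i himm
  have hinj := points_map_injective_of_isMono hZ.isStack.1 h𝒳.isStack.1 i hmono
  have hclm := isClosedMap_of_isClosedImm hZ h𝒳 hcl
  -- the stratum of an open set
  have key : ∀ W : Set (AlgSt.Points (AlgSt.fullSub 𝒳 QZ)), IsOpen W → W ⊆ Ω →
      ∃ Q, AlgSt.IsLocClosedSubstack 𝒳 Q K ∧
        AlgSt.SmoothLocally (fun X => IsReduced X) (AlgSt.fullSub 𝒳 Q) ∧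
        Gerb.IsAlgGerbe K (AlgSt.fullSub 𝒳 Q) ∧
        Set.range (AlgSt.Points.map (AlgSt.subIncl 𝒳 Q)) = AlgSt.Points.map i '' W ∧
        (AlgSt.IsQuasiCompact (AlgSt.fullSub (AlgSt.fullSub 𝒳 QZ) (ptsProp W)) →
          AlgSt.IsQuasiCompact (AlgSt.fullSub 𝒳 Q)) := by
    intro W hW hWΩ
    obtain ⟨-, hA, hop⟩ := isOpenSubstack_ptsProp hZ hW
    let j := AlgSt.subIncl (AlgSt.fullSub 𝒳 QZ) (ptsProp W)
    have hjimm : AlgSt.IsImm j := repByAlgSpWith_mono hop fun F U a h =>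
      AlgSp.repWith_mono (Q := @IsImmersion) (fun g hg => have : IsOpenImmersion g := hg; inferInstance) h
    obtain ⟨Q, ⟨hQ, ⟨E, hE, ⟨iE⟩⟩, -, -⟩, -⟩ := Groth.Agent.S12878.result hA h𝒳 (BasedFunctor.comp j i)
      (Groth.Agent.S12870.result hA hZ h𝒳 j i hjimm himm)
    refine ⟨Q, hQ, fun U x hx => ?_, isAlgGerbe_of_isEquivOver hE (hgerbe W hW hWΩ) hA.isStack.1 hQ.2.1.isStack.1,
      ?_, fun h => ?_⟩
    · obtain ⟨d, hd, -, -⟩ := isEquivOver_symm hE
      have hjs : AlgSt.RepByAlgSpWith (AlgSp.LocP @Smooth) j := repByAlgSpWith_mono hop fun F U a h =>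
        Groth.Agent.AlgSpCov.locP_of_repWith Groth.Agent.AlgSpCov.standard_smooth.etaleLocal
          (AlgSp.repWith_mono (Q := @Smooth) (fun g hg => have : IsOpenImmersion g := hg; inferInstance) h)
      exact hred U (BasedFunctor.comp (BasedFunctor.comp x d) j)
        (repByAlgSpWith_comp good_smooth.bc good_smooth.comp good_smooth.det (isFibGrpd_overCat U) hA.isStack.1
          (SliceDM.repByAlgSpWith_comp_equiv' hx hd) hjs)
    · have h1 : AlgSt.Points.map (AlgSt.subIncl 𝒳 Q) ∘ AlgSt.Points.map E =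
          AlgSt.Points.map i ∘ AlgSt.Points.map j := by
        rw [← points_map_comp, ← points_map_comp]
        exact points_map_congr iE
      rw [← (points_bijective_of_isEquivOver hE).surjective.range_comp (AlgSt.Points.map (AlgSt.subIncl 𝒳 Q)),
        h1, Set.range_comp, range_subIncl_ptsProp W hZ.isStack.1]
    · obtain ⟨d, hd, -, -⟩ := isEquivOver_symm hE
      exact isQuasiCompact_of_equiv hE h
  have hrel : ∀ W : Set (AlgSt.Points (AlgSt.fullSub 𝒳 QZ)), IsOpen W →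
      IsOpen ((Subtype.val : T → AlgSt.Points 𝒳) ⁻¹' (AlgSt.Points.map i '' W)) := fun W hW => by
    rw [← isClosed_compl_iff]
    refine ⟨?_⟩
    have : (Subtype.val : T → AlgSt.Points 𝒳) ⁻¹' (AlgSt.Points.map i '' W) =
        Subtype.val ⁻¹' (AlgSt.Points.map i '' Wᶜ)ᶜ := by
      ext ⟨p, hp⟩
      obtain ⟨q, rfl⟩ : p ∈ Set.range (AlgSt.Points.map i) := hrange.symm ▸ hp
      simp [hinj.mem_set_image]
    rw [compl_compl, this]
    exact ((hclm _ hW.isClosed_compl).isOpen_compl).preimage continuous_subtype_val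
  have hne : T.Nonempty → Ω.Nonempty := fun ⟨p, hp⟩ => by
    obtain ⟨q, -⟩ : p ∈ Set.range (AlgSt.Points.map i) := hrange.symm ▸ hp
    haveI : Nonempty (AlgSt.Points (AlgSt.fullSub 𝒳 QZ)) := ⟨q⟩
    exact hdense.nonempty
  refine ⟨?_, ?_⟩
  · obtain ⟨Q, h1, h2, h3, h4, -⟩ := key Ω hΩ le_rfl
    refine ⟨Q, ⟨h1, h2, h3, ?_, ?_, fun h => ?_⟩, ?_⟩
    · rw [h4]
      exact (Set.image_subset_range _ _).trans hrange.le
    · rw [h4]
      exact hrel Ω hΩ
    · rw [h4]
      exact (hne h).image _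
    · rw [h4]
      refine dense_iff_inter_open.2 fun O hO ⟨⟨p, hp⟩, hpO⟩ => ?_
      obtain ⟨O', hO', rfl⟩ := isOpen_induced_iff.1 hO
      obtain ⟨q, rfl⟩ : p ∈ Set.range (AlgSt.Points.map i) := hrange.symm ▸ hp
      obtain ⟨r, hr, hrΩ⟩ := hdense.inter_open_nonempty _ (hO'.preimage (continuous_points_map h𝒳 i)) ⟨q, hpO⟩
      exact ⟨⟨AlgSt.Points.map i r, hrange.le ⟨r, rfl⟩⟩, hr, r, hrΩ, rfl⟩
  · by_cases hT' : T.Nonempty
    · obtain ⟨q, hq⟩ := hne hT'
      obtain ⟨W, hW, hWc, hqW, hWΩ⟩ := exists_open_compact_nhd hZ q Ω hΩ hq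
      obtain ⟨Q, h1, h2, h3, h4, h5⟩ := key W hW hWΩ
      refine ⟨Q, ⟨h1, h2, h3, ?_, ?_, fun _ => ?_⟩, h5 ?_⟩
      · rw [h4]
        exact (Set.image_subset_range _ _).trans hrange.le
      · rw [h4]
        exact hrel W hW
      · rw [h4]
        exact ⟨_, q, hqW, rfl⟩
      · obtain ⟨hQ'', hA', hop'⟩ := isOpenSubstack_ptsProp hZ hW
        haveI : CompactSpace (AlgSt.Points (AlgSt.fullSub (AlgSt.fullSub 𝒳 QZ) (ptsProp W))) := by
          refine ⟨?_⟩
          have hcont := continuous_points_map hZ (AlgSt.subIncl (AlgSt.fullSub 𝒳 QZ) (ptsProp W))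
          haveI : (AlgSt.subIncl (AlgSt.fullSub 𝒳 QZ) (ptsProp W)).toFunctor.Full :=
            inferInstanceAs (ObjectProperty.ι _).Full
          haveI : (AlgSt.subIncl (AlgSt.fullSub 𝒳 QZ) (ptsProp W)).toFunctor.Faithful :=
            inferInstanceAs (ObjectProperty.ι _).Faithful
          have hemb : Topology.IsEmbedding
              (AlgSt.Points.map (AlgSt.subIncl (AlgSt.fullSub 𝒳 QZ) (ptsProp W))) := by
            refine (Topology.IsOpenEmbedding.of_continuous_injective_isOpenMap hcont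
              (points_map_injective_of_isMono hA'.isStack.1 hZ.isStack.1 _
                (isMono_of_fullyFaithful hA' hZ _)) ?_).isEmbedding
            have hjs : AlgSt.RepByAlgSpWith (AlgSp.LocP @Smooth) (AlgSt.subIncl (AlgSt.fullSub 𝒳 QZ) (ptsProp W)) :=
              repByAlgSpWith_mono hop' fun F U a h => Groth.Agent.AlgSpCov.locP_of_repWith
                Groth.Agent.AlgSpCov.standard_smooth.etaleLocal
                (AlgSp.repWith_mono (Q := @Smooth) (fun g hg => have : IsOpenImmersion g := hg; inferInstance) h)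
            exact isOpenMap_points_map_rep hA' hZ (repByAlgSpWith_flat_of_smooth hjs) (repByAlgSpWith_lfp_of_smooth hjs)
          rw [hemb.isCompact_iff, Set.image_univ, range_subIncl_ptsProp W hZ.isStack.1]
          exact hWc
        exact isQuasiCompact_of_compactSpace hA'
    · obtain ⟨Q, h1, h2, h3, h4, h5⟩ := key ∅ isOpen_empty (Set.empty_subset _)
      refine ⟨Q, ⟨h1, h2, h3, ?_, ?_, fun h => absurd h hT'⟩, h5 ?_⟩
      · rw [h4, Set.image_empty]
        exact Set.empty_subset _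
      · rw [h4]
        exact hrel ∅ isOpen_empty
      · obtain ⟨-, hA', -⟩ := isOpenSubstack_ptsProp hZ (isOpen_empty : IsOpen (∅ : Set (AlgSt.Points (AlgSt.fullSub 𝒳 QZ))))
        haveI : IsEmpty (AlgSt.Points (AlgSt.fullSub (AlgSt.fullSub 𝒳 QZ) (ptsProp ∅))) := ⟨fun p => by
          have : AlgSt.Points.map (AlgSt.subIncl (AlgSt.fullSub 𝒳 QZ) (ptsProp ∅)) p ∈ (∅ : Set _) :=
            (range_subIncl_ptsProp ∅ hZ.isStack.1).subset ⟨p, rfl⟩
          exact this⟩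
        exact isQuasiCompact_of_compactSpace hA'

end Groth.Agent.StFib.Gerbe

end
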