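import Groth.Prelude.Def_StGerb
import Groth.Agent.GalCohAux.GerbBasic
import Groth.Agent.AlgSp.Basic
import Groth.Agent.StFib.Yoneda

/-!
# Objects of a gerbe over one object of the base are locally isomorphic
-/

set_option autoImplicit false
set_option backward.isDefEq.respectTransparency false
set_option backward.isDefEq.respectTransparency.types false

universe u

open CategoryTheory AlgebraicGeometry FibCat

namespace Groth.Agent.StFib.Gerbe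

variable {S : Scheme.{u}} {𝒳 𝒴 : AlgSt.Cat S}

/-- Two maps from a scheme into a gerbe with isomorphic images are fppf locally isomorphic. -/
theorem exists_isom_cover (h𝒳 : IsFibGrpd 𝒳.p) {π : 𝒳 ⥤ᵇ 𝒴}
    (hπ : Gerb.LocSurjHom (QuotSh.J Scheme.fppfPrecoverage S) π) {T : Over S}
    (Φ₁ Φ₂ : overCat T ⥤ᵇ 𝒳) (j : BasedFunctor.comp Φ₁ π ≅ BasedFunctor.comp Φ₂ π) :
    ∃ R ∈ Scheme.fppfPrecoverage T.left, ∀ ⦃V : Scheme.{u}⦄ (g : V ⟶ T.left), R g →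
      Nonempty (BasedFunctor.comp (AlgSt.overMap (Over.homMk g rfl : Over.mk (g ≫ T.hom) ⟶ T)) Φ₁ ≅
        BasedFunctor.comp (AlgSt.overMap (Over.homMk g rfl : Over.mk (g ≫ T.hom) ⟶ T)) Φ₂) := by
  let b := (isoApp j (Over.mk (𝟙 T))).hom
  have hb : 𝒴.p.IsHomLift (𝟙 T) b :=
    (vert_isoApp j (Over.mk (𝟙 T))).isHomLift ((BasedFunctor.comp Φ₁ π).w_obj (Over.mk (𝟙 T)))
  obtain ⟨T₀, hT₀, hloc⟩ := GalCohAux.GerbBasic.locHom hπ _ _ b (U := T)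
  obtain ⟨R, hR, hRT⟩ := AlgSp.exists_cover_of_mem hT₀
  refine ⟨R, hR, fun V g hg => ?_⟩
  let f : Over.mk (g ≫ T.hom) ⟶ T := Over.homMk g rfl
  obtain ⟨x₀, φ, ψ, hφ, hψ, -⟩ := hloc f (hRT g hg)
  let a : (overCat T).obj := (AlgSt.overMap f).obj (Over.mk (𝟙 _))
  let t : a ⟶ Over.mk (𝟙 T) := overToId a
  have H : ∀ (Φ : overCat T ⥤ᵇ 𝒳) (ξ : x₀ ⟶ Φ.obj (Over.mk (𝟙 T))), 𝒳.p.IsHomLift f ξ →
      ∃ χ : Φ.obj a ≅ x₀, Vert χ.hom := fun Φ ξ hξ => by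
    have e : 𝒳.p.obj (Φ.obj a) = 𝒳.p.obj x₀ :=
      (Φ.w_obj a).trans (IsHomLift.domain_eq 𝒳.p f ξ).symm
    obtain ⟨χ, hχ, -⟩ := grpd_exists_vert_fac h𝒳 ξ (Φ.map t) e (by
      rw [IsHomLift.fac' 𝒳.p f ξ, w_map]
      simp [t, a, overToId, AlgSt.overMap]
      rfl)
    exact ⟨χ, hχ⟩
  obtain ⟨χ₁, hχ₁⟩ := H Φ₁ φ hφ
  obtain ⟨χ₂, hχ₂⟩ := H Φ₂ ψ hψ
  exact ⟨(exists_overIso h𝒳 (BasedFunctor.comp (AlgSt.overMap f) Φ₁) (BasedFunctor.comp (AlgSt.overMap f) Φ₂)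
    (χ₁ ≪≫ χ₂.symm) (hχ₁.comp (Vert.inv hχ₂))).choose⟩

end Groth.Agent.StFib.Gerbe
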