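import Groth.Agent.StFib.BGMono
import Groth.Agent.StFib.Gerbe.Isom

/-!
# A gerbe over the base with a section is a classifying stack
-/

set_option autoImplicit false
set_option linter.unusedVariables false
set_option linter.unusedTactic false
set_option backward.isDefEq.respectTransparency false
set_option backward.isDefEq.respectTransparency.types false

universe u

open CategoryTheory CategoryTheory.Limits AlgebraicGeometry Opposite FibCat
open MonoidalCategory CartesianMonoidalCategory MonObj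

namespace Groth.Agent.StFib.Gerbe

open Groth.Agent.IsoCls (bT bM trivSieve VA res BGc)
open Groth.Agent.StFib.BGMono

variable {S : Scheme.{u}} {𝒳 : AlgSt.Cat S}

local notation "T₀" => (Over.mk (𝟙 S) : Over S)
local notation "hT" => (Over.mkIdTerminal (X := S))

/-- Every object of a gerbe over the base is locally isomorphic to a section. -/
theorem locX_of_gerbe (h𝒳 : IsFibGrpd 𝒳.p) {π : 𝒳 ⥤ᵇ overCat T₀}
    (hπ : Gerb.LocSurjHom (AlgSp.J S) π) (x : overCat T₀ ⥤ᵇ 𝒳) (z : 𝒳.obj) : locX x z := by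
  let a : (overCat T₀).obj := bT hT (𝒳.p.obj z)
  have ha : (π.obj (x.obj a)).left = (π.obj z).left :=
    ((π.w_obj (x.obj a)).trans (x.w_obj a)).trans (π.w_obj z).symm
  let b : π.obj (x.obj a) ⟶ π.obj z := Over.homMk (eqToHom ha) ((hT).hom_ext _ _)
  haveI : (overCat T₀).p.IsHomLift (𝟙 (𝒳.p.obj z)) b :=
    (show Vert b from ⟨ha, rfl⟩).isHomLift ((π.w_obj (x.obj a)).trans (x.w_obj a))
  obtain ⟨R, hR, hloc⟩ := GalCohAux.GerbBasic.locHom hπ (x.obj a) z b (U := 𝒳.p.obj z)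
  refine (AlgSp.J S).superset_covering ?_ hR
  intro V f hf
  obtain ⟨x₀, φ, ψ, hφ, hψ, -⟩ := hloc f hf
  have h1 : 𝒳.p.obj x₀ = V := IsHomLift.domain_eq 𝒳.p f φ
  obtain ⟨χ, hχ, -⟩ := grpd_exists_fac h𝒳 φ (x.map (bM hT f))
    (eqToHom ((x.w_obj _).trans h1.symm)) (by
      rw [IsHomLift.fac' 𝒳.p f φ, w_map]
      simp [bM, a]
      rfl)
  refine ⟨χ ≫ ψ, IsHomLift.of_fac' 𝒳.p f _ (x.w_obj _) rfl ?_⟩
  rw [Functor.map_comp, hχ, IsHomLift.fac' 𝒳.p f ψ]
  simp

/-- A gerbe over the base with a section is the classifying stack of the automorphisms of the section. -/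
theorem exists_equiv_BG (G : Over S) [GrpObj G] [IsAffineHom G.hom] (h𝒳 : Stk.IsStack (AlgSp.J S) 𝒳)
    {π : 𝒳 ⥤ᵇ overCat T₀} (hπ : Gerb.LocSurjHom (AlgSp.J S) π) (x : overCat T₀ ⥤ᵇ 𝒳)
    (r : Gerb.AutRep x (Gerb.ptsGrp T₀ G)) :
    ∃ e : BGc G ⥤ᵇ 𝒳, IsEquivOver e := by
  have hB := isStack_BG G
  have hs := isStack_sub x h𝒳
  choose E hE using exists_autBG G hB.1
  obtain ⟨θ, hθ⟩ := exists_autSec x r h𝒳.1 hs.1
  obtain ⟨F, hF, -, -⟩ := IsoCls.exists_isEquivOver_of_neutral' hT (secBG G) (secSub x)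
    (fun V => (E V).symm.trans (θ V)) hB hs (fun {V' V} k e => by
      obtain ⟨g, rfl⟩ := (E V).surjective e
      have h1 : res hB.1 (secBG G) (bM hT k) (E V g) = E V' (k ≫ g) := by
        refine IsoCls.res_eq hB.1 _ ?_
        rw [hE, hE, ← GrpObj.comp_inv]
        exact rmulHom_natural G k g⁻¹
      refine IsoCls.res_eq hs.1 _ ?_
      rw [h1, MulEquiv.trans_apply, MulEquiv.trans_apply, MulEquiv.symm_apply_apply, MulEquiv.symm_apply_apply]
      exact hθ k g) (trivSieve_secBG G) (trivSieve_secSub x)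
  let inc : Sub x ⥤ᵇ 𝒳 := { toFunctor := (locX x).ι, w := rfl }
  have : inc.toFunctor.Full := inferInstanceAs (locX x).ι.Full
  have : inc.toFunctor.Faithful := inferInstanceAs (locX x).ι.Faithful
  exact ⟨BasedFunctor.comp F inc, isEquivOver_comp hF
    (isEquivOver_mk inc fun z => ⟨⟨z, locX_of_gerbe h𝒳.1 hπ x z⟩, Iso.refl _, Vert.id _⟩)⟩

end Groth.Agent.StFib.Gerbe
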