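import Groth.Agent.StFib.Gerbe.SectSpace
import Groth.Agent.StFib.Gerbe.Criterion
import Groth.Agent.StFib.Gerbe.Smooth

/-!
# Gerbes are fppf locally classifying stacks
-/

set_option autoImplicit false
set_option linter.unusedVariables false
set_option linter.unusedSectionVars false
set_option linter.style.haveILetI false
set_option backward.isDefEq.respectTransparency false
set_option backward.isDefEq.respectTransparency.types false

universe v₃ u₃ v₂ u₂ v u

open CategoryTheory CategoryTheory.Limits AlgebraicGeometry Opposite FibCat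

noncomputable section

namespace Groth.Agent.StFib.Gerbe.Cover

open Groth.Agent.StFib
open Groth.Agent.AlgSp (yEquiv yEquiv_map yEquiv_comp)

/-- Being a gerbe only depends on a functor up to isomorphism. -/
theorem isGerbeOver_of_iso {C : Type u} [Category.{v} C] {J : GrothendieckTopology C}
    {𝒳 : BasedCategory.{v₂, u₂} C} {𝒴 : BasedCategory.{v₃, u₃} C} {F G : 𝒳 ⥤ᵇ 𝒴} (i : F ≅ G)
    (h : Gerb.IsGerbeOver J F) : Gerb.IsGerbeOver J G := by
  refine ⟨fun y => ?_, fun a a' b hb => ?_⟩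
  · obtain ⟨R, hR, hR'⟩ := h.1 y
    refine ⟨R, hR, fun V f hf => ?_⟩
    obtain ⟨a, g, hg⟩ := hR' f hf
    have hv := vert_isoApp_inv i a
    refine ⟨a, (isoApp i a).inv ≫ g, IsHomLift.of_fac' _ _ _ (hv.base_eq.trans (IsHomLift.domain_eq 𝒴.p f g)) rfl ?_⟩
    rw [Functor.map_comp, hv.2, IsHomLift.fac' 𝒴.p f g]
    simp
  · let b' : F.obj a ⟶ F.obj a' := (isoApp i a).hom ≫ b ≫ (isoApp i a').inv
    have hb' : 𝒴.p.IsHomLift (𝟙 (𝒳.p.obj a)) b' := by
      have hv := vert_isoApp i a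
      have hv' := vert_isoApp_inv i a'
      have e1 : 𝒴.p.obj (G.obj a') = 𝒳.p.obj a := IsHomLift.codomain_eq 𝒴.p (𝟙 _) b
      refine IsHomLift.of_fac' _ _ _ (F.w_obj a) (hv'.base_eq.symm.trans e1) ?_
      simp only [b', Functor.map_comp, hv.2, hv'.2]
      rw [IsHomLift.fac' 𝒴.p (𝟙 (𝒳.p.obj a)) b]
      simp
    obtain ⟨R, hR, hR'⟩ := h.2 a a' b' hb'
    refine ⟨R, hR, fun V f hf => ?_⟩
    obtain ⟨a₀, φ, ψ, hφ, hψ, e⟩ := hR' f hf
    refine ⟨a₀, φ, ψ, hφ, hψ, ?_⟩
    have n1 := isoApp_naturality i φ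
    have n2 := isoApp_naturality i ψ
    apply (cancel_epi (isoApp i a₀).hom).1
    refine Eq.trans ?_ n2
    rw [← Category.assoc]
    refine (congrArg (· ≫ b) n1.symm).trans ?_
    rw [← e]
    simp only [b', Category.assoc, Iso.inv_hom_id, Category.comp_id]

variable {S : Scheme.{u}}

local notation "K" => Scheme.fppfPrecoverage

theorem ofSp_hom_ext {U : AlgSp.Sp S} {a b : (AlgSt.ofSp U).obj} {f g : a ⟶ b} (h : f.hom = g.hom) : f = g :=
  Stk.EltObj.hom_ext h

/-- A classifying stack is a gerbe over its base. -/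
theorem isGerbeOver_spQuotToBase {U : AlgSp.Sp S} (G : Over U) [GrpObj G] :
    Gerb.IsGerbeOver (AlgSp.J S) (W4stkstmgerbes.spQuotToBase K G (AlgSt.trivGAction G)) := by
  let Q := W4stkstmgerbes.spQuotToBase K G (AlgSt.trivGAction G)
  let q := AlgSt.spQuotMap K G (AlgSt.trivGAction G)
  refine ⟨fun y => ⟨⊤, (AlgSp.J S).top_mem _, fun V f _ => ?_⟩, fun A A' b hb => ?_⟩
  · let a : (AlgSt.ofSp U).obj := ⟨V, U.obj.map f.op y.sec⟩
    let a' : (AlgSt.ofSp (MonoidalCategoryStruct.tensorUnit (Over U)).left).obj := a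
    have hs : (Q.obj (q.obj a')).sec = a.sec := by
      change yEquiv (F := U) (AlgSt.secYon (X := MonoidalCategoryStruct.tensorUnit (Over U)) a' ≫
        (MonoidalCategoryStruct.tensorUnit (Over U)).hom) = _
      rw [yEquiv_comp]
      exact congrArg (fun m => (MonoidalCategoryStruct.tensorUnit (Over U)).hom.hom.app (op V) m)
        (Equiv.apply_symm_apply _ _)
    exact ⟨q.obj a', ⟨f, hs.symm⟩, IsHomLift.of_fac' _ _ _ rfl rfl (by simp)⟩
  · let T := A.base
    haveI : (AlgSt.ofSp U).p.IsHomLift (𝟙 T) b := hb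
    have hbd : A'.base = T := IsHomLift.codomain_eq (AlgSt.ofSp U).p (𝟙 T) b
    have hbb : b.hom = eqToHom hbd.symm := by
      have h' := IsHomLift.fac' (AlgSt.ofSp U).p (𝟙 T) b
      change b.hom = _ at h'
      rw [h']
      simp
    let R : Sieve T := SpTors.secSieve A.π.left ⊓ (SpTors.secSieve A'.π.left).pullback b.hom
    have hR : R ∈ AlgSp.J S T := (AlgSp.J S).intersection_covering ((SpTors.hasSecLoc_iff _).1 A.loc)
      ((AlgSp.J S).pullback_stable b.hom ((SpTors.hasSecLoc_iff _).1 A'.loc))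
    refine ⟨R, hR, fun V f hf => ?_⟩
    obtain ⟨⟨s, hs⟩, s', hs'⟩ := hf
    let p : (AlgSt.ofSp A.P.left).obj := ⟨V, yEquiv s⟩
    let p' : (AlgSt.ofSp A'.P.left).obj := ⟨V, yEquiv s'⟩
    have hb₁ : SpTors.ptBase A p = f := (AlgSp.yon S).map_injective (by
      rw [SpTors.ptBase_spec]
      exact (congrArg (· ≫ A.π.left) (Equiv.symm_apply_apply _ s)).trans hs)
    have hb₂ : SpTors.ptBase A' p' = f ≫ b.hom := (AlgSp.yon S).map_injective (by
      rw [SpTors.ptBase_spec]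
      exact (congrArg (· ≫ A'.π.left) (Equiv.symm_apply_apply _ s')).trans hs')
    let m := SpTors.ptHom A p
    let m' := SpTors.ptHom A' p'
    have e1 : U.obj.map f.op (Q.obj A).sec = (Q.obj (q.obj (SpTors.ptX A p))).sec := by
      have := (Q.map m).map_sec
      change U.obj.map (SpTors.ptBase A p).op (Q.obj A).sec = _ at this
      rwa [hb₁] at this
    have e2 : U.obj.map (f ≫ b.hom).op (Q.obj A').sec = (Q.obj (q.obj (SpTors.ptX A' p'))).sec := by
      have := (Q.map m').map_sec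
      change U.obj.map (SpTors.ptBase A' p').op (Q.obj A').sec = _ at this
      rwa [hb₂] at this
    have e3 : (Q.obj (q.obj (SpTors.ptX A p))).sec = (Q.obj (q.obj (SpTors.ptX A' p'))).sec := by
      rw [← e1, ← e2, ← b.map_sec]
      exact (FunctorToTypes.map_comp_apply U.obj b.hom.op f.op (Q.obj A').sec).symm
    have hQ : ∀ a : (AlgSt.ofSp (MonoidalCategoryStruct.tensorUnit (Over U)).left).obj,
        (Q.obj (q.obj a)).sec = a.sec := fun a => by
      change yEquiv (F := U) (AlgSt.secYon (X := MonoidalCategoryStruct.tensorUnit (Over U)) a ≫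
        (MonoidalCategoryStruct.tensorUnit (Over U)).hom) = _
      rw [yEquiv_comp]
      exact congrArg (fun k => (MonoidalCategoryStruct.tensorUnit (Over U)).hom.hom.app (op a.base) k)
        (Equiv.apply_symm_apply _ _)
    have e4 : (SpTors.ptX A' p').sec = (SpTors.ptX A p).sec :=
      (hQ _).symm.trans (e3.symm.trans (hQ _))
    let i : SpTors.ptX A p ⟶ SpTors.ptX A' p' := ⟨𝟙 V, (psh_map_id _ _).trans e4⟩
    refine ⟨q.obj (SpTors.ptX A p), m, q.map i ≫ m', IsHomLift.of_fac' _ _ _ rfl rfl ?_,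
      IsHomLift.of_fac' _ _ _ rfl hbd ?_, ofSp_hom_ext ?_⟩
    · change SpTors.ptBase A p = _
      rw [hb₁]
      simp
    · change 𝟙 V ≫ SpTors.ptBase A' p' = _
      rw [hb₂, hbb]
      simp
    · change SpTors.ptBase A p ≫ b.hom = 𝟙 V ≫ SpTors.ptBase A' p'
      rw [hb₁, hb₂]
      exact (Category.id_comp _).symm

/-- A stack is a gerbe over another if and only if it is fppf locally a classifying stack. -/
theorem gerbe_iff {𝒳 𝒴 : AlgSt.Cat S}
    (h𝒳 : AlgSt.IsAlgStack K 𝒳) (h𝒴 : AlgSt.IsAlgStack K 𝒴) (π : 𝒳 ⥤ᵇ 𝒴) :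
    Gerb.IsGerbeOver (QuotSh.J K S) π ↔
      ∃ (U : AlgSp.Space S) (G : Over U.obj) (_ : GrpObj G),
        AlgSp.IsAlgSpace G.left ∧ AlgSp.LocP @Flat G.hom ∧ AlgSp.LocP @LocallyOfFinitePresentation G.hom ∧
        ∃ u : AlgSt.ofSp U.obj ⥤ᵇ 𝒴,
          AlgSt.RepByAlgSpWith (AlgSp.LocP @Flat) u ∧
          AlgSt.RepByAlgSpWith (AlgSp.LocP @LocallyOfFinitePresentation) u ∧
          AlgSt.RepByAlgSpWith AlgSp.IsSurjectiveMor u ∧
          ∃ e : AlgSt.SpBG K G ⥤ᵇ FibCat.fp u π,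
            FibCat.IsEquivOver e ∧
            Nonempty (BasedFunctor.comp e (FibCat.fpFst u π) ≅
              W4stkstmgerbes.spQuotToBase K G (AlgSt.trivGAction G)) := by
  constructor
  · intro hπ
    obtain ⟨V, y, hy, hys⟩ := h𝒴.atlas
    obtain ⟨V', c, x, hc₁, hc₂, hc₃, ⟨i⟩⟩ := exists_fppf_section h𝒳 h𝒴 hπ y
    let U : AlgSp.Space S := ⟨(AlgSp.yon S).obj V', isAlgSpace_yon V'⟩
    let k : overCat V' ⥤ᵇ 𝒴 := BasedFunctor.comp (AlgSt.overMap c) y
    let u : AlgSt.ofSp U.obj ⥤ᵇ 𝒴 := BasedFunctor.comp (AlgSt.toOverCat V') k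
    have sF := Groth.Agent.AlgSpCov.standard_flat
    have sL := Groth.Agent.AlgSpCov.standard_locallyOfFinitePresentation
    have uP : ∀ {Q : MorphismProperty (AlgSp.Sp S)}, Good Q → AlgSt.RepByAlgSpWith Q (AlgSt.overMap c) →
        AlgSt.RepByAlgSpWith Q y → AlgSt.RepByAlgSpWith Q u := fun hQ h1 h2 =>
      repByAlgSpWith_comp_isEquivOver (repByAlgSpWith_comp hQ.bc hQ.comp hQ.det (isFibGrpd_overCat V')
        (isFibGrpd_overCat V) h1 h2) (toOverCat_isEquivOver V')
    have hU := isAlgStack_of_repByAlgSp (repByAlgSp_ofSp U.property)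
    have hM := isAlgStack_fp h𝒴.isStack h𝒴.diag hU h𝒳 u π
    have hg : Gerb.IsGerbeOver (QuotSh.J K S) (fpFst u π) :=
      GalCohAux.GerbBasic.baseChange (e := fpIso u π) (G' := fpSnd u π) hU.isStack.1 h𝒴.isStack.1
        (fpLift_self_isEquivOver u π) hπ
    let s : AlgSt.ofSp U.obj ⥤ᵇ fp u π :=
      fpLift (BasedFunctor.id _) (BasedFunctor.comp (AlgSt.toOverCat V') x)
        (isoWhiskerLeft (AlgSt.toOverCat V') i.symm)
    obtain ⟨G, hG, h1, h2, h3, e, he, hi⟩ := Sect.exists_spBG hM U (fpFst u π) hg s (Iso.refl _)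
    exact ⟨U, G, hG, h1, h2, h3, u,
      uP (good_locP sF) (repByAlgSpWith_overMap_locP sF c hc₁) (repByAlgSpWith_flat_of_smooth hy),
      uP (good_locP sL) (repByAlgSpWith_overMap_locP sL c hc₂) (repByAlgSpWith_lfp_of_smooth hy),
      uP good_surjective (RatLift.repByAlgSpWith_overMap_surjective c) hys, e, he, hi⟩
  · rintro ⟨U, G, hG, -, -, -, u, hu₁, hu₂, hu₃, e, he, ⟨i⟩⟩
    have hU := isAlgStack_of_repByAlgSp (repByAlgSp_ofSp U.property)
    have hfst : Gerb.IsGerbeOver (QuotSh.J K S) (fpFst u π) :=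
      (GalCohAux.GerbBasic.comp_equiv_iff (fpFst u π) he).1 (isGerbeOver_of_iso i.symm (isGerbeOver_spQuotToBase G))
    exact GalCohAux.GerbBasic.descend (e := fpIso u π) (G' := fpSnd u π) h𝒳.isStack.1 h𝒴.isStack.1
      (fpLift_self_isEquivOver u π)
      (locSurjObj_of_fppf hU h𝒴 (isSurjective_of_rep hU.isStack.1 h𝒴.isStack.1 hu₃)
        (locQ_of_repByAlgSpWith (isSmoothLocalST_locP smoothLocalProp_flat) hU h𝒴 hu₁)
        (locQ_of_repByAlgSpWith (isSmoothLocalST_locP smoothLocalProp_lfp) hU h𝒴 hu₂)) hfst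

end Groth.Agent.StFib.Gerbe.Cover

end
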