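import Groth.Agent.StFib.Gerbe.SectFun
import Groth.Agent.StFib.RepFp
import Groth.Agent.StFib.DiagConv
import Groth.Agent.StFib.LocQBasic
import Groth.Agent.StFib.QuotModuli
import Groth.Agent.StFib.CoarseSection

/-!
# The automorphisms of a section form a flat group space; the gerbe is its classifying stack
-/

set_option autoImplicit false
set_option linter.unusedVariables false
set_option linter.unusedSectionVars false
set_option linter.style.haveILetI false
set_option backward.isDefEq.respectTransparency false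
set_option backward.isDefEq.respectTransparency.types false

universe u

open CategoryTheory CategoryTheory.Limits AlgebraicGeometry Opposite FibCat

noncomputable section

namespace Groth.Agent.StFib.Gerbe.Sect

open Groth.Agent.StFib

variable {S : Scheme.{u}}

local notation "K" => Scheme.fppfPrecoverage

theorem GPt.res_spec {D : Data S} {W' W : Over S} {g : W' ⟶ W} {P : GPt D W} {P' : GPt D W'} (e : P.res g = P')
    (ga : (⟨W', P'.t⟩ : (AlgSt.ofSp D.U).obj) ⟶ ⟨W, P.t⟩) (hga : ga.hom = g) :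
    P'.a.hom.1 ≫ D.x.map ga = D.x.map ga ≫ P.a.hom.1 := by
  subst e
  rw [show ga = mkE g P.t from Stk.EltObj.hom_ext hga]
  exact resA_spec _ _

variable (D : Data S)

/-- The point of the base under an automorphism. -/
abbrev gProj : AlgSt.ofSp (gSheaf D) ⥤ᵇ AlgSt.ofSp D.U := AlgSt.ofSpMap (gOver D).hom

/-- The tautological automorphism. -/
def tautAut : BasedFunctor.comp (gProj D) D.x ≅ BasedFunctor.comp (gProj D) D.x :=
  isoMk (F := BasedFunctor.comp (gProj D) D.x) (G := BasedFunctor.comp (gProj D) D.x)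
    (fun w => autIso (GPt.a (show GPt D w.base from w.sec))) (fun w => vert_autIso _) fun {w w'} f =>
      (GPt.res_spec (show GPt.res f.hom (show GPt D w'.base from w'.sec) = w.sec from f.map_sec)
        ((gProj D).map f) rfl).symm

theorem tautAut_app (w : (AlgSt.ofSp (gSheaf D)).obj) :
    (isoApp (tautAut D) w).hom = (GPt.a (show GPt D w.base from w.sec)).hom.1 := rfl

theorem tautAut_cart : IsEquivOver (fpLift (F := D.x) (G := D.x) (gProj D) (gProj D) (tautAut D)) := by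
  refine fpLift_isEquivOver_mk _ _ _
    (fun {w w'} φ ψ h _ => Stk.EltObj.hom_ext (congrArg (fun k => k.hom) h :))
    (fun {w w'} a b h => ?_) fun o => ?_
  · rw [tautAut_app, tautAut_app] at h
    obtain ⟨W, P⟩ := w
    obtain ⟨W', P'⟩ := w'
    obtain rfl : b = a := by
      refine Stk.EltObj.hom_ext ?_
      have h' := congrArg D.𝒳.p.map h
      rw [Functor.map_comp, Functor.map_comp, Stab.autO_map_p, Stab.autO_map_p] at h'
      have h'' : D.𝒳.p.map (D.x.map a) = D.𝒳.p.map (D.x.map b) :=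
        (Category.comp_id _).symm.trans (h'.trans (Category.id_comp _))
      rw [w_map, w_map] at h''
      exact ((cancel_mono _).1 ((cancel_epi _).1 h'')).symm
    exact ⟨⟨b.hom, GPt.res_eq b rfl (resA₀_eq h.symm)⟩, Stk.EltObj.hom_ext rfl, Stk.EltObj.hom_ext rfl⟩
  · obtain ⟨e, he⟩ := fp_sec_eq o
    haveI := he.isIso (Stk.isFibGrpd_ofPsh D.U.obj)
    let κ : D.x.obj o.obj.fst ≅ D.x.obj o.obj.fst := o.obj.iso ≪≫ (D.x.toFunctor.mapIso (asIso e)).symm
    obtain ⟨α, hα⟩ := exists_autO κ ((vert_fp_iso o).comp (Vert.inv (φ := D.x.toFunctor.mapIso (asIso e)) (he.map D.x)))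
    let w : (AlgSt.ofSp (gSheaf D)).obj := ⟨o.obj.fst.base, (⟨o.obj.fst.sec, α⟩ : GPt D o.obj.fst.base)⟩
    refine ⟨w, Iso.refl o.obj.fst, asIso e, Vert.id _, ?_⟩
    rw [tautAut_app]
    change D.x.map (𝟙 o.obj.fst) ≫ o.obj.iso.hom = α.hom.1 ≫ D.x.map e
    rw [hα, CategoryTheory.Functor.map_id, Category.id_comp]
    exact (((Category.assoc _ _ _).trans (congrArg (o.obj.iso.hom ≫ ·)
      (D.x.toFunctor.mapIso (asIso e)).inv_hom_id)).trans (Category.comp_id _)).symm

theorem isAlgSpace_gSheaf (hU : AlgSp.IsAlgSpace D.U) (hx : AlgSt.RepByAlgSp1 D.x) :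
    AlgSp.IsAlgSpace (gSheaf D) := by
  obtain ⟨A, eA, heA⟩ := repByAlgSp_fp (Stk.isFibGrpd_ofPsh D.U.obj) D.h D.x D.x hx (repByAlgSp_ofSp hU)
  obtain ⟨dA, hdA, ⟨i1⟩, ⟨i2⟩⟩ := isEquivOver_symm heA
  let Φ := BasedFunctor.comp (fpLift (F := D.x) (G := D.x) (gProj D) (gProj D) (tautAut D)) dA
  obtain ⟨Ψ, ⟨j1⟩, ⟨j2⟩⟩ := isEquivOver_comp (tautAut_cart D) hdA
  let m := spMapOfFunctor Φ
  let n := spMapOfFunctor Ψ
  have hm : Φ = AlgSt.ofSpMap m := spMapOfFunctor_spec _
  have hn : Ψ = AlgSt.ofSpMap n := spMapOfFunctor_spec _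
  refine A.property.of_iso ⟨n, m, QuotTriv.ofSpMap_inj ?_, QuotTriv.ofSpMap_inj ?_⟩
  · rw [ofSpMap_comp, ← hm, ← hn]
    exact (QuotTriv.eq_of_iso j2).trans (by rfl)
  · rw [ofSpMap_comp, ← hm, ← hn]
    exact (QuotTriv.eq_of_iso j1).trans (by rfl)

theorem locP_gOver {P : MorphismProperty (AlgSp.Sp S)} (hP : Good P) (hU : AlgSp.IsAlgSpace D.U)
    (hx : AlgSt.RepByAlgSpWith P D.x) (hG : AlgSp.IsAlgSpace (gSheaf D)) : P (gOver D).hom :=
  mem_of_repByAlgSpWith_ofSpMap hP.bc hP.det hG hU _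
    (repByAlgSpWith_of_cart P _ _ _ (tautAut_cart D) hx)

/-- A gerbe with a section over a space is the classifying stack of a flat group space. -/
theorem exists_spBG {𝒳 : AlgSt.Cat S} (h𝒳 : AlgSt.IsAlgStack K 𝒳) (U : AlgSp.Space S)
    (π : 𝒳 ⥤ᵇ AlgSt.ofSp U.obj) (hπ : Gerb.IsGerbeOver (QuotSh.J K S) π)
    (x : AlgSt.ofSp U.obj ⥤ᵇ 𝒳) (ex : BasedFunctor.comp x π ≅ BasedFunctor.id (AlgSt.ofSp U.obj)) :
    ∃ (G : Over U.obj) (_ : GrpObj G),
      AlgSp.IsAlgSpace G.left ∧ AlgSp.LocP @Flat G.hom ∧ AlgSp.LocP @LocallyOfFinitePresentation G.hom ∧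
      ∃ e : AlgSt.SpBG K G ⥤ᵇ 𝒳,
        FibCat.IsEquivOver e ∧
        Nonempty (BasedFunctor.comp e π ≅
          W4stkstmgerbes.spQuotToBase K G (AlgSt.trivGAction G)) := by
  let D : Data S := ⟨𝒳, U.obj, h𝒳.isStack, π, x, QuotTriv.eq_of_iso ex⟩
  obtain ⟨h1, h2, h3⟩ := section_fppf h𝒳 hπ ex
  have hx1 : AlgSt.RepByAlgSp1 x :=
    repByAlgSp1_iff_with_top.2 (repByAlgSpWith_mono h1 fun F V m hm => trivial)
  have hG := isAlgSpace_gSheaf D U.property hx1
  refine ⟨gOver D, gGrp D, hG,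
    locP_gOver D (good_locP Groth.Agent.AlgSpCov.standard_flat) U.property h1 hG,
    locP_gOver D (good_locP Groth.Agent.AlgSpCov.standard_locallyOfFinitePresentation) U.property h2 hG, ?_⟩
  letI := gGrp D
  have hF := toBG_isEquivOver D hπ.2
  obtain ⟨e, he, ⟨i1⟩, ⟨i2⟩⟩ := isEquivOver_symm hF
  refine ⟨e, he, ⟨?_⟩⟩
  exact eqToIso (congrArg (BasedFunctor.comp e) (toBG_toBase D hπ.2).symm) ≪≫
    isoWhiskerRight i2 (W4stkstmgerbes.spQuotToBase K (gOver D) (AlgSt.trivGAction (gOver D)))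

end Groth.Agent.StFib.Gerbe.Sect

end
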