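import Groth.Agent.StFib.Gerbe.StabPts
import Groth.Agent.AlgSp.ResOpen
import Groth.Agent.AlgSp.LimAffine
import Groth.Agent.AlgSp.LimSepAbs
import Groth.Agent.StFib.Props2
import Groth.Agent.StFib.DiagConv
import Groth.Agent.S10120
import Groth.Agent.S10127
import Groth.Agent.S10350

/-!
# The stabilizer of a field point is a scheme
-/

set_option autoImplicit false
set_option linter.unusedVariables false
set_option linter.style.haveILetI false
set_option backward.isDefEq.respectTransparency false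
set_option backward.isDefEq.respectTransparency.types false

universe u

open CategoryTheory CategoryTheory.Limits AlgebraicGeometry Opposite FibCat MonoidalCategory CartesianMonoidalCategory
open scoped MonObj

noncomputable section

namespace Groth.Agent.StFib.Stab

open Groth.Agent.AlgSp.Jshriek Groth.Agent.AlgSp

section Group

variable {S : Scheme.{u}} {F : _root_.AlgSp.Sp S} {P : (Over S)ᵒᵖ ⥤ GrpCat.{u}}
  (τ : ∀ W : Over S, ((_root_.AlgSp.yon S).obj W ⟶ F) ≃ P.obj (op W))
  (hτ : ∀ {V W : Over S} (f : V ⟶ W) (z : (_root_.AlgSp.yon S).obj W ⟶ F),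
    τ V ((_root_.AlgSp.yon S).map f ≫ z) = P.map f.op (τ W z))

variable (P) in
/-- Natural families with values in a presheaf of groups. -/
def fam (Z : _root_.AlgSp.Sp S) : Subgroup (∀ W : Over S, ((_root_.AlgSp.yon S).obj W ⟶ Z) → P.obj (op W)) where
  carrier := {θ | ∀ {V W : Over S} (f : V ⟶ W) (z : (_root_.AlgSp.yon S).obj W ⟶ Z),
    θ V ((_root_.AlgSp.yon S).map f ≫ z) = P.map f.op (θ W z)}
  mul_mem' {a b} ha hb {V W} f z := by
    change a V _ * b V _ = P.map f.op (a W z * b W z)
    rw [map_mul, ha f z, hb f z]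
  one_mem' {V W} f z := by
    change (1 : P.obj (op V)) = P.map f.op 1
    rw [map_one]
  inv_mem' {a} ha {V W} f z := by
    change (a V _)⁻¹ = P.map f.op (a W z)⁻¹
    rw [map_inv, ha f z]

variable (P) in
/-- The functor of natural families. -/
def famFunctor (B : _root_.AlgSp.Sp S) : (Over B)ᵒᵖ ⥤ GrpCat.{u + 1} where
  obj Z := GrpCat.of (fam P Z.unop.left)
  map {Z Z'} g := GrpCat.ofHom (MonoidHom.mk'
    (fun θ => ⟨fun W z => θ.1 W (z ≫ g.unop.left), fun {V W} f z => (congrArg (θ.1 V) (Category.assoc _ z _)).trans (θ.2 f _)⟩)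
    fun a b => rfl)
  map_id Z := GrpCat.ext fun θ => Subtype.ext (funext fun W => funext fun z => congrArg (θ.1 W) (Category.comp_id z))
  map_comp {Z Z' Z''} g g' := GrpCat.ext fun θ => Subtype.ext (funext fun W => funext fun z =>
    congrArg (θ.1 W) (Category.assoc z _ _).symm)

include hτ in
theorem famEquiv (Z : _root_.AlgSp.Sp S) : Function.Bijective fun m : Z ⟶ F =>
    (⟨fun W z => τ W (z ≫ m), fun {V W} f z => (congrArg (τ V) (Category.assoc _ z _)).trans (hτ f _)⟩ : fam P Z) := by
  refine ⟨fun m m' e => hom_ext_yon fun W z => (τ W).injective (congrFun (congrFun (congrArg Subtype.val e) W) z),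
    fun θ => ?_⟩
  let φ : Z.obj ⟶ F.obj :=
    { app := fun W => TypeCat.ofHom fun z => yEquiv ((τ W.unop).symm (θ.1 W.unop (yEquiv.symm z)))
      naturality := fun W V m => by
        ext z
        change yEquiv ((τ V.unop).symm (θ.1 V.unop (yEquiv.symm (Z.obj.map m z)))) =
          F.obj.map m.unop.op (yEquiv ((τ W.unop).symm (θ.1 W.unop (yEquiv.symm z))))
        rw [← yEquiv_map]
        congr 1
        have e : yEquiv.symm (Z.obj.map m z) = (_root_.AlgSp.yon S).map m.unop ≫ yEquiv.symm z := yEquiv.injective (by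
          rw [Equiv.apply_symm_apply, yEquiv_map, Equiv.apply_symm_apply]; rfl)
        rw [Equiv.symm_apply_eq, hτ, Equiv.apply_symm_apply, e]
        exact θ.2 m.unop _ }
  refine ⟨⟨φ⟩, Subtype.ext (funext fun W => funext fun z => ?_)⟩
  change τ W (z ≫ (⟨φ⟩ : Z ⟶ F)) = θ.1 W z
  rw [← Equiv.eq_symm_apply]
  apply yEquiv.injective
  rw [yEquiv_comp]
  change yEquiv ((τ W).symm (θ.1 W (yEquiv.symm (yEquiv z)))) = _
  rw [Equiv.symm_apply_apply]

include hτ in
/-- A space whose points form a presheaf of groups is a group space over a final object. -/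
theorem exists_grpObj {B : _root_.AlgSp.Sp S} (hB : IsTerminal B) : Nonempty (GrpObj (Over.mk (hB.from F))) := by
  let G := Over.mk (hB.from F)
  let l : ∀ Z : Over B, (Z ⟶ G) ≃ (Z.left ⟶ F) := fun Z =>
    { toFun := fun f => f.left
      invFun := fun m => Over.homMk m (hB.hom_ext _ _)
      left_inv := fun f => Over.OverMorphism.ext rfl
      right_inv := fun m => rfl }
  let α : (famFunctor P B ⋙ forget _).RepresentableBy G :=
    { homEquiv := fun {Z} => (l Z).trans (Equiv.ofBijective _ (famEquiv τ hτ Z.left))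
      homEquiv_comp := fun {Z Z'} f v => Subtype.ext (funext fun W => funext fun z =>
        congrArg (τ W) (Category.assoc z f.left v.left).symm) }
  exact ⟨GrpObj.ofRepresentableBy G (famFunctor P B) α⟩

end Group

variable {S : Scheme.{u}} {𝒳 : AlgSt.Cat S}

theorem exists_grpScheme {τ₀ : Precoverage Scheme.{u}} (h𝒳 : AlgSt.IsAlgStack τ₀ 𝒳)
    (hΔ : AlgSt.RepByAlgSpWith _root_.AlgSp.IsQuasiSeparatedMor (diag (toSelf 𝒳)))
    (K : Type u) [Field K] (p : Spec (CommRingCat.of K) ⟶ S) (x : overCat (Over.mk p) ⥤ᵇ 𝒳) :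
    ∃ (G : Over (Spec (CommRingCat.of K))) (_ : GrpObj G),
      LocallyOfFiniteType G.hom ∧ Nonempty (Gerb.AutRep x (Gerb.ptsGrp (Over.mk p) G)) := by
  let Sk : Scheme.{u} := Spec (CommRingCat.of K)
  let T : Over S := Over.mk p
  have hg := h𝒳.isStack.1
  have hd := repByAlgSpWith_inf hg (isFibGrpd_fp hg hg (isFibGrpd_of_isEquivOver
      (repByAlgSp_selfOver (S := S)).choose_spec.choose_spec (Stk.isFibGrpd_ofPsh _)) _ _)
    good_quasiSeparated good_lft hΔ (lft_diag_toSelf' h𝒳)
  obtain ⟨A, a, ⟨haq, hal⟩, σ, hσ⟩ := exists_secEquiv x hg (inertiaToBase_mem _ hd)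
  -- the space over the field
  let pt0 : (Over.map p).obj (Over.mk (𝟙 Sk)) ⟶ T := Over.homMk (𝟙 Sk) (by
    change 𝟙 Sk ≫ p = 𝟙 Sk ≫ p
    rfl)
  let pt : (_root_.AlgSp.yon Sk).obj (Over.mk (𝟙 Sk)) ⟶ (res p).obj ((_root_.AlgSp.yon S).obj T) :=
    (Φ p).symm ((_root_.AlgSp.yon S).map pt0)
  let F := pullback ((res p).map a) pt
  let hB : IsTerminal ((_root_.AlgSp.yon Sk).obj (Over.mk (𝟙 Sk))) := LimSepAbs.isTerminalBase
  let str0 : ∀ W : Over Sk, W ⟶ Over.mk (𝟙 Sk) := fun W => Over.homMk W.hom (Category.comp_id _)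
  let back := Over.iteratedSliceBackward T
  have hpt : ∀ W : Over Sk, Φ p ((_root_.AlgSp.yon Sk).map (str0 W) ≫ pt) =
      (_root_.AlgSp.yon S).map (back.obj W).hom := fun W => by
    rw [Φ_map, Equiv.apply_symm_apply, ← Functor.map_comp]
    exact congrArg _ (Over.OverMorphism.ext (Category.comp_id _))
  let sec : ∀ W : Over Sk, ((_root_.AlgSp.yon Sk).obj W ⟶ F) ≃ Sec a (back.obj W) := fun W =>
    { toFun := fun z => ⟨Φ p (z ≫ pullback.fst _ _), by
        rw [← Φ_comp, Category.assoc, pullback.condition, ← Category.assoc,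
          hB.hom_ext (z ≫ pullback.snd _ _) ((_root_.AlgSp.yon Sk).map (str0 W))]
        exact hpt W⟩
      invFun := fun m => pullback.lift ((Φ p).symm m.1) ((_root_.AlgSp.yon Sk).map (str0 W)) ((Φ p).injective (by
        rw [Φ_comp, Equiv.apply_symm_apply, hpt W]
        exact m.2))
      left_inv := fun z => pullback.hom_ext (by rw [pullback.lift_fst, Equiv.symm_apply_apply]) (hB.hom_ext _ _)
      right_inv := fun m => Subtype.ext (by
        change Φ p (pullback.lift _ _ _ ≫ pullback.fst _ _) = m.1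
        rw [pullback.lift_fst, Equiv.apply_symm_apply]) }
  let P : (Over Sk)ᵒᵖ ⥤ GrpCat.{u} := back.op ⋙ autPsh x hg
  let τ : ∀ W : Over Sk, ((_root_.AlgSp.yon Sk).obj W ⟶ F) ≃ P.obj (op W) := fun W => (sec W).trans (σ _)
  have hτ : ∀ {V W : Over Sk} (f : V ⟶ W) (z : (_root_.AlgSp.yon Sk).obj W ⟶ F),
      τ V ((_root_.AlgSp.yon Sk).map f ≫ z) = P.map f.op (τ W z) := fun {V W} f z => by
    refine Eq.trans ?_ (hσ (back.map f) (sec W z))
    refine congrArg (σ _) (Subtype.ext ?_)
    change Φ p (((_root_.AlgSp.yon Sk).map f ≫ z) ≫ _) = (_root_.AlgSp.yon S).map _ ≫ Φ p (z ≫ _)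
    rw [Category.assoc, Φ_map]
    rfl
  -- it is a scheme
  have hF : _root_.AlgSp.IsAlgSpace F := isAlgSpace_pullback (isAlgSpace_res p (_root_.AlgSp.IsAlgSpace.yon_obj T))
    (isAlgSpace_res p A.property) (_root_.AlgSp.IsAlgSpace.yon_obj _) _ _
  have hqs : _root_.AlgSp.IsQuasiSeparatedSp F := by
    refine LimAffine.isQuasiSeparatedSp_of_mor (pullback.snd ((res p).map a) pt)
      (repWith_diagonal_baseChange (IsPullback.of_hasPullback ((res p).map a) pt) ?_) ?_
    · haveI : PreservesLimitsOfSize.{0, 0} (res p) := (adj p).rightAdjoint_preservesLimits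
      have e : pullback.diagonal ((res p).map a) =
          (res p).map (pullback.diagonal a) ≫ (PreservesPullback.iso (res p) a a).hom := by
        apply pullback.hom_ext <;> simp [← Functor.map_comp]
      rw [e]
      exact (MorphismProperty.cancel_right_of_respectsIso (_root_.AlgSp.RepWith @QuasiCompact) _ _).2
        (ResOpen.repWith_res p haq)
    · haveI : IsIso (Limits.diag ((_root_.AlgSp.yon Sk).obj (Over.mk (𝟙 Sk)))) :=
        ⟨prod.fst, by simp, prod.hom_ext (hB.hom_ext _ _) (hB.hom_ext _ _)⟩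
      exact SchImageRep.repWith_of_isIso @QuasiCompact _
  obtain ⟨instF⟩ := exists_grpObj τ hτ hB
  have hsep := @Groth.Agent.S10127.result K _ (Over.mk (hB.from F)) instF hF
    (Groth.Agent.S10350.result ⟨F, hF⟩ hqs)
  obtain ⟨Y, ⟨eY⟩⟩ := Groth.Agent.AlgSpB.exists_iso_of_isRepresentable
    (@Groth.Agent.S10120.result K _ (Over.mk (hB.from F)) instF hF hsep)
  let pts : ∀ W : Over Sk, (W ⟶ Y) ≃ P.obj (op W) := fun W =>
    ((Functor.FullyFaithful.ofFullyFaithful (_root_.AlgSp.yon Sk)).homEquiv.trans (eY.homToEquiv)).trans (τ W)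
  have hpts : ∀ {V W : Over Sk} (f : V ⟶ W) (g : W ⟶ Y), pts V (f ≫ g) = P.map f.op (pts W g) :=
    fun {V W} f g => by
      refine Eq.trans ?_ (hτ f _)
      refine congrArg (τ V) ?_
      change (_root_.AlgSp.yon Sk).map (f ≫ g) ≫ eY.hom = _ ≫ (_root_.AlgSp.yon Sk).map g ≫ eY.hom
      rw [Functor.map_comp, Category.assoc]
  let α : (P ⋙ forget _).RepresentableBy Y := { homEquiv := fun {W} => pts W, homEquiv_comp := hpts }
  letI instY : GrpObj Y := GrpObj.ofRepresentableBy Y P α
  have hmul : ∀ (W : Over Sk) (f₁ f₂ : W ⟶ Y), pts W (f₁ * f₂) = pts W f₁ * pts W f₂ := fun W f₁ f₂ => by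
    change pts W (lift f₁ f₂ ≫ (pts (Y ⊗ Y)).symm (pts _ (fst Y Y) * pts _ (snd Y Y))) = _
    rw [hpts, Equiv.apply_symm_apply, map_mul, ← hpts, ← hpts, lift_fst, lift_snd]
  refine ⟨Y, instY, ?_, ⟨?_⟩⟩
  · let m := sec Y ((_root_.AlgSp.yon Sk).map (𝟙 Y) ≫ eY.hom)
    have : IsIso m.1 := by
      refine Groth.Agent.AlgSpB.isIso_of_forall_yon _ fun Z z => ?_
      obtain ⟨h, hh⟩ := (_root_.AlgSp.yon S).map_surjective (z ≫ a)
      let t : Over T := Over.mk h
      let W : Over Sk := (Over.iteratedSliceForward T).obj t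
      let c : (back.obj W).left ≅ Z := Over.isoMk (Iso.refl _) (by
        change 𝟙 _ ≫ Z.hom = h.left ≫ p
        rw [Category.id_comp]; exact (Over.w h).symm)
      have key : ∀ g : W ⟶ Y, (sec W ((_root_.AlgSp.yon Sk).map g ≫ eY.hom)).1 =
          (_root_.AlgSp.yon S).map ((Over.map p).map g) ≫ m.1 := fun g => by
        change Φ p (((_root_.AlgSp.yon Sk).map g ≫ eY.hom) ≫ _) =
          _ ≫ Φ p (((_root_.AlgSp.yon Sk).map (𝟙 Y) ≫ eY.hom) ≫ _)
        rw [← Φ_map, CategoryTheory.Functor.map_id, Category.id_comp, Category.assoc]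
      let s : Sec a (back.obj W) := ⟨(_root_.AlgSp.yon S).map c.hom ≫ z, by
        rw [Category.assoc, ← hh, ← Functor.map_comp]
        exact congrArg _ (Over.OverMorphism.ext (Category.id_comp _))⟩
      obtain ⟨g, hg'⟩ := (_root_.AlgSp.yon Sk).map_surjective ((sec W).symm s ≫ eY.inv)
      have hgm : (_root_.AlgSp.yon S).map ((Over.map p).map g) ≫ m.1 = (_root_.AlgSp.yon S).map c.hom ≫ z := by
        rw [← key, hg', Category.assoc, eY.inv_hom_id]
        exact congrArg Subtype.val ((congrArg (sec W) (Category.comp_id _)).trans ((sec W).apply_symm_apply s))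
      refine ⟨(_root_.AlgSp.yon S).map (c.inv ≫ (Over.map p).map g), ?_, fun y hy => ?_⟩
      · change (_root_.AlgSp.yon S).map (c.inv ≫ (Over.map p).map g) ≫ m.1 = z
        rw [Functor.map_comp, Category.assoc, hgm, ← Functor.map_comp_assoc, c.inv_hom_id,
          CategoryTheory.Functor.map_id, Category.id_comp]
      · obtain ⟨r, rfl⟩ := (_root_.AlgSp.yon S).map_surjective y
        have hr1 : (c.hom ≫ r).left ≫ Y.hom = W.hom := by
          have h1 : (_root_.AlgSp.yon S).map (c.hom ≫ r ≫ (back.obj Y).hom) =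
              (_root_.AlgSp.yon S).map (c.hom ≫ h) := by
            rw [Functor.map_comp, Functor.map_comp, ← m.2, Functor.map_comp, reassoc_of% hy, hh]
          have := congrArg (fun k : (back.obj W).left ⟶ T => k.left) ((_root_.AlgSp.yon S).map_injective h1)
          change 𝟙 _ ≫ r.left ≫ Y.hom = 𝟙 _ ≫ h.left at this
          change (𝟙 _ ≫ r.left) ≫ Y.hom = h.left
          rw [Category.id_comp] at this ⊢
          simpa using this
        let r₀ : W ⟶ Y := Over.homMk (c.hom ≫ r).left hr1
        have hr0 : (Over.map p).map r₀ = c.hom ≫ r := Over.OverMorphism.ext rfl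
        have h2 : (sec W ((_root_.AlgSp.yon Sk).map r₀ ≫ eY.hom)).1 = (sec W ((_root_.AlgSp.yon Sk).map g ≫ eY.hom)).1 := by
          rw [key, key, hgm, hr0, Functor.map_comp, Category.assoc, hy]
        have h3 : r₀ = g := (_root_.AlgSp.yon Sk).map_injective ((cancel_mono eY.hom).1
          ((sec W).injective (Subtype.ext h2)))
        rw [← h3, hr0, c.inv_hom_id_assoc]
    have h4 := (good_lft (S := S)).bc.of_respects
    have h5 : _root_.AlgSp.LocP @LocallyOfFiniteType ((_root_.AlgSp.yon S).map (back.obj Y).hom) := by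
      rw [← m.2]
      exact (MorphismProperty.cancel_left_of_respectsIso (_root_.AlgSp.LocP @LocallyOfFiniteType) m.1 a).2 hal
    exact _root_.AlgSp.locP_yon_map h5
  · let u := fun t : Over T => (Over.iteratedSliceEquiv (f := T)).unitIso.app t
    refine
      { iso := fun t =>
          { toEquiv := (pts ((Over.iteratedSliceForward T).obj t)).trans
              ((autPsh x hg).mapIso (u t).op).groupIsoToMulEquiv.toEquiv
            map_mul' := fun f₁ f₂ => ?_ }
        natural := fun {t' t} g f => ?_ }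
    · change (autPsh x hg).map _ (pts _ (f₁ * f₂)) = _
      rw [hmul]
      exact map_mul _ _ _
    · change (resAut x hg (u t').hom (pts _ ((Over.iteratedSliceForward T).map g ≫ f))).hom.1 ≫ x.map g =
        x.map g ≫ (resAut x hg (u t).hom (pts _ f)).hom.1
      rw [hpts]
      change (resAut x hg (u t').hom (resAut x hg (back.map ((Over.iteratedSliceForward T).map g)) _)).hom.1 ≫ _ = _
      refine Eq.trans ?_ (resAut_spec x hg g _)
      congr 2
      refine congrArg Iso.hom ?_
      have e : (u t').hom ≫ back.map ((Over.iteratedSliceForward T).map g) = g ≫ (u t).hom :=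
        ((Over.iteratedSliceEquiv (f := T)).unitIso.hom.naturality g).symm
      have h1 := (autPsh x hg).map_comp (back.map ((Over.iteratedSliceForward T).map g)).op (u t').hom.op
      have h2 := (autPsh x hg).map_comp (u t).hom.op g.op
      rw [← op_comp, e] at h1
      rw [← op_comp] at h2
      exact ConcreteCategory.congr_hom (h1.symm.trans h2) (pts _ f)

end Groth.Agent.StFib.Stab

end
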