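import Groth.Agent.StFib.Gerbe.ResSub
import Groth.Agent.ResPropLib.DiagFpqc
import Groth.Agent.AlgSpCov.FpqcDiag

/-!
# Comparison of the fibre products of a chart over two stacks
-/

set_option autoImplicit false
set_option linter.unusedVariables false
set_option linter.style.haveILetI false
set_option backward.isDefEq.respectTransparency false
set_option backward.isDefEq.respectTransparency.types false

universe u

open CategoryTheory CategoryTheory.Limits AlgebraicGeometry Opposite FibCat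

noncomputable section

namespace Groth.Agent.StFib.Gerbe.Compare

variable {S : Scheme.{u}} {𝒲 𝒬 ℛ 𝒳 𝒴 : AlgSt.Cat S}

local notation "K" => Scheme.fppfPrecoverage

/-- The comparison `W ×_Q W ⟶ W ×_R W`. -/
def cmp (w : 𝒲 ⥤ᵇ 𝒬) (g : 𝒬 ⥤ᵇ ℛ) : fp w w ⥤ᵇ fp (BasedFunctor.comp w g) (BasedFunctor.comp w g) :=
  fpLift (fpFst w w) (fpSnd w w) (isoWhiskerRight (fpIso w w) g)

/-- Vertical morphisms between objects in the image of `w` correspond. -/
def Bij (w : 𝒲 ⥤ᵇ 𝒬) (g : 𝒬 ⥤ᵇ ℛ) : Prop :=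
  ∀ (a b : 𝒲.obj) (β : g.obj (w.obj a) ⟶ g.obj (w.obj b)), Vert β →
    ∃ α : w.obj a ⟶ w.obj b, Vert α ∧ g.map α = β ∧ ∀ α' : w.obj a ⟶ w.obj b, Vert α' → g.map α' = β → α' = α

theorem bij_of_isEquivOver {w : 𝒲 ⥤ᵇ 𝒬} {g : 𝒬 ⥤ᵇ ℛ} (hR : IsFibGrpd ℛ.p) (hQ : IsFibGrpd 𝒬.p)
    (e : BasedFunctor.comp (fpFst w w) (BasedFunctor.comp w g) ≅
      BasedFunctor.comp (fpSnd w w) (BasedFunctor.comp w g))
    (he : ∀ c, e.hom.toNatTrans.app c = g.map c.obj.iso.hom)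
    (h : IsEquivOver (fpLift (fpFst w w) (fpSnd w w) e)) : Bij w g := by
  intro a b β hβ
  haveI := hβ.isIso hR
  let L := fpLift (fpFst w w) (fpSnd w w) e
  obtain ⟨x, i, hi⟩ := exists_vert_iso_of_isEquivOver h
    (fpMk (F := BasedFunctor.comp w g) (G := BasedFunctor.comp w g) a b (asIso β) hβ)
  let j₁ : x.obj.fst ≅ a := fpIsoFst i
  let j₂ : x.obj.snd ≅ b := fpIsoSnd i
  have hw : g.map (w.map j₁.hom) ≫ β = e.hom.toNatTrans.app x ≫ g.map (w.map j₂.hom) := i.hom.hom.w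
  rw [he] at hw
  let α : w.obj a ⟶ w.obj b := w.map j₁.inv ≫ x.obj.iso.hom ≫ w.map j₂.hom
  have hv₁ : Vert j₁.hom := vert_fp_iff.1 hi
  have hv₂ : Vert j₂.hom := vert_fp_snd hi
  have hα : Vert α := ((Vert.inv hv₁).map w).comp ((vert_fp_iso x).comp (hv₂.map w))
  have hgα : g.map α = β := by
    simp only [α, Functor.map_comp]
    rw [← hw, ← Functor.map_comp_assoc, ← Functor.map_comp, j₁.inv_hom_id]
    simp
  refine ⟨α, hα, hgα, fun α' hα' hgα' => ?_⟩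
  haveI := hα.isIso hQ
  haveI := hα'.isIso hQ
  let x₁ : (fp w w).obj := fpMk a b (asIso α') hα'
  let x₂ : (fp w w).obj := fpMk a b (asIso α) hα
  haveI := full_of_isEquivOver h
  let k : L.obj x₁ ⟶ L.obj x₂ := fpHom (𝟙 _) (𝟙 _) (by
    change g.map (w.map (𝟙 a)) ≫ e.hom.toNatTrans.app x₂ = e.hom.toNatTrans.app x₁ ≫ g.map (w.map (𝟙 b))
    rw [he, he]
    change g.map (w.map (𝟙 a)) ≫ g.map α = g.map α' ≫ g.map (w.map (𝟙 b))
    simp [hgα, hgα'])
  obtain ⟨l, hl⟩ := L.toFunctor.map_surjective k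
  have h1 : l.hom.fst = 𝟙 a := congrArg (fun t => t.hom.fst) hl
  have h2 : l.hom.snd = 𝟙 b := congrArg (fun t => t.hom.snd) hl
  have h3 : w.map l.hom.fst ≫ α = α' ≫ w.map l.hom.snd := l.hom.w
  rw [h1, h2] at h3
  erw [CategoryTheory.Functor.map_id, CategoryTheory.Functor.map_id, Category.id_comp, Category.comp_id] at h3
  exact h3.symm

theorem isEquivOver_cmp {w : 𝒲 ⥤ᵇ 𝒬} {g : 𝒬 ⥤ᵇ ℛ} (hQ : IsFibGrpd 𝒬.p) (hR : IsFibGrpd ℛ.p)
    (h : Bij w g) : IsEquivOver (cmp w g) := by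
  haveI : (cmp w g).toFunctor.Faithful := ⟨fun {x y} φ ψ hh =>
    fp_hom_ext (show φ.hom.fst = ψ.hom.fst from congrArg (fun t => t.hom.fst) hh)
      (show φ.hom.snd = ψ.hom.snd from congrArg (fun t => t.hom.snd) hh)⟩
  haveI : (cmp w g).toFunctor.Full := ⟨fun {x y} k => by
    let k₁ : x.obj.fst ⟶ y.obj.fst := k.hom.fst
    let k₂ : x.obj.snd ⟶ y.obj.snd := k.hom.snd
    have hw : g.map (w.map k₁) ≫ g.map y.obj.iso.hom = g.map x.obj.iso.hom ≫ g.map (w.map k₂) := k.hom.w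
    have hp : 𝒬.p.map (x.obj.iso.hom ≫ w.map k₂) = 𝒬.p.map (w.map k₁ ≫ y.obj.iso.hom) :=
      map_eq_map_of_p g _ _ (by rw [Functor.map_comp g.toFunctor, Functor.map_comp g.toFunctor]; exact hw.symm)
    have eb : 𝒬.p.obj (w.obj x.obj.fst) = 𝒬.p.obj (w.obj x.obj.snd) := (vert_fp_iso x).base_eq
    obtain ⟨χ, hχ, hχe⟩ := grpd_exists_vert_fac hQ (w.map k₂) (w.map k₁ ≫ y.obj.iso.hom) eb (by
      rw [← hp, Functor.map_comp, (vert_fp_iso x).2])
    have hg : g.map χ.hom = g.map x.obj.iso.hom := by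
      have e1 : g.map χ.hom ≫ g.map (w.map k₂) = g.map x.obj.iso.hom ≫ g.map (w.map k₂) := by
        rw [← Functor.map_comp g.toFunctor, hχe, Functor.map_comp g.toFunctor]
        exact hw
      exact grpd_cancel hR _ e1 (by rw [(hχ.map g).2, ((vert_fp_iso x).map g).2])
    obtain ⟨α, -, -, hu⟩ := h _ _ (g.map x.obj.iso.hom) ((vert_fp_iso x).map g)
    have hχx : χ.hom = x.obj.iso.hom := (hu _ hχ hg).trans (hu _ (vert_fp_iso x) rfl).symm
    exact ⟨fpHom k₁ k₂ (by rw [← hχe, hχx]), fp_hom_ext rfl rfl⟩⟩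
  refine isEquivOver_mk _ fun z => ?_
  obtain ⟨α, hα, hgα, -⟩ := h z.obj.fst z.obj.snd z.obj.iso.hom (vert_fp_iso z)
  haveI := hα.isIso hQ
  refine ⟨fpMk z.obj.fst z.obj.snd (asIso α) hα, fpIsoMk (Iso.refl _) (Iso.refl _) ?_, vert_fp_iff.2 (Vert.id _)⟩
  change g.map (w.map (𝟙 _)) ≫ z.obj.iso.hom = g.map α ≫ g.map (w.map (𝟙 _))
  simp [hgα]

theorem bij_of_iso {w w' : 𝒲 ⥤ᵇ 𝒬} {g : 𝒬 ⥤ᵇ ℛ} (i : w ≅ w') (h : Bij w g) : Bij w' g := by
  intro a b β hβ
  have hva := vert_isoApp i a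
  have hvb := vert_isoApp i b
  obtain ⟨α, hα, hgα, hu⟩ := h a b (g.map (isoApp i a).hom ≫ β ≫ g.map (isoApp i b).inv)
    ((hva.map g).comp (hβ.comp ((Vert.inv hvb).map g)))
  refine ⟨(isoApp i a).inv ≫ α ≫ (isoApp i b).hom, (Vert.inv hva).comp (hα.comp hvb), ?_, fun α' hα' hg' => ?_⟩
  · rw [Functor.map_comp, Functor.map_comp, hgα]
    simp only [Category.assoc]
    rw [← Functor.map_comp, Iso.inv_hom_id, CategoryTheory.Functor.map_id, Category.comp_id, ← Functor.map_comp_assoc,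
      Iso.inv_hom_id, CategoryTheory.Functor.map_id, Category.id_comp]
  · have := hu ((isoApp i a).hom ≫ α' ≫ (isoApp i b).inv) (hva.comp (hα'.comp (Vert.inv hvb)))
      (by simp [hg'])
    rw [← this]
    simp only [Category.assoc, Iso.inv_hom_id_assoc, Iso.inv_hom_id, Category.comp_id]

theorem bij_comp {𝒲' : AlgSt.Cat S} (c : 𝒲' ⥤ᵇ 𝒲) {w : 𝒲 ⥤ᵇ 𝒬} {g : 𝒬 ⥤ᵇ ℛ} (h : Bij w g) :
    Bij (BasedFunctor.comp c w) g :=
  fun a b β hβ => h (c.obj a) (c.obj b) β hβ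

/-- Correspondence passes to fully faithful substacks. -/
theorem bij_of_square {q : 𝒲 ⥤ᵇ 𝒬} {g : 𝒬 ⥤ᵇ ℛ} {i : 𝒬 ⥤ᵇ 𝒳} {i' : ℛ ⥤ᵇ 𝒴} {f : 𝒳 ⥤ᵇ 𝒴}
    [i.toFunctor.Full] [i.toFunctor.Faithful] [i'.toFunctor.Faithful]
    (e : BasedFunctor.comp g i' ≅ BasedFunctor.comp i f) (h : Bij (BasedFunctor.comp q i) f) : Bij q g := by
  intro a b β hβ
  obtain ⟨α, hα, hfα, hu⟩ := h a b ((isoApp e (q.obj a)).inv ≫ i'.map β ≫ (isoApp e (q.obj b)).hom)
    ((Vert.inv (vert_isoApp e _)).comp ((hβ.map i').comp (vert_isoApp e _)))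
  have key : ∀ γ : q.obj a ⟶ q.obj b, g.map γ = β ↔
      f.map (i.map γ) = (isoApp e (q.obj a)).inv ≫ i'.map β ≫ (isoApp e (q.obj b)).hom := by
    intro γ
    have hn : i'.map (g.map γ) ≫ (isoApp e (q.obj b)).hom = (isoApp e (q.obj a)).hom ≫ f.map (i.map γ) :=
      isoApp_naturality e γ
    rw [Iso.eq_inv_comp, ← hn, cancel_mono]
    exact ⟨fun hγ => congrArg i'.map hγ, fun hγ => i'.toFunctor.map_injective hγ⟩
  obtain ⟨γ, hγ⟩ := i.toFunctor.map_surjective α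
  refine ⟨γ, Vert.of_map i (hγ.symm ▸ hα), (key γ).2 (by rw [hγ]; exact hfα), fun γ' hγ' hg => ?_⟩
  exact i.toFunctor.map_injective ((hu _ (hγ'.map i) ((key γ').1 hg)).trans hγ.symm)

theorem repByAlgSpWith_compPhi' (P : MorphismProperty (AlgSp.Sp S)) (hP : Good P)
    (h𝒲 : IsFibGrpd 𝒲.p) (hQ : IsFibGrpd 𝒬.p) (hR : IsFibGrpd ℛ.p) {x : 𝒲 ⥤ᵇ 𝒬}
    (hx : AlgSt.RepByAlgSpWith P x) (t : 𝒬 ⥤ᵇ ℛ) : AlgSt.RepByAlgSpWith P (compPhi x x t) := by
  let M1 := fpMap (F := t) (G := BasedFunctor.comp x t) (F' := BasedFunctor.comp x t)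
    (G' := BasedFunctor.comp x t) x (BasedFunctor.id _) (BasedFunctor.id _) (Iso.refl _) (Iso.refl _)
  let M2 := fpMap (F := t) (G := t) (F' := t) (G' := BasedFunctor.comp x t) (BasedFunctor.id 𝒬) x
    (BasedFunctor.id _) (Iso.refl _) (Iso.refl _)
  have h : AlgSt.RepByAlgSpWith P (BasedFunctor.comp M1 M2) :=
    repByAlgSpWith_comp hP.bc hP.comp hP.det
      (isFibGrpd_fp h𝒲 h𝒲 hR _ _)
      (isFibGrpd_fp hQ h𝒲 hR _ _)
      (repByAlgSpWith_fpMap_left P hx t _) (repByAlgSpWith_fpMap_right P hx t t)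
  refine repByAlgSpWith_of_iso P ?_ h
  exact isoMk (fun w => fpIsoMk (Iso.refl _) (Iso.refl _) (by
      change t.map (𝟙 _) ≫ w.obj.iso.hom =
        (𝟙 _ ≫ (𝟙 _ ≫ w.obj.iso.hom ≫ 𝟙 _) ≫ 𝟙 _) ≫ t.map (𝟙 _)
      simp
      exact (Category.comp_id _).symm))
    (fun w => Vert.id _)
    (fun φ => fp_hom_ext ((Category.comp_id _).trans (Category.id_comp _).symm)
      ((Category.comp_id _).trans (Category.id_comp _).symm))

/-- The comparison for a restricted chart is a base change of the comparison. -/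
theorem cmp_cart {𝒲' : AlgSt.Cat S} (c : 𝒲' ⥤ᵇ 𝒲) (w : 𝒲 ⥤ᵇ 𝒬) (g : 𝒬 ⥤ᵇ ℛ) :
    ∃ L : fp (BasedFunctor.comp c w) (BasedFunctor.comp c w) ⥤ᵇ
        fp (compPhi c c (BasedFunctor.comp w g)) (cmp w g), IsEquivOver L ∧
      Nonempty (BasedFunctor.comp L (fpFst (compPhi c c (BasedFunctor.comp w g)) (cmp w g)) ≅
        cmp (BasedFunctor.comp c w) g) := by
  let w' := BasedFunctor.comp c w
  let X : fp w' w' ⥤ᵇ fp w w :=
    fpLift (BasedFunctor.comp (fpFst w' w') c) (BasedFunctor.comp (fpSnd w' w') c) (fpIso w' w')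
  let ε : BasedFunctor.comp (cmp w' g) (compPhi c c (BasedFunctor.comp w g)) ≅
      BasedFunctor.comp X (cmp w g) :=
    isoMk (fun x => fpIsoMk (Iso.refl _) (Iso.refl _) (by
        change g.map (w.map (𝟙 _)) ≫ g.map x.obj.iso.hom = g.map x.obj.iso.hom ≫ g.map (w.map (𝟙 _))
        erw [CategoryTheory.Functor.map_id, CategoryTheory.Functor.map_id, CategoryTheory.Functor.map_id, CategoryTheory.Functor.map_id, Category.id_comp, Category.comp_id]))
      (fun x => Vert.id _)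
      (fun φ => fp_hom_ext ((Category.comp_id _).trans (Category.id_comp _).symm)
        ((Category.comp_id _).trans (Category.id_comp _).symm))
  refine ⟨fpLift (cmp w' g) X ε, ?_, ⟨Iso.refl _⟩⟩
  refine fpLift_isEquivOver_mk _ _ _
    (fun {x x'} φ ψ h _ => fp_hom_ext (show φ.hom.fst = ψ.hom.fst from congrArg (fun k => k.hom.fst) h)
      (show φ.hom.snd = ψ.hom.snd from congrArg (fun k => k.hom.snd) h))
    (fun {x x'} a b h => ?_) fun z => ?_
  · have h1 : c.map a.hom.fst ≫ 𝟙 _ = 𝟙 _ ≫ b.hom.fst := congrArg (fun k => k.hom.fst) h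
    have h2 : c.map a.hom.snd ≫ 𝟙 _ = 𝟙 _ ≫ b.hom.snd := congrArg (fun k => k.hom.snd) h
    have h1' : c.map a.hom.fst = b.hom.fst := by simpa using h1
    have h2' : c.map a.hom.snd = b.hom.snd := by simpa using h2
    have hw : w.map b.hom.fst ≫ x'.obj.iso.hom = x.obj.iso.hom ≫ w.map b.hom.snd := b.hom.w
    rw [← h1', ← h2'] at hw
    exact ⟨fpHom a.hom.fst a.hom.snd hw, fp_hom_ext rfl rfl, fp_hom_ext h1' h2'⟩
  · let x := z.obj.fst
    let y := z.obj.snd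
    let u : c.obj x.obj.fst ≅ y.obj.fst := fpIsoFst z.obj.iso
    let v : c.obj x.obj.snd ≅ y.obj.snd := fpIsoSnd z.obj.iso
    have hu : Vert u.hom := vert_fp_iff.1 (vert_fp_iso z)
    have hv : Vert v.hom := vert_fp_snd (vert_fp_iso z)
    have hw : g.map (w.map u.hom) ≫ g.map y.obj.iso.hom = x.obj.iso.hom ≫ g.map (w.map v.hom) :=
      z.obj.iso.hom.hom.w
    let α : w'.obj x.obj.fst ≅ w'.obj x.obj.snd :=
      w.toFunctor.mapIso u ≪≫ y.obj.iso ≪≫ (w.toFunctor.mapIso v).symm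
    have hα : Vert α.hom := (hu.map w).comp ((vert_fp_iso y).comp ((Vert.inv hv).map w))
    refine ⟨fpMk (F := w') (G := w') x.obj.fst x.obj.snd α hα,
      fpIsoMk (Iso.refl _) (Iso.refl _) ?_, fpIsoMk u v ?_, Vert.id _, fp_hom_ext ?_ ?_⟩
    · change g.map (w.map (c.map (𝟙 _))) ≫ x.obj.iso.hom = g.map α.hom ≫ g.map (w.map (c.map (𝟙 _)))
      simp only [α, Iso.trans_hom, Iso.symm_hom, Functor.mapIso_hom, Functor.mapIso_inv, Functor.map_comp,
        CategoryTheory.Functor.map_id, Category.id_comp, Category.comp_id]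
      rw [reassoc_of% hw, ← Functor.map_comp, ← Functor.map_comp, v.hom_inv_id]
      simp
      erw [CategoryTheory.Functor.map_id, Category.id_comp, Category.comp_id]
    · change w.map u.hom ≫ y.obj.iso.hom =
        (w.map u.hom ≫ y.obj.iso.hom ≫ w.map v.inv) ≫ w.map v.hom
      simp [← Functor.map_comp]
    · change c.map (𝟙 _) ≫ u.hom = 𝟙 _ ≫ u.hom
      simp <;> rfl
    · change c.map (𝟙 _) ≫ v.hom = 𝟙 _ ≫ v.hom
      simp <;> rfl

/-- Isomorphisms of sheaves. -/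
abbrev Iso' : MorphismProperty (AlgSp.Sp S) := MorphismProperty.isomorphisms (AlgSp.Sp S)

theorem stableBC_iso : StableBC (Iso' (S := S)) := by
  intro X₁ Y₁ X₂ Y₂ _ _ _ _ a b a' b' sq h
  haveI : IsIso a := h
  exact sq.isIso_snd_of_isIso

theorem fpqcLocal_iso : AlgSp.IsLocalOnBase AlgSp.IsFpqcCover (Iso' (S := S)) := by
  intro ι Y Yi g hY hYi hg X f hX Xi p q hXi sq
  refine ⟨fun h i => ?_, fun h => AlgSpCov.isIso_of_fpqc hY hYi hg hX hXi sq h⟩
  haveI : IsIso f := h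
  exact (sq i).isIso_snd_of_isIso

/-- A morphism representable by isomorphisms is an equivalence. -/
theorem isEquivOver_of_iso' (hX : IsFibGrpd 𝒳.p) (hY : IsFibGrpd 𝒴.p) {f : 𝒳 ⥤ᵇ 𝒴}
    (hf : AlgSt.RepByAlgSpWith Iso' f) : IsEquivOver f := by
  have hm : AlgSt.IsMono f := repByAlgSpWith_mono hf fun F U a (ha : IsIso a) => (inferInstance : Mono a)
  obtain ⟨_, _⟩ := fullyFaithful_of_isMono hX hY f hm
  refine isEquivOver_mk f fun o => ?_
  obtain ⟨y, i, hi⟩ := exists_overFunctor hY (U := 𝒴.p.obj o) o rfl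
  obtain ⟨A, e, he, ha⟩ := hf _ y
  obtain ⟨ia⟩ := exists_iso_ofSpMap_toOverCat (A := A.obj) (BasedFunctor.comp e (fpFst y f))
  let a := AlgSt.spMapOfOver (BasedFunctor.comp e (fpFst y f))
  haveI : IsIso a := ha
  let c := BasedFunctor.comp (AlgSt.ofOverCat (𝒴.p.obj o)) (BasedFunctor.comp (AlgSt.ofSpMap (inv a)) e)
  have h1 : BasedFunctor.comp (AlgSt.ofSpMap (inv a)) (AlgSt.ofSpMap a) = BasedFunctor.id _ := by
    change AlgSt.ofSpMap (inv a ≫ a) = _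
    rw [IsIso.inv_hom_id]
    rfl
  let j : BasedFunctor.comp (BasedFunctor.comp c (fpSnd y f)) f ≅ y :=
    (isoWhiskerLeft c (fpIso y f)).symm ≪≫
    isoWhiskerLeft (BasedFunctor.comp (AlgSt.ofOverCat _) (AlgSt.ofSpMap (inv a))) (isoWhiskerRight ia.symm y) ≪≫
    eqToIso (congrArg (fun m => BasedFunctor.comp (AlgSt.ofOverCat _)
      (BasedFunctor.comp m (BasedFunctor.comp (AlgSt.toOverCat _) y))) h1) ≪≫ Iso.refl _
  exact ⟨(BasedFunctor.comp c (fpSnd y f)).obj (Over.mk (𝟙 _)), isoApp j _ ≪≫ i, (vert_isoApp j _).comp hi⟩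

/-- An equivalence from a category represented by a space is representable by isomorphisms. -/
theorem iso'_of_isEquivOver {f : 𝒳 ⥤ᵇ 𝒴} (hf : IsEquivOver f) (hX : AlgSt.RepByAlgSp 𝒳) :
    AlgSt.RepByAlgSpWith Iso' f := by
  obtain ⟨A, e, he⟩ := hX
  exact (repByAlgSpWith_iff_of_equiv Iso' e (BasedFunctor.comp e f) he (isEquivOver_comp he hf)
    (f := f) (f' := AlgSt.ofSpMap (𝟙 A.obj)) (Iso.refl _)).2
    (repByAlgSpWith_ofSpMap stableBC_iso A.property A.property _ (inferInstanceAs (IsIso (𝟙 A.obj))))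

/-- Correspondence along a cover by a scheme with correspondence after an affine flat surjective base change
gives full faithfulness. -/
theorem fullyFaithful_of_bij (hQ : AlgSt.IsAlgStack K 𝒬) (hR : AlgSt.IsAlgStack K ℛ) (g : 𝒬 ⥤ᵇ ℛ)
    {T T' : Over S} (z : overCat T ⥤ᵇ 𝒬) (c : T' ⟶ T) [IsAffineHom c.left] [Flat c.left] [Surjective c.left]
    (hz₁ : AlgSt.RepByAlgSpWith (AlgSp.LocP @Flat) z)
    (hz₂ : AlgSt.RepByAlgSpWith (AlgSp.LocP @LocallyOfFinitePresentation) z)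
    (hz₃ : AlgSt.RepByAlgSpWith AlgSp.IsSurjectiveMor z)
    (h : Bij (BasedFunctor.comp (AlgSt.overMap c) z) g) :
    g.toFunctor.Full ∧ g.toFunctor.Faithful := by
  have hT := isFibGrpd_overCat T
  have hT' := isFibGrpd_overCat T'
  have hFR := isFibGrpd_fp hQ.isStack.1 hQ.isStack.1 hR.isStack.1 g g
  have hd : AlgSt.RepByAlgSp1 (diag g) := repByAlgSp1_of_with (lft_diag hQ hR g)
  have hcart := comp_cart z z g (isoWhiskerRight (fpIso z z) g) fun _ => rfl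
  have hu : ∀ P : MorphismProperty (AlgSp.Sp S), AlgSt.RepByAlgSpWith P (fpFst (compPhi z z g) (diag g)) ↔
      AlgSt.RepByAlgSpWith P (cmp z g) := fun P =>
    repByAlgSpWith_iff_of_equiv P _ (BasedFunctor.id _) hcart (isEquivOver_id _)
      (f := fpFst (compPhi z z g) (diag g)) (f' := cmp z g) (Iso.refl _)
  have hcmp : AlgSt.RepByAlgSp1 (cmp z g) := repByAlgSp1_of_with ((hu _).1
    (repByAlgSpWith_fpFst _ (compPhi z z g) (lft_diag hQ hR g)))
  -- the base change along `c × c`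
  let w := BasedFunctor.comp (AlgSt.overMap c) z
  let χ := compPhi (AlgSt.overMap c) (AlgSt.overMap c) (BasedFunctor.comp z g)
  have hcP : ∀ {P : MorphismProperty (AlgSp.Sp S)}, Good P → AlgSt.RepByAlgSpWith P (AlgSt.overMap c) →
      AlgSt.RepByAlgSpWith P χ := fun hP hc => repByAlgSpWith_compPhi' _ hP hT' hT hR.isStack.1 hc _
  have haff : AlgSt.RepByAlgSpWith AlgSp.IsAffineMor (AlgSt.overMap c) :=
    (repByAlgSpWith_iff_of_equiv _ (AlgSt.toOverCat T') (AlgSt.toOverCat T)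
      (toOverCat_isEquivOver T') (toOverCat_isEquivOver T) (toOverCatIso c)).2
      (repByAlgSpWith_ofSpMap good_affine.bc (isAlgSpace_yon T') (isAlgSpace_yon T) _
        ((Groth.Agent.AlgSp.isAffineMor_iff _).2 ((AlgSp.repWith_yon_map_iff _ _).2 ‹IsAffineHom c.left›)))
  have hW : AlgSt.RepByAlgSp (fp w w) := repByAlgSp1_chart hQ w T' w
  obtain ⟨L, hL, ⟨iL⟩⟩ := cmp_cart (AlgSt.overMap c) z g
  have h' : AlgSt.RepByAlgSpWith Iso' (fpFst χ (cmp z g)) :=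
    (repByAlgSpWith_iff_of_equiv Iso' L (BasedFunctor.id _) hL (isEquivOver_id _)
      (f := fpFst χ (cmp z g)) (f' := cmp w g) iL.symm).2
      (iso'_of_isEquivOver (isEquivOver_cmp hQ.isStack.1 hR.isStack.1 h) hW)
  have hI : AlgSt.RepByAlgSpWith Iso' (cmp z g) :=
    ResPropLib.repByAlgSpWith_of_affine_cover stableBC_iso
      (detected_of_isLocalOnBase (fppfLocal_of_fpqc fpqcLocal_iso)) fpqcLocal_iso hcmp
      (hcP good_affine haff)
      (hcP (good_locP AlgSpCov.standard_flat) (repByAlgSpWith_overMap_locP AlgSpCov.standard_flat c inferInstance))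
      (hcP good_surjective (RatLift.repByAlgSpWith_overMap_surjective c)) h'
  have hΦ : ∀ {P : MorphismProperty (AlgSp.Sp S)}, Good P → AlgSt.RepByAlgSpWith P z →
      AlgSt.RepByAlgSpWith P (compPhi z z g) := fun hP hz =>
    repByAlgSpWith_compPhi' _ hP hT hQ.isStack.1 hR.isStack.1 hz g
  have hD : IsEquivOver (diag g) := isEquivOver_of_iso' hQ.isStack.1 hFR
    ((repByAlgSpWith_iff_fpFst_cover stableBC_iso (fppfLocal_of_fpqc fpqcLocal_iso) hFR
      (isFibGrpd_fp hT hT hR.isStack.1 _ _) hd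
      (hΦ (good_locP AlgSpCov.standard_flat) hz₁)
      (hΦ (good_locP AlgSpCov.standard_locallyOfFinitePresentation) hz₂)
      (hΦ good_surjective hz₃)).2 ((hu _).2 hI))
  haveI := full_of_isEquivOver hD
  refine ⟨full_of_vert hQ.isStack.1 hR.isStack.1 g fun a b β hβ => ?_, ⟨fun {a b} α α' hαα => ?_⟩⟩
  · haveI := hβ.isIso hR.isStack.1
    obtain ⟨x, i, hi⟩ := exists_vert_iso_of_isEquivOver hD (fpMk (F := g) (G := g) a b (asIso β) hβ)
    have hw : g.map i.hom.hom.fst ≫ β = 𝟙 _ ≫ g.map i.hom.hom.snd := i.hom.hom.w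
    refine ⟨(fpIsoFst i).inv ≫ (fpIsoSnd i).hom, ?_⟩
    rw [Functor.map_comp]
    change g.map (fpIsoFst i).inv ≫ g.map i.hom.hom.snd = β
    rw [Category.id_comp] at hw
    rw [← hw, ← Functor.map_comp_assoc]
    change g.map ((fpIsoFst i).inv ≫ (fpIsoFst i).hom) ≫ β = β
    rw [Iso.inv_hom_id]
    simp
  · let k : (diag g).obj a ⟶ (diag g).obj b := fpHom α α' (by
      change g.map α ≫ 𝟙 _ = 𝟙 _ ≫ g.map α'
      rw [hαα]; simp)
    obtain ⟨γ, hγ⟩ := (diag g).toFunctor.map_surjective k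
    exact (congrArg (fun t => t.hom.fst) hγ).symm.trans (congrArg (fun t => t.hom.snd) hγ)

end Groth.Agent.StFib.Gerbe.Compare

end
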