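import Groth.Agent.StFib.Gerbe.AutGroup
import Groth.Agent.StFib.DiagRep
import Groth.Agent.StFib.LocQMore

/-!
# The relative diagonal of a gerbe is flat, locally of finite presentation and surjective
-/

set_option autoImplicit false
set_option linter.unusedVariables false
set_option backward.isDefEq.respectTransparency false
set_option backward.isDefEq.respectTransparency.types false

universe u

open CategoryTheory CategoryTheory.Limits AlgebraicGeometry Opposite FibCat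

noncomputable section

namespace Groth.Agent.StFib.Gerbe

variable {S : Scheme.{u}} {𝒳 𝒴 : AlgSt.Cat S}

local notation "K" => Scheme.fppfPrecoverage

/-- Sections of gerbes over schemes. -/
theorem section_fppf_overCat {U : Over S} (h𝒳 : AlgSt.IsAlgStack K 𝒳) {π : 𝒳 ⥤ᵇ overCat U}
    (hπ : Gerb.IsGerbeOver (QuotSh.J K S) π) {x : overCat U ⥤ᵇ 𝒳}
    (e : BasedFunctor.comp x π ≅ BasedFunctor.id (overCat U)) :
    AlgSt.RepByAlgSpWith (AlgSp.LocP @Flat) x ∧
      AlgSt.RepByAlgSpWith (AlgSp.LocP @LocallyOfFinitePresentation) x ∧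
      AlgSt.RepByAlgSpWith AlgSp.IsSurjectiveMor x := by
  let Uspace : AlgSp.Space S := ⟨_, isAlgSpace_yon U⟩
  have hO : IsEquivOver (AlgSt.ofOverCat U) := ⟨AlgSt.toOverCat _, ⟨Iso.refl _⟩, ⟨Iso.refl _⟩⟩
  let π' : 𝒳 ⥤ᵇ AlgSt.ofSp Uspace.obj := BasedFunctor.comp π (AlgSt.ofOverCat U)
  let x' : AlgSt.ofSp Uspace.obj ⥤ᵇ 𝒳 := BasedFunctor.comp (AlgSt.toOverCat U) x
  have hπ' : Gerb.IsGerbeOver (QuotSh.J K S) π' :=
    GalCohAux.GerbBasic.comp h𝒳.isStack.1 (isFibGrpd_overCat U) hπ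
      (isGerbeOver_of_isEquivOver (Stk.isFibGrpd_ofPsh _) hO)
  let e' : BasedFunctor.comp x' π' ≅ BasedFunctor.id (AlgSt.ofSp Uspace.obj) :=
    isoWhiskerRight (isoWhiskerLeft (AlgSt.toOverCat U) e) (AlgSt.ofOverCat U)
  obtain ⟨h1, h2, h3⟩ := section_fppf h𝒳 hπ' e'
  exact ⟨repByAlgSpWith_comp_isEquivOver h1 hO, repByAlgSpWith_comp_isEquivOver h2 hO,
    repByAlgSpWith_comp_isEquivOver h3 hO⟩

/-- The base change of a gerbe along a point is a gerbe. -/
theorem isGerbeOver_fpFst (h𝒴 : IsFibGrpd 𝒴.p) {f : 𝒳 ⥤ᵇ 𝒴} (hf : Gerb.IsGerbeOver (QuotSh.J K S) f)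
    {U : Over S} (y : overCat U ⥤ᵇ 𝒴) : Gerb.IsGerbeOver (QuotSh.J K S) (fpFst y f) := by
  refine GalCohAux.GerbBasic.baseChange (e := fpIso y f) (G' := fpSnd y f) (isFibGrpd_overCat U) h𝒴 ?_ hf
  exact fpLift_self_isEquivOver y f

/-- The diagonal section of the fibre product of a slice with itself. -/
theorem slice_diag_isEquivOver {U : Over S} {F G : overCat U ⥤ᵇ overCat U} (i : F ≅ BasedFunctor.id _)
    (j : G ≅ BasedFunctor.id _) :
    IsEquivOver (fpLift (F := F) (G := G) (BasedFunctor.id _) (BasedFunctor.id _) (i ≪≫ j.symm)) := by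
  refine fpLift_isEquivOver_mk _ _ _ (fun φ ψ h _ => h) (fun {w w'} a b h => ⟨a, rfl, ?_⟩) fun z => ?_
  · refine Over.OverMorphism.ext ?_
    have h' := congrArg (overCat U).p.map h
    rw [Functor.map_comp, Functor.map_comp, w_map, w_map, (vert_isoApp _ _).2, (vert_isoApp _ _).2] at h'
    simp only [Category.assoc, eqToHom_trans, eqToHom_trans_assoc] at h'
    rwa [cancel_epi, cancel_mono] at h'
  · let m := (isoApp i z.obj.fst).symm ≪≫ z.obj.iso ≪≫ isoApp j z.obj.snd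
    have hm : Vert m.hom := (vert_isoApp_inv i _).comp ((vert_fp_iso z).comp (vert_isoApp j _))
    refine ⟨z.obj.fst, Iso.refl _, m, Vert.id _, ?_⟩
    exact overCat_vert_unique (((Vert.id _).map F).comp (vert_fp_iso z))
      ((vert_isoApp _ _).comp (hm.map G))

set_option maxHeartbeats 2000000 in
/-- A property shared by the sections of the base changes of a map holds for its diagonal. -/
theorem diag_of_sections (P : MorphismProperty (AlgSp.Sp S)) (f : 𝒳 ⥤ᵇ 𝒴)
    (h : ∀ (U : Over S) (y : overCat U ⥤ᵇ 𝒴) (s : overCat U ⥤ᵇ fp y f),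
      Nonempty (BasedFunctor.comp s (fpFst y f) ≅ BasedFunctor.id (overCat U)) →
        AlgSt.RepByAlgSpWith P s) :
    AlgSt.RepByAlgSpWith P (diag f) := by
  intro U z
  let a : overCat U ⥤ᵇ 𝒳 := BasedFunctor.comp z (fpFst f f)
  let b : overCat U ⥤ᵇ 𝒳 := BasedFunctor.comp z (fpSnd f f)
  let y : overCat U ⥤ᵇ 𝒴 := BasedFunctor.comp a f
  let q := fpFst y f
  let sa : overCat U ⥤ᵇ fp y f := fpLift (BasedFunctor.id _) a (Iso.refl _)
  let sb : overCat U ⥤ᵇ fp y f := fpLift (BasedFunctor.id _) b (isoWhiskerLeft z (fpIso f f))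
  let z' : overCat U ⥤ᵇ fp q q := fpLift sa sb (Iso.refl _)
  have i0 : z ≅ BasedFunctor.comp z' (diagPhi y f) :=
    isoMk (F := z) (G := BasedFunctor.comp z' (diagPhi y f))
      (fun (x : (overCat U).obj) => fpIsoMk (Iso.refl _) (Iso.refl _) (by
        change f.map (Iso.refl (z.obj x).obj.fst).hom ≫
            (𝟙 _ ≫ y.map (CategoryStruct.id (obj := (overCat U).obj) x) ≫ (z.obj x).obj.iso.hom) = _
        simp <;> exact Category.id_comp ((z.obj x).obj.iso.hom)))
      (fun x => Vert.id _)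
      (fun {g g' : (overCat U).obj} (φ : g ⟶ g') => fp_hom_ext (F := f) (G := f)
        (show (z.map φ).hom.fst ≫ 𝟙 (z.obj g').obj.fst = 𝟙 (z.obj g).obj.fst ≫ (z.map φ).hom.fst by simp)
        (show (z.map φ).hom.snd ≫ 𝟙 (z.obj g').obj.snd = 𝟙 (z.obj g).obj.snd ≫ (z.map φ).hom.snd by simp))
  -- the comparison with the fibre product of the two sections
  have hsb : AlgSt.RepByAlgSpWith P sb := h U y sb ⟨Iso.refl _⟩
  have h1 : AlgSt.RepByAlgSpWith P (fpFst sa sb) := repByAlgSpWith_fpFst P sa hsb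
  let s : overCat U ⥤ᵇ fp (BasedFunctor.comp sa q) (BasedFunctor.comp sb q) :=
    fpLift (BasedFunctor.id _) (BasedFunctor.id _) (Iso.refl (BasedFunctor.id _) ≪≫ (Iso.refl (BasedFunctor.id _)).symm)
  have hs : IsEquivOver s := slice_diag_isEquivOver (Iso.refl _) (Iso.refl _)
  let ee : BasedFunctor.comp (BasedFunctor.comp (fpFst sa sb) sa) q ≅
      BasedFunctor.comp (BasedFunctor.comp (fpSnd sa sb) sb) q := isoWhiskerRight (fpIso sa sb) q
  let C := fpLift (F := BasedFunctor.comp sa q) (G := BasedFunctor.comp sb q) (fpFst sa sb) (fpSnd sa sb) ee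
  have h2 : AlgSt.RepByAlgSpWith P C := by
    refine (repByAlgSpWith_iff_of_equiv P (BasedFunctor.id _) s (isEquivOver_id _) hs
      (f := C) (f' := fpFst sa sb) ?_).2 h1
    exact isoMk (fun w => fpIsoMk (Iso.refl _) (isoApp ee w) (overCat_vert_unique
        (((Vert.id _).map _).comp (vert_isoApp ee w))
        ((Vert.id _).comp ((vert_isoApp ee w).map _))))
      (fun w => Vert.id _)
      (fun {w w'} φ => fp_hom_ext ((Category.comp_id _).trans (Category.id_comp _).symm)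
        ((isoApp_naturality ee φ)))
  have hE := comp_cart sa sb q ee (fun _ => rfl)
  have h3 : AlgSt.RepByAlgSpWith P (fpFst (compPhi sa sb q) (diag q)) :=
    (repByAlgSpWith_iff_of_equiv P _ (BasedFunctor.id _) hE (isEquivOver_id _)
      (f := fpFst (compPhi sa sb q) (diag q)) (f' := C) (Iso.refl _)).2 h2
  obtain ⟨F, e, he, hP⟩ := h3 U s
  obtain ⟨E, hE', ⟨iE⟩, -⟩ := exists_fp_of_cart _ _ _ (diag_fpFst_cart y f) z'
  obtain ⟨E₂, hE₂, ⟨iE₂⟩, -⟩ := exists_fp_congr (F := BasedFunctor.comp z' (diagPhi y f)) (F' := z)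
    (G := diag f) (G' := diag f) i0 (Iso.refl _)
  obtain ⟨E₁, hE₁, ⟨iE₁⟩, -⟩ := exists_fp_congr (F := BasedFunctor.comp s (compPhi sa sb q)) (F' := z')
    (G := diag q) (G' := diag q) (Iso.refl z') (Iso.refl _)
  refine ⟨F, BasedFunctor.comp (BasedFunctor.comp e (BasedFunctor.comp (fpPaste (compPhi sa sb q) (diag q) s) E₁))
      (BasedFunctor.comp E E₂), isEquivOver_comp
        (isEquivOver_comp he (isEquivOver_comp (fpPaste_isEquivOver (compPhi sa sb q) (diag q) s) hE₁))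
        (isEquivOver_comp hE' hE₂), ?_⟩
  exact (spMapOfOver_congr (F := F.obj)
    (isoWhiskerLeft (BasedFunctor.comp e (BasedFunctor.comp (fpPaste (compPhi sa sb q) (diag q) s) E₁))
        (isoWhiskerLeft E iE₂ ≪≫ iE) ≪≫
      isoWhiskerLeft (BasedFunctor.comp e (fpPaste (compPhi sa sb q) (diag q) s)) iE₁)) ▸ hP

/-- The relative diagonal of a gerbe is flat, locally of finite presentation and surjective. -/
theorem diag_fppf (h𝒳 : AlgSt.IsAlgStack K 𝒳) (h𝒴 : AlgSt.IsAlgStack K 𝒴) {f : 𝒳 ⥤ᵇ 𝒴}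
    (hf : Gerb.IsGerbeOver (QuotSh.J K S) f) :
    AlgSt.RepByAlgSpWith (AlgSp.LocP @Flat) (diag f) ∧
      AlgSt.RepByAlgSpWith (AlgSp.LocP @LocallyOfFinitePresentation) (diag f) ∧
      AlgSt.RepByAlgSpWith AlgSp.IsSurjectiveMor (diag f) := by
  have key : ∀ (U : Over S) (y : overCat U ⥤ᵇ 𝒴) (s : overCat U ⥤ᵇ fp y f),
      Nonempty (BasedFunctor.comp s (fpFst y f) ≅ BasedFunctor.id (overCat U)) →
      AlgSt.RepByAlgSpWith (AlgSp.LocP @Flat) s ∧
        AlgSt.RepByAlgSpWith (AlgSp.LocP @LocallyOfFinitePresentation) s ∧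
        AlgSt.RepByAlgSpWith AlgSp.IsSurjectiveMor s := fun U y s ⟨i⟩ =>
    section_fppf_overCat (isAlgStack_fp h𝒴.isStack h𝒴.diag (isAlgStack_of_repByAlgSp (repByAlgSp_overCat U)) h𝒳 y f)
      (isGerbeOver_fpFst h𝒴.isStack.1 hf y) i
  exact ⟨diag_of_sections _ f fun U y s hs => (key U y s hs).1,
    diag_of_sections _ f fun U y s hs => (key U y s hs).2.1,
    diag_of_sections _ f fun U y s hs => (key U y s hs).2.2⟩

end Groth.Agent.StFib.Gerbe

end
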