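import Groth.Agent.StFib.Gerbe.Singleton
import Groth.Agent.StFib.BGMono
import Groth.Agent.StFib.RedSubstack
import Groth.Agent.S12768

/-!
# The image substack of a chart
-/

set_option autoImplicit false
set_option linter.unusedVariables false
set_option linter.style.haveILetI false
set_option backward.isDefEq.respectTransparency false
set_option backward.isDefEq.respectTransparency.types false

universe u

open CategoryTheory CategoryTheory.Limits AlgebraicGeometry Opposite FibCat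

noncomputable section

namespace Groth.Agent.StFib.Gerbe.Image

variable {S : Scheme.{u}} {𝒳 : AlgSt.Cat S} {T : Over S} (z : overCat T ⥤ᵇ 𝒳)

local notation "K" => Scheme.fppfPrecoverage

/-- The arrows along which an object lifts to the chart. -/
def liftSieve (ξ : 𝒳.obj) : Sieve (𝒳.p.obj ξ) where
  arrows := fun V f => ∃ (b : (overCat T).obj) (φ : z.obj b ⟶ ξ), 𝒳.p.IsHomLift f φ
  downward_closed := by
    rintro V V' f ⟨b, φ, hφ⟩ g
    have hb : (overCat T).p.obj b = V := (z.w_obj b).symm.trans (IsHomLift.domain_eq 𝒳.p f φ)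
    let b' : (overCat T).obj := Over.mk (g ≫ eqToHom hb.symm ≫ b.hom)
    let k : b' ⟶ b := Over.homMk (g ≫ eqToHom hb.symm) (Category.assoc _ _ _)
    refine ⟨b', z.map k ≫ φ, IsHomLift.of_fac' 𝒳.p (g ≫ f) _ (z.w_obj b')
      (IsHomLift.codomain_eq 𝒳.p f φ) ?_⟩
    rw [Functor.map_comp, IsHomLift.fac' 𝒳.p f φ, w_map]
    simp only [Category.assoc]
    change eqToHom _ ≫ (g ≫ eqToHom _) ≫ _ = eqToHom _ ≫ g ≫ f ≫ eqToHom _
    simp [BasedCategory.ofFunctor]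

/-- The objects which locally come from the chart. -/
def imgProp : 𝒳.obj → Prop := fun ξ => liftSieve z ξ ∈ AlgSp.J S (𝒳.p.obj ξ)

theorem imgProp_of_hom (h : IsFibGrpd 𝒳.p) ⦃y x : 𝒳.obj⦄ (φ : y ⟶ x) (hx : imgProp z x) : imgProp z y := by
  refine (AlgSp.J S).superset_covering ?_ ((AlgSp.J S).pullback_stable (𝒳.p.map φ) hx)
  rintro V f ⟨b, ν, hν⟩
  have hb : 𝒳.p.obj (z.obj b) = V := IsHomLift.domain_eq 𝒳.p (f ≫ 𝒳.p.map φ) ν
  obtain ⟨χ, hχ, -⟩ := grpd_exists_fac h φ ν (eqToHom hb ≫ f) (by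
    rw [IsHomLift.fac' 𝒳.p (f ≫ 𝒳.p.map φ) ν]
    simp)
  exact ⟨b, χ, IsHomLift.of_fac' 𝒳.p f χ hb rfl (by rw [hχ]; simp)⟩

theorem isClosedUnderIso_imgProp (h : IsFibGrpd 𝒳.p) : ObjectProperty.IsClosedUnderIsomorphisms (imgProp z) :=
  ⟨fun e hx => imgProp_of_hom z h e.inv hx⟩

theorem isStack_imgSub (h : Stk.IsStack (AlgSp.J S) 𝒳) :
    Stk.IsStack (AlgSp.J S) (AlgSt.fullSub 𝒳 (imgProp z)) := by
  refine Groth.Agent.S12795.result (AlgSp.J S) h (imgProp z) (fun y x φ hx => ⟨y, Iso.refl y,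
    imgProp_of_hom z h.1 φ hx, IsHomLift.of_fac 𝒳.p _ _ rfl rfl (by simp)⟩) fun U R hR x hx H => ?_
  subst hx
  refine ⟨x, Iso.refl x, ?_, IsHomLift.of_fac 𝒳.p _ _ rfl rfl (by simp)⟩
  refine (AlgSp.J S).transitive hR _ fun V f hf => ?_
  obtain ⟨y, φ, hφ⟩ := h.1.exists_lift (x := x) f
  obtain ⟨y', e, hy', he⟩ := H f hf y φ hφ
  have hb : 𝒳.p.obj y' = V := IsHomLift.codomain_eq 𝒳.p (𝟙 V) e.hom
  subst hb
  refine (AlgSp.J S).superset_covering ?_ hy'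
  rintro W g ⟨b, ν, hν⟩
  have : 𝒳.p.IsHomLift (𝟙 (𝒳.p.obj y')) e.inv := inferInstance
  have h2 : 𝒳.p.IsHomLift f (e.inv ≫ φ) := IsHomLift.comp_lift_id_left' 𝒳.p (𝒳.p.obj y') _ _ _
  exact ⟨b, ν ≫ e.inv ≫ φ, (inferInstance : 𝒳.p.IsHomLift (g ≫ f) (ν ≫ e.inv ≫ φ))⟩

theorem imgProp_obj (b : (overCat T).obj) : imgProp z (z.obj b) := by
  refine (AlgSp.J S).superset_covering ?_ ((AlgSp.J S).top_mem _)
  rintro V f -
  let b' : (overCat T).obj := Over.mk (f ≫ eqToHom (z.w_obj b) ≫ b.hom)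
  let k : b' ⟶ b := Over.homMk (f ≫ eqToHom (z.w_obj b)) (Category.assoc _ _ _)
  refine ⟨b', z.map k, IsHomLift.of_fac' 𝒳.p f _ (z.w_obj _) rfl ?_⟩
  rw [w_map]
  change eqToHom _ ≫ (f ≫ eqToHom _) ≫ eqToHom _ = _
  simp

/-- The chart, into its image. -/
def lift : overCat T ⥤ᵇ AlgSt.fullSub 𝒳 (imgProp z) := subLift z (imgProp_obj z)

theorem lift_incl : BasedFunctor.comp (lift z) (AlgSt.subIncl 𝒳 (imgProp z)) = z := rfl

instance : (AlgSt.subIncl 𝒳 (imgProp z)).toFunctor.Full := inferInstanceAs (ObjectProperty.ι _).Full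

instance : (AlgSt.subIncl 𝒳 (imgProp z)).toFunctor.Faithful := inferInstanceAs (ObjectProperty.ι _).Faithful

theorem exists_local_lift (h : Stk.IsStack (AlgSp.J S) 𝒳) (U : Over S)
    (y : overCat U ⥤ᵇ AlgSt.fullSub 𝒳 (imgProp z)) :
    ∃ R ∈ AlgSp.J S U, ∀ ⦃V : Over S⦄ (k : V ⟶ U), R.arrows k →
      ∃ t : overCat V ⥤ᵇ overCat T,
        Nonempty (BasedFunctor.comp t (lift z) ≅ BasedFunctor.comp (AlgSt.overMap k) y) := by
  let ξ := (y.obj (Over.mk (𝟙 U))).obj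
  have hξ : 𝒳.p.obj ξ = U := y.w_obj (Over.mk (𝟙 U))
  refine ⟨(liftSieve z ξ).pullback (eqToHom hξ.symm),
    (AlgSp.J S).pullback_stable _ (y.obj (Over.mk (𝟙 U))).property, ?_⟩
  rintro V k ⟨b, φ, hφ⟩
  have hb : (overCat T).p.obj b = V := (z.w_obj b).symm.trans (IsHomLift.domain_eq 𝒳.p (k ≫ eqToHom hξ.symm) φ)
  let g : V ⟶ T := eqToHom hb.symm ≫ b.hom
  let kb : (AlgSt.overMap g).obj (Over.mk (𝟙 V)) ⟶ b := Over.homMk (eqToHom hb.symm) (by
    change eqToHom hb.symm ≫ b.hom = 𝟙 V ≫ g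
    simp [g])
  let a : (overCat U).obj := (AlgSt.overMap k).obj (Over.mk (𝟙 V))
  let ψ₁ : z.obj ((AlgSt.overMap g).obj (Over.mk (𝟙 V))) ⟶ ξ := z.map kb ≫ φ
  let ψ₂ : (y.obj a).obj ⟶ ξ := (y.map (overToId a)).hom
  have e : (AlgSt.fullSub 𝒳 (imgProp z)).p.obj ((lift z).obj ((AlgSt.overMap g).obj (Over.mk (𝟙 V)))) =
      (AlgSt.fullSub 𝒳 (imgProp z)).p.obj (y.obj a) :=
    ((lift z).w_obj _).trans (y.w_obj a).symm
  obtain ⟨χ, hχ, -⟩ := grpd_exists_vert_fac (isStack_imgSub z h).1 (y.map (overToId a))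
    (ObjectProperty.homMk ψ₁ : (lift z).obj ((AlgSt.overMap g).obj (Over.mk (𝟙 V))) ⟶ y.obj (Over.mk (𝟙 U)))
    e (by
      change eqToHom e ≫ 𝒳.p.map ψ₂ = 𝒳.p.map ψ₁
      simp only [ψ₁, Functor.map_comp]
      rw [IsHomLift.fac' 𝒳.p (k ≫ eqToHom hξ.symm) φ, w_map]
      change eqToHom e ≫ (AlgSt.fullSub 𝒳 (imgProp z)).p.map (y.map (overToId a)) = _
      rw [w_map]
      simp [kb, a, overToId, AlgSt.overMap]
      refine Eq.trans (b := eqToHom ?_ ≫ k ≫ eqToHom hξ.symm) ?_ ?_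
      rotate_left
      · rfl
      · change _ = eqToHom _ ≫ eqToHom hb.symm ≫ eqToHom _ ≫ k ≫ eqToHom hξ.symm
        simp [BasedCategory.ofFunctor])
  obtain ⟨α, -⟩ := exists_overIso (isStack_imgSub z h).1 (BasedFunctor.comp (AlgSt.overMap g) (lift z))
    (BasedFunctor.comp (AlgSt.overMap k) y) χ hχ
  exact ⟨AlgSt.overMap g, ⟨α⟩⟩

variable (h𝒳 : AlgSt.IsAlgStack K 𝒳)

include h𝒳

theorem repByAlgSp1_lift : AlgSt.RepByAlgSp1 (lift z) := by
  intro U y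
  obtain ⟨A, e, he⟩ := repByAlgSp1_chart h𝒳 z U (BasedFunctor.comp y (AlgSt.subIncl 𝒳 (imgProp z)))
  let E := fpMap (F := BasedFunctor.comp y (AlgSt.subIncl 𝒳 (imgProp z))) (G := z) (F' := y) (G' := lift z)
    (BasedFunctor.id _) (BasedFunctor.id _) (AlgSt.subIncl 𝒳 (imgProp z)) (Iso.refl _) (Iso.refl _)
  have hE : IsEquivOver E := fpMap_isEquivOver _ _ _ _ _ (isEquivOver_id _) (isEquivOver_id _)
  exact (repByAlgSp_iff_of_equiv hE).2 ⟨A, e, he⟩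

theorem lift_mem {P : MorphismProperty (AlgSp.Sp S)} (hPb : StableBC P)
    (hP : AlgSp.IsLocalOnBase AlgSp.IsFppfCover P) (hz : AlgSt.RepByAlgSpWith P (fpFst z z)) :
    AlgSt.RepByAlgSpWith P (lift z) := by
  refine repByAlgSpWith_of_locally_lift hPb hP (repByAlgSp1_lift z h𝒳) (g := lift z)
    (exists_local_lift z h𝒳.isStack) ?_
  let E := fpMap (F := z) (G := z) (F' := lift z) (G' := lift z) (BasedFunctor.id _) (BasedFunctor.id _)
    (AlgSt.subIncl 𝒳 (imgProp z)) (Iso.refl _) (Iso.refl _)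
  have hE : IsEquivOver E := fpMap_isEquivOver _ _ _ _ _ (isEquivOver_id _) (isEquivOver_id _)
  exact (repByAlgSpWith_iff_of_equiv P E (BasedFunctor.id _) hE (isEquivOver_id _)
    (f := fpFst z z) (f' := fpFst (lift z) (lift z)) (Iso.refl _)).1 hz

theorem lift_fppf (h₁ : AlgSt.RepByAlgSpWith (AlgSp.LocP @Flat) (fpFst z z))
    (h₂ : AlgSt.RepByAlgSpWith (AlgSp.LocP @LocallyOfFinitePresentation) (fpFst z z)) :
    AlgSt.RepByAlgSpWith (AlgSp.LocP @Flat) (lift z) ∧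
      AlgSt.RepByAlgSpWith (AlgSp.LocP @LocallyOfFinitePresentation) (lift z) ∧
      AlgSt.RepByAlgSpWith AlgSp.IsSurjectiveMor (lift z) := by
  have hT := isAlgStack_of_repByAlgSp (repByAlgSp_overCat T)
  have hR := isAlgStack_fp h𝒳.isStack h𝒳.diag hT hT z z
  have hs : AlgSt.RepByAlgSpWith AlgSp.IsSurjectiveMor (fpFst z z) := by
    refine (isSurjective_iff_rep hR hT (repByAlgSp1_of_with h₁)).1 fun P => ⟨AlgSt.Points.map (diag z) P, ?_⟩
    exact (congrFun (points_map_comp (diag z) (fpFst z z)) P).symm.trans (congrFun points_map_id P)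
  exact ⟨lift_mem z h𝒳 (good_locP AlgSpCov.standard_flat).bc
      (fppfLocal_of_fpqc (AlgSpCov.isLocalOnBase_locP AlgSpCov.standard_flat.etaleLocal)) h₁,
    lift_mem z h𝒳 (good_locP AlgSpCov.standard_locallyOfFinitePresentation).bc
      (fppfLocal_of_fpqc (AlgSpCov.isLocalOnBase_locP
        AlgSpCov.standard_locallyOfFinitePresentation.etaleLocal)) h₂,
    lift_mem z h𝒳 good_surjective.bc SliceDM.fppfLocal_surjective hs⟩

theorem isMono_incl (h₁ : AlgSt.RepByAlgSpWith (AlgSp.LocP @Flat) (fpFst z z))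
    (h₂ : AlgSt.RepByAlgSpWith (AlgSp.LocP @LocallyOfFinitePresentation) (fpFst z z)) :
    AlgSt.IsMono (AlgSt.subIncl 𝒳 (imgProp z)) := by
  obtain ⟨l₁, l₂, l₃⟩ := lift_fppf z h𝒳 h₁ h₂
  have hQ : Stk.IsStack (AlgSp.J S) (AlgSt.fullSub 𝒳 (imgProp z)) := isStack_imgSub z h𝒳.isStack
  refine BGMono.isMono_of_repByAlgSp1 _ fun U y => ?_
  have hgs : IsFibSetoid (fp y (AlgSt.subIncl 𝒳 (imgProp z))).p :=
    isFibSetoid_fp y _ (isFibSetoid_overCat U) hQ.1 h𝒳.isStack.1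
  have hst : Stk.IsStack (AlgSp.J S) (fp y (AlgSt.subIncl 𝒳 (imgProp z))) :=
    isStack_fp _ y _ (isStack_overCat_fppf U) hQ (isPrestack_of_isStack h𝒳.isStack)
  obtain ⟨A, e, he⟩ := repByAlgSp1_chart h𝒳 z U y
  let R := fpMap (F := y) (G := AlgSt.subIncl 𝒳 (imgProp z)) (F' := y) (G' := z)
    (BasedFunctor.id _) (lift z) (BasedFunctor.id _) (Iso.refl _) (Iso.refl _)
  have hg := good_surjective (S := S)
  have hgf := good_locP (S := S) Groth.Agent.AlgSpCov.standard_flat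
  have hgl := good_locP (S := S) Groth.Agent.AlgSpCov.standard_locallyOfFinitePresentation
  have hq0 := repByAlgSpWith_inf (isFibGrpd_overCat _) hQ.1 (hg.inf hgf) hgl
    (repByAlgSpWith_inf (isFibGrpd_overCat _) hQ.1 hg hgf l₃ l₁) l₂
  exact BGMono.repByAlgSp_of_fppf_cover hgs hst ⟨A, e, he⟩ R
    (repByAlgSpWith_fpMap_right _ hq0 y (AlgSt.subIncl 𝒳 (imgProp z)))

theorem isAlgStack_img (h₁ : AlgSt.RepByAlgSpWith (AlgSp.LocP @Flat) (fpFst z z))
    (h₂ : AlgSt.RepByAlgSpWith (AlgSp.LocP @LocallyOfFinitePresentation) (fpFst z z)) :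
    AlgSt.IsAlgStack K (AlgSt.fullSub 𝒳 (imgProp z)) :=
  Groth.Agent.S12768.result (isStack_imgSub z h𝒳.isStack).1 h𝒳 _ (repByAlgSp1_of_with (isMono_incl z h𝒳 h₁ h₂))

end Groth.Agent.StFib.Gerbe.Image

end
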