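import Groth.Prelude.Def_StGerb
import Groth.Agent.StFib.LocQMore
import Groth.Agent.AlgSp.Basic
import Mathlib.CategoryTheory.Sites.LocallyFullyFaithful

/-!
# A stack is a gerbe over its sheaf of isomorphism classes
-/

set_option autoImplicit false
set_option linter.unusedVariables false
set_option backward.isDefEq.respectTransparency false
set_option backward.isDefEq.respectTransparency.types false

universe u

open CategoryTheory CategoryTheory.Limits AlgebraicGeometry Opposite FibCat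

noncomputable section

namespace Groth.Agent.StFib.Gerbe

variable {S : Scheme.{u}} {𝒳 : AlgSt.Cat S} (h : IsFibGrpd 𝒳.p)

/-- The sheaf of isomorphism classes. -/
def isoClSheaf : AlgSp.Sp S :=
  (presheafToSheaf (AlgSp.J S) (Type (u + 1))).obj (classPsh 𝒳 h)

/-- The comparison of the presheaf of isomorphism classes with its sheaf. -/
def isoClUnit : classPsh 𝒳 h ⟶ (isoClSheaf h).obj := toSheafify (AlgSp.J S) (classPsh 𝒳 h)

/-- The projection to the sheaf of isomorphism classes. -/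
def isoClMap : 𝒳 ⥤ᵇ AlgSt.ofSp (isoClSheaf h) :=
  BasedFunctor.comp (toClassPsh h) (Stk.ofPshMap (isoClUnit h))

instance : Presheaf.IsLocallySurjective (AlgSp.J S) (isoClUnit h) :=
  inferInstanceAs (Presheaf.IsLocallySurjective (AlgSp.J S) (toSheafify (AlgSp.J S) (classPsh 𝒳 h)))

instance : Presheaf.IsLocallyInjective (AlgSp.J S) (isoClUnit h) :=
  inferInstanceAs (Presheaf.IsLocallyInjective (AlgSp.J S) (toSheafify (AlgSp.J S) (classPsh 𝒳 h)))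

theorem isoClMap_obj (x : 𝒳.obj) : ((isoClMap h).obj x).sec =
    (isoClUnit h).app (op (𝒳.p.obj x)) (Quot.mk _ ⟨x, rfl⟩) := rfl

theorem locSurjObj_isoClMap : Gerb.LocSurjObj (AlgSp.J S) (isoClMap h) := by
  intro y
  refine ⟨Presheaf.imageSieve (isoClUnit h) y.sec, Presheaf.imageSieve_mem _ _ _, fun V f hf => ?_⟩
  obtain ⟨c, hc⟩ := hf
  obtain ⟨⟨x, hx⟩, rfl⟩ := Quot.exists_rep c
  obtain rfl : 𝒳.p.obj x = V := hx
  refine ⟨x, (⟨f, hc.symm⟩ : (isoClMap h).obj x ⟶ y), ?_⟩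
  exact IsHomLift.map (AlgSt.ofSp (isoClSheaf h)).p (⟨f, hc.symm⟩ : (isoClMap h).obj x ⟶ y)

theorem locSurjHom_isoClMap : Gerb.LocSurjHom (AlgSp.J S) (isoClMap h) := by
  intro x x' b hb
  have hx : 𝒳.p.obj x' = 𝒳.p.obj x := IsHomLift.codomain_eq (AlgSt.ofSp (isoClSheaf h)).p (𝟙 (𝒳.p.obj x)) b
  let a : (classPsh 𝒳 h).obj (op (𝒳.p.obj x)) := Quot.mk _ ⟨x, rfl⟩
  let a' : (classPsh 𝒳 h).obj (op (𝒳.p.obj x)) := Quot.mk _ ⟨x', hx⟩
  have hab : (isoClUnit h).app (op (𝒳.p.obj x)) a = (isoClUnit h).app (op (𝒳.p.obj x)) a' := by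
    have hbh : b.hom = eqToHom hx.symm := by
      have := IsHomLift.fac' (AlgSt.ofSp (isoClSheaf h)).p (𝟙 (𝒳.p.obj x)) b
      refine this.trans ?_
      simp
    have hs := b.map_sec
    rw [hbh] at hs
    refine hs.symm.trans ?_
    rw [isoClMap_obj]
    refine (congrArg (fun k => k (Quot.mk (fibreRel 𝒳 (𝒳.p.obj x')) ⟨x', rfl⟩))
      ((isoClUnit h).naturality (eqToHom hx.symm).op).symm).trans ?_
    exact congrArg ((isoClUnit h).app (op (𝒳.p.obj x))) (mk_pullObj_eq h _ _ ⟨x', hx⟩ (𝟙 x') (by simp))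
  refine ⟨Presheaf.equalizerSieve (F := classPsh 𝒳 h) (X := op (𝒳.p.obj x)) a a',
    (Presheaf.equalizerSieve_mem (AlgSp.J S) (isoClUnit h) a a' hab :), fun V f hf => ?_⟩
  have heq : (classPsh 𝒳 h).map f.op a = (classPsh 𝒳 h).map f.op a' := hf
  obtain ⟨φ, hφ⟩ := pullObj_spec h f (⟨x, rfl⟩ : {z : 𝒳.obj // 𝒳.p.obj z = 𝒳.p.obj x})
  obtain ⟨φ', hφ'⟩ := pullObj_spec h f (⟨x', hx⟩ : {z : 𝒳.obj // 𝒳.p.obj z = 𝒳.p.obj x})
  obtain ⟨i, hi⟩ := quot_eq_iff.1 (heq :)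
  let x₀ := pullObj h f (⟨x, rfl⟩ : {z : 𝒳.obj // 𝒳.p.obj z = 𝒳.p.obj x})
  refine ⟨x₀.1, φ, i.hom ≫ φ', IsHomLift.of_fac' 𝒳.p f φ x₀.2 rfl (by simpa using hφ),
    IsHomLift.of_fac' 𝒳.p f (i.hom ≫ φ') x₀.2 hx (by simp [hφ', hi.2]), Stk.EltObj.hom_ext ?_⟩
  have hbh : b.hom = eqToHom hx.symm := by
    have := IsHomLift.fac' (AlgSt.ofSp (isoClSheaf h)).p (𝟙 (𝒳.p.obj x)) b
    refine this.trans ?_
    simp
  change 𝒳.p.map φ ≫ b.hom = 𝒳.p.map (i.hom ≫ φ')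
  rw [Functor.map_comp, hφ, hφ', hi.2, hbh]
  simp

theorem isGerbeOver_isoClMap : Gerb.IsGerbeOver (AlgSp.J S) (isoClMap h) :=
  ⟨locSurjObj_isoClMap h, locSurjHom_isoClMap h⟩

end Groth.Agent.StFib.Gerbe

end
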