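import Groth.Agent.StFib.Gerbe.IsoClasses
import Groth.Agent.StFib.Gerbe.Smooth
import Groth.Agent.StFib.InertiaDiag
import Groth.Agent.AlgSpB.Art.Wrap
import Groth.Agent.S10557
import Groth.Agent.S10530

/-!
# The sheaf of isomorphism classes of a stack with flat inertia is an algebraic space
-/

set_option autoImplicit false
set_option linter.unusedVariables false
set_option linter.style.haveILetI false
set_option backward.isDefEq.respectTransparency false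
set_option backward.isDefEq.respectTransparency.types false

universe u

open CategoryTheory CategoryTheory.Limits AlgebraicGeometry Opposite FibCat

noncomputable section

namespace Groth.Agent.StFib.Gerbe

variable {S : Scheme.{u}} {𝒳 𝒴 𝒵 𝒲 : AlgSt.Cat S}

local notation "K" => Scheme.fppfPrecoverage

theorem ptOf_comp {W : Over S} {A B : AlgSp.Sp S} (φ : overCat W ⥤ᵇ AlgSt.ofSp A) (m : A ⟶ B) :
    ptOf (BasedFunctor.comp φ (AlgSt.ofSpMap m)) = ptOf φ ≫ m := by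
  refine QuotTriv.ofSpMap_inj ?_
  rw [ptOf, ← spMapOfFunctor_spec]
  exact congrArg (fun k => BasedFunctor.comp k (AlgSt.ofSpMap m))
    (spMapOfFunctor_spec (BasedFunctor.comp (AlgSt.toOverCat W) φ))

/-- Local surjectivity from lifts after two successive coverings. -/
theorem isLocallySurjective_of_covers {F G : AlgSp.Sp S} (f : F ⟶ G)
    (H : ∀ (U : Over S) (g : (AlgSp.yon S).obj U ⟶ G), ∃ R ∈ Scheme.fppfPrecoverage U.left,
      ∀ ⦃V : Scheme.{u}⦄ (c : V ⟶ U.left), R c →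
        ∃ (V' : Over S) (c' : V' ⟶ Over.mk (c ≫ U.hom)) (a : (AlgSp.yon S).obj V' ⟶ F),
          Flat c'.left ∧ LocallyOfFinitePresentation c'.left ∧ Surjective c'.left ∧
          a ≫ f = (AlgSp.yon S).map (c' ≫ (Over.homMk c rfl : Over.mk (c ≫ U.hom) ⟶ U)) ≫ g) :
    Sheaf.IsLocallySurjective f := by
  constructor
  intro U s
  obtain ⟨R, hR, hl⟩ := H U (AlgSp.yEquiv.symm s)
  let T := Presheaf.imageSieve f.hom s
  let S₀ : Sieve U :=
    { arrows := fun W h => T.pullback h ∈ AlgSp.J S W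
      downward_closed := fun {Y Z h} hh k => by
        change T.pullback (k ≫ h) ∈ AlgSp.J S Z
        rw [Sieve.pullback_comp]
        exact (AlgSp.J S).pullback_stable k hh }
  refine (AlgSp.J S).transitive (AlgSp.mem_of_cover (T := S₀) hR fun V c hc => ?_) T fun {W h} hh => hh
  obtain ⟨V', c', a, hfl, hfp, hsu, he⟩ := hl c hc
  haveI := hfl
  haveI := hfp
  haveI := hsu
  refine AlgSp.mem_of_fppf c' ⟨AlgSp.yEquiv a, ?_⟩
  have := congrArg AlgSp.yEquiv he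
  rw [AlgSp.yEquiv_comp, AlgSp.yEquiv_map, Equiv.apply_symm_apply] at this
  exact this

/-- The inertia over a space is the inertia over the base. -/
theorem exists_inertia_self_equiv {A : AlgSp.Sp S} (π : 𝒳 ⥤ᵇ AlgSt.ofSp A) :
    ∃ E : inertia π ⥤ᵇ inertia (toSelf 𝒳), IsEquivOver E ∧
      BasedFunctor.comp E (inertiaToBase (toSelf 𝒳)) = inertiaToBase π := by
  let E : inertia π ⥤ᵇ inertia (toSelf 𝒳) :=
    { toFunctor :=
        { obj := fun x => ⟨x.pt, x.aut, by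
            change 𝒳.p.map x.aut.hom = 𝟙 _
            rw [(inertia_vert_aut x).2]
            exact eqToHom_refl _ _⟩
          map := fun φ => ⟨φ.hom, φ.comm⟩
          map_id := fun x => InertiaObj.hom_ext rfl
          map_comp := fun φ ψ => InertiaObj.hom_ext rfl }
      w := rfl }
  have : E.toFunctor.Faithful := ⟨fun h => InertiaObj.hom_ext (congrArg (fun k => k.hom) h :)⟩
  have : E.toFunctor.Full := ⟨fun k => ⟨⟨k.hom, k.comm⟩, InertiaObj.hom_ext rfl⟩⟩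
  refine ⟨E, isEquivOver_mk E fun z => ⟨⟨z.pt, z.aut, Stk.EltObj.hom_ext ?_⟩, Iso.refl _, Vert.id _⟩, rfl⟩
  refine (w_map π z.aut.hom).trans ?_
  rw [show 𝒳.p.map z.aut.hom = 𝟙 _ from z.map_aut]
  exact (congrArg (eqToHom _ ≫ ·) (Category.id_comp _)).trans ((eqToHom_trans _ _).trans (eqToHom_refl _ _))

/-- Self fibre products of equivalent maps. -/
theorem fpFst_self_congr (P : MorphismProperty (AlgSp.Sp S)) {q : 𝒳 ⥤ᵇ 𝒴} {q' : 𝒵 ⥤ᵇ 𝒲}
    (a : 𝒵 ⥤ᵇ 𝒳) (ha : IsEquivOver a) (b : 𝒲 ⥤ᵇ 𝒴) (hb : IsEquivOver b)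
    (i : BasedFunctor.comp a q ≅ BasedFunctor.comp q' b) (h : AlgSt.RepByAlgSpWith P (fpFst q q)) :
    AlgSt.RepByAlgSpWith P (fpFst q' q') := by
  have := full_of_isEquivOver hb
  have := faithful_of_isEquivOver hb
  let M := fpMap (F := q) (G := q) (F' := q') (G' := q') a a b i i
  have hM : IsEquivOver M := fpMap_isEquivOver _ _ _ _ _ ha ha
  exact (repByAlgSpWith_iff_of_equiv P M a hM ha (f := fpFst q q) (f' := fpFst q' q') (Iso.refl _)).1 h

variable (h𝒳 : AlgSt.IsAlgStack K 𝒳)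

/-- The diagonal over the sheaf of classes has flat self base change. -/
theorem diag_self_mem (π : 𝒳 ⥤ᵇ AlgSt.ofSp (isoClSheaf h𝒳.isStack.1))
    (hI₁ : AlgSt.LocQ (AlgSp.LocP @Flat) (inertiaToBase (toSelf 𝒳)))
    (hI₂ : AlgSt.LocQ (AlgSp.LocP @LocallyOfFinitePresentation) (inertiaToBase (toSelf 𝒳))) :
    AlgSt.RepByAlgSpWith (AlgSp.LocP @Flat) (fpFst (diag π) (diag π)) ∧
      AlgSt.RepByAlgSpWith (AlgSp.LocP @LocallyOfFinitePresentation) (fpFst (diag π) (diag π)) := by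
  have hIalg := isAlgStack_inertia h𝒳 isAlgStack_selfOver (toSelf 𝒳)
  have hrep : AlgSt.RepByAlgSp1 (inertiaToBase (toSelf 𝒳)) :=
    repByAlgSp1_iff_with_top.2 (inertiaToBase_mem _ (repByAlgSp1_iff_with_top.1 h𝒳.diag))
  have r₁ := repByAlgSpWith_of_locQ (isSmoothLocalST_locP smoothLocalProp_flat)
    (good_locP Groth.Agent.AlgSpCov.standard_flat).bc
    (fppfLocal_of_fpqc (Groth.Agent.S10530.result S)) hIalg h𝒳 hrep hI₁
  have r₂ := repByAlgSpWith_of_locQ (isSmoothLocalST_locP smoothLocalProp_lfp)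
    (good_locP Groth.Agent.AlgSpCov.standard_locallyOfFinitePresentation).bc
    (fppfLocal_of_fpqc (Groth.Agent.AlgSpCov.isLocalOnBase_locP
      Groth.Agent.AlgSpCov.etaleLocal_locallyOfFinitePresentation)) hIalg h𝒳 hrep hI₂
  obtain ⟨E, hE, hEc⟩ := exists_inertia_self_equiv π
  obtain ⟨E', hE', hEc', -⟩ := exists_inertia_equiv π
  have key : ∀ Q : MorphismProperty (AlgSp.Sp S), AlgSt.RepByAlgSpWith Q (inertiaToBase (toSelf 𝒳)) →
      AlgSt.RepByAlgSpWith Q (fpFst (diag π) (diag π)) := fun Q hQ =>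
    (repByAlgSpWith_iff_of_equiv Q E' (BasedFunctor.id _) hE' (isEquivOver_id _)
      (f := fpFst (diag π) (diag π)) (f' := inertiaToBase π) (eqToIso hEc'.symm)).2
      ((repByAlgSpWith_iff_of_equiv Q E (BasedFunctor.id _) hE (isEquivOver_id _)
        (f := inertiaToBase (toSelf 𝒳)) (f' := inertiaToBase π) (eqToIso hEc.symm)).1 hQ)
  exact ⟨key _ r₁, key _ r₂⟩

set_option maxHeartbeats 2000000 in
theorem isAlgSpace_isoClSheaf
    (hI₁ : AlgSt.LocQ (AlgSp.LocP @Flat) (inertiaToBase (toSelf 𝒳)))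
    (hI₂ : AlgSt.LocQ (AlgSp.LocP @LocallyOfFinitePresentation) (inertiaToBase (toSelf 𝒳))) :
    AlgSp.IsAlgSpace (isoClSheaf h𝒳.isStack.1) := by
  let π := isoClMap h𝒳.isStack.1
  obtain ⟨hQ₁, hQ₂⟩ := diag_self_mem h𝒳 π hI₁ hI₂
  have hπ : Gerb.IsGerbeOver (AlgSp.J S) π := isGerbeOver_isoClMap h𝒳.isStack.1
  obtain ⟨W, w, hw, hws⟩ := h𝒳.atlas
  let wπ := BasedFunctor.comp w π
  let p := ptOf wπ
  let R := pullback p p
  have sqR := IsPullback.map (sheafToPresheaf (AlgSp.J S) (Type (u + 1))) (IsPullback.of_hasPullback p p)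
  let N : AlgSt.ofSp R ⥤ᵇ fp (AlgSt.ofSpMap p) (AlgSt.ofSpMap p) :=
    fpLift (Stk.ofPshMap (pullback.fst p p).hom) (Stk.ofPshMap (pullback.snd p p).hom) (pshSqIso sqR.w)
  let M : fp (AlgSt.ofSpMap p) (AlgSt.ofSpMap p) ⥤ᵇ fp wπ wπ :=
    fpMap (F := wπ) (G := wπ) (F' := AlgSt.ofSpMap p) (G' := AlgSt.ofSpMap p) (AlgSt.toOverCat W)
      (AlgSt.toOverCat W) (BasedFunctor.id _)
      (eqToIso (spMapOfFunctor_spec (BasedFunctor.comp (AlgSt.toOverCat W) wπ)))
      (eqToIso (spMapOfFunctor_spec (BasedFunctor.comp (AlgSt.toOverCat W) wπ)))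
  have : (BasedFunctor.id (AlgSt.ofSp (isoClSheaf h𝒳.isStack.1))).toFunctor.Full := inferInstanceAs (𝟭 _).Full
  have : (BasedFunctor.id (AlgSt.ofSp (isoClSheaf h𝒳.isStack.1))).toFunctor.Faithful :=
    inferInstanceAs (𝟭 _).Faithful
  let EN := BasedFunctor.comp N M
  have hEN : IsEquivOver EN := isEquivOver_comp (pshSq_cart sqR)
    (fpMap_isEquivOver _ _ _ _ _ (toOverCat_isEquivOver W) (toOverCat_isEquivOver W))
  obtain ⟨d, hd, ⟨jd'⟩, ⟨jd⟩⟩ := isEquivOver_symm hEN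
  -- the space of isomorphisms of the atlas
  obtain ⟨A, eA, heA⟩ := repByAlgSp1_chart h𝒳 w W w
  obtain ⟨dA, hdA, -, ⟨jA⟩⟩ := isEquivOver_symm heA
  let ε := isoWhiskerRight (fpIso w w) π
  let C : fp w w ⥤ᵇ fp wπ wπ := fpLift (F := wπ) (G := wπ) (fpFst w w) (fpSnd w w) ε
  let ρ := spMapOfFunctor (BasedFunctor.comp (BasedFunctor.comp eA C) d)
  have hρ : BasedFunctor.comp (BasedFunctor.comp eA C) d = AlgSt.ofSpMap ρ := spMapOfFunctor_spec _
  let iρ : BasedFunctor.comp (AlgSt.ofSpMap ρ) EN ≅ BasedFunctor.comp eA C :=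
    eqToIso (congrArg (fun k => BasedFunctor.comp k EN) hρ.symm) ≪≫
      isoWhiskerLeft (BasedFunctor.comp eA C) jd
  have hEc := comp_cart w w π ε (fun _ => rfl)
  let a : AlgSt.ofSp A.obj ⥤ᵇ fp (compPhi w w π) (diag π) := BasedFunctor.comp eA
    (fpLift C (BasedFunctor.comp (fpFst w w) w) (compIso w w π ε (fun _ => rfl)))
  have self : ∀ Q : MorphismProperty (AlgSp.Sp S), AlgSt.RepByAlgSpWith Q (fpFst (diag π) (diag π)) →
      AlgSt.RepByAlgSpWith Q (fpFst (AlgSt.ofSpMap ρ) (AlgSt.ofSpMap ρ)) := fun Q hQ =>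
    fpFst_self_congr Q (q := fpFst (compPhi w w π) (diag π)) (q' := AlgSt.ofSpMap ρ) a
      (isEquivOver_comp heA hEc) EN hEN iρ.symm (self_fp_baseChange Q (compPhi w w π) hQ)
  have sqA := IsPullback.map (sheafToPresheaf (AlgSp.J S) (Type (u + 1))) (IsPullback.of_hasPullback ρ ρ)
  let NA : AlgSt.ofSp (pullback ρ ρ) ⥤ᵇ fp (AlgSt.ofSpMap ρ) (AlgSt.ofSpMap ρ) :=
    fpLift (Stk.ofPshMap (pullback.fst ρ ρ).hom) (Stk.ofPshMap (pullback.snd ρ ρ).hom) (pshSqIso sqA.w)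
  have hfst : ∀ Q : MorphismProperty (AlgSp.Sp S), AlgSt.RepByAlgSpWith Q (fpFst (diag π) (diag π)) →
      AlgSt.RepByAlgSpWith Q (AlgSt.ofSpMap (pullback.fst ρ ρ)) := fun Q hQ =>
    (repByAlgSpWith_iff_of_equiv Q NA (BasedFunctor.id _) (pshSq_cart sqA) (isEquivOver_id _)
      (f := fpFst (AlgSt.ofSpMap ρ) (AlgSt.ofSpMap ρ)) (f' := AlgSt.ofSpMap (pullback.fst ρ ρ))
      (Iso.refl _)).1 (self Q hQ)
  have hPA : AlgSp.IsAlgSpace (pullback ρ ρ) :=
    isAlgSpace_of_repBySp (pullback.fst ρ ρ) ((repBySp_iff _).2 (repByAlgSp1_of_with (hfst _ hQ₁))) A.property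
  have hf₁ := mem_of_repByAlgSpWith_ofSpMap (good_locP Groth.Agent.AlgSpCov.standard_flat).bc
    (good_locP Groth.Agent.AlgSpCov.standard_flat).det hPA A.property _ (hfst _ hQ₁)
  have hf₂ := mem_of_repByAlgSpWith_ofSpMap
    (good_locP Groth.Agent.AlgSpCov.standard_locallyOfFinitePresentation).bc
    (good_locP Groth.Agent.AlgSpCov.standard_locallyOfFinitePresentation).det hPA A.property _ (hfst _ hQ₂)
  haveI hρs : Sheaf.IsLocallySurjective ρ := by
    refine isLocallySurjective_of_covers ρ fun U g => ?_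
    let z : overCat U ⥤ᵇ fp wπ wπ :=
      BasedFunctor.comp (BasedFunctor.comp (AlgSt.ofOverCat U) (AlgSt.ofSpMap g)) EN
    let Φ₁ := BasedFunctor.comp (BasedFunctor.comp z (fpFst wπ wπ)) w
    let Φ₂ := BasedFunctor.comp (BasedFunctor.comp z (fpSnd wπ wπ)) w
    obtain ⟨R, hR, hiso⟩ := exists_isom_cover h𝒳.isStack.1 hπ.2 Φ₁ Φ₂ (isoWhiskerLeft z (fpIso wπ wπ))
    refine ⟨R, hR, fun V c hc => ?_⟩
    let t : Over.mk (c ≫ U.hom) ⟶ U := Over.homMk c rfl
    obtain ⟨k⟩ := hiso c hc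
    let l : overCat (Over.mk (c ≫ U.hom)) ⥤ᵇ fp w w :=
      fpLift (BasedFunctor.comp (AlgSt.overMap t) (BasedFunctor.comp z (fpFst wπ wπ)))
        (BasedFunctor.comp (AlgSt.overMap t) (BasedFunctor.comp z (fpSnd wπ wπ))) k
    let u : BasedFunctor.comp l C ≅ BasedFunctor.comp (AlgSt.overMap t) z :=
      isoMk (fun v => fpIsoMk (Iso.refl _) (Iso.refl _) (vert_unique_of_isFibSetoid (isFibSetoid_ofPsh _)
        (((Vert.id _).map _).comp (vert_fp_iso _)) ((vert_fp_iso _).comp ((Vert.id _).map _))))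
        (fun v => Vert.id _)
        (fun φ => fp_hom_ext ((Category.comp_id _).trans (Category.id_comp _).symm)
          ((Category.comp_id _).trans (Category.id_comp _).symm))
    refine ⟨Over.mk (c ≫ U.hom), 𝟙 _, ptOf (BasedFunctor.comp l dA), inferInstanceAs (Flat (𝟙 V)),
      inferInstanceAs (LocallyOfFinitePresentation (𝟙 V)), inferInstanceAs (Surjective (𝟙 V)), ?_⟩
    rw [← ptOf_comp, Category.id_comp]
    refine Eq.trans ?_ ((ptOf_overMap t (BasedFunctor.comp (AlgSt.ofOverCat U) (AlgSt.ofSpMap g))).trans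
      (congrArg ((AlgSp.yon S).map t ≫ ·) (ptOf_ofSpMap g)))
    refine ptOf_congr ?_
    exact eqToIso (congrArg (BasedFunctor.comp (BasedFunctor.comp l dA)) hρ.symm) ≪≫
      isoWhiskerRight (isoWhiskerLeft l jA) (BasedFunctor.comp C d) ≪≫ isoWhiskerRight u d ≪≫
      isoWhiskerLeft (BasedFunctor.comp (AlgSt.overMap t)
        (BasedFunctor.comp (AlgSt.ofOverCat U) (AlgSt.ofSpMap g))) jd'
  have hR : AlgSp.IsAlgSpace R :=
    AlgSpB.Art.isAlgSpace_of_kernelPair_flat A.property hPA ρ (IsPullback.of_hasPullback ρ ρ).flip hf₁ hf₂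
  -- the second projection
  let iρs : BasedFunctor.comp eA (fpSnd w w) ≅
      BasedFunctor.comp (AlgSt.ofSpMap (ρ ≫ pullback.snd p p)) (AlgSt.toOverCat W) :=
    isoWhiskerRight iρ.symm (fpSnd wπ wπ)
  have hsm := mem_of_repByAlgSpWith_ofSpMap good_smooth.bc good_smooth.det A.property (isAlgSpace_yon W) _
    ((repByAlgSpWith_iff_of_equiv (AlgSp.LocP @Smooth) eA (AlgSt.toOverCat W) heA (toOverCat_isEquivOver W)
      (f := fpSnd w w) (f' := AlgSt.ofSpMap (ρ ≫ pullback.snd p p)) iρs.symm).1 (repByAlgSpWith_fpSnd _ w hw))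
  let Rs : AlgSp.Space S := ⟨R, hR⟩
  let Ws : AlgSp.Space S := ⟨_, isAlgSpace_yon W⟩
  obtain ⟨c₁, -, c₂⟩ := Groth.Agent.S10557.result (X := A) (Y := Rs) (Z := Ws) (ObjectProperty.homMk ρ)
    (ObjectProperty.homMk (pullback.snd p p)) hρs
  have hs₁ : AlgSp.LocP @Flat (pullback.snd p p) :=
    c₁ fun U V a b k ha hb e => have : Smooth k.left := hsm a b k ha hb e; inferInstance
  have hs₂ : AlgSp.LocP @LocallyOfFinitePresentation (pullback.snd p p) :=
    c₂ fun U V a b k ha hb e => have : Smooth k.left := hsm a b k ha hb e; inferInstance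
  haveI hps : Sheaf.IsLocallySurjective p := by
    refine isLocallySurjective_of_covers p fun U g => ?_
    let y := BasedFunctor.comp (AlgSt.ofOverCat U) (AlgSt.ofSpMap g)
    obtain ⟨T₀, hT₀, hloc⟩ := GalCohAux.GerbBasic.locObj hπ.1 (y.obj (Over.mk (𝟙 U))) (U := U) (y.w_obj _)
    obtain ⟨R₀, hR₀, hRT⟩ := AlgSp.exists_cover_of_mem hT₀
    refine ⟨R₀, hR₀, fun V c hc => ?_⟩
    let t : Over.mk (c ≫ U.hom) ⟶ U := Over.homMk c rfl
    obtain ⟨x₀, m, hm⟩ := hloc t (hRT c hc)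
    have hx₀ : 𝒳.p.obj x₀ = Over.mk (c ≫ U.hom) :=
      (π.w_obj x₀).symm.trans (IsHomLift.domain_eq (AlgSt.ofSp _).p t m)
    obtain ⟨l₀, i₀, hi₀⟩ := exists_overFunctor h𝒳.isStack.1 x₀ hx₀
    let ax : (overCat U).obj := (AlgSt.overMap t).obj (Over.mk (𝟙 _))
    have e : (AlgSt.ofSp _).p.obj (y.obj ax) = (AlgSt.ofSp _).p.obj (π.obj x₀) :=
      (y.w_obj ax).trans (IsHomLift.domain_eq (AlgSt.ofSp _).p t m).symm
    obtain ⟨χ, hχ, -⟩ := grpd_exists_vert_fac (Stk.isFibGrpd_ofPsh _) m (y.map (overToId ax)) e (by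
      rw [IsHomLift.fac' (AlgSt.ofSp _).p t m, w_map]
      simp [ax, overToId, AlgSt.overMap]
      rfl)
    obtain ⟨α, -⟩ := exists_overIso (Stk.isFibGrpd_ofPsh _) (BasedFunctor.comp (AlgSt.overMap t) y)
      (BasedFunctor.comp l₀ π) (χ ≪≫ (π.toFunctor.mapIso i₀).symm)
      (hχ.comp (Vert.inv (φ := π.toFunctor.mapIso i₀) (hi₀.map π)))
    obtain ⟨V', a, c', ⟨k⟩, -, hc₁, hc₂, hc₃⟩ := exists_chart_fp h𝒳 w l₀
    refine ⟨V', c', (AlgSp.yon S).map a, hc₁ (repByAlgSpWith_flat_of_smooth hw),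
      hc₂ (repByAlgSpWith_lfp_of_smooth hw), hc₃ hws, ?_⟩
    rw [← ptOf_overMap]
    refine Eq.trans (ptOf_congr (isoWhiskerRight k π ≪≫ isoWhiskerLeft (AlgSt.overMap c') α.symm ≪≫
      isoWhiskerRight (overMapCompIso c' t).symm y)) ((ptOf_overMap (c' ≫ t) y).trans ?_)
    exact congrArg ((AlgSp.yon S).map (c' ≫ t) ≫ ·) (ptOf_ofSpMap g)
  exact AlgSpB.Art.isAlgSpace_of_kernelPair_flat (isAlgSpace_yon W) hR p
    (IsPullback.of_hasPullback p p) hs₁ hs₂

end Groth.Agent.StFib.Gerbe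

end
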