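import Groth.Agent.S4585
import Groth.Agent.StFib.LqfSlice.Scheme

/-!
# Subsets of a quasi-finite family over a single point
-/

set_option autoImplicit false
set_option linter.unusedVariables false
set_option linter.style.haveILetI false

universe u

open CategoryTheory CategoryTheory.Limits AlgebraicGeometry TopologicalSpace Polynomial

noncomputable section

namespace Groth.Agent.StFib.Gerbe

/-- A field inside a finitely generated domain over a field is algebraic over it. -/
theorem isIntegral_of_field_in_fg_domain {k D L : Type u} [Field k] [CommRing D] [IsDomain D] [Algebra k D]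
    [Algebra.FiniteType k D] [Field L] (φ : L →+* D) (l : L) : IsIntegral k (φ l) := by
  classical
  by_contra hl
  have hinj : Function.Injective (Polynomial.aeval (R := k) (φ l)) := by
    rw [injective_iff_map_eq_zero]
    intro p hp
    by_contra hp0
    exact hl (isAlgebraic_iff_isIntegral.1 ⟨p, hp0, hp⟩)
  let : Algebra k[X] D := (Polynomial.aeval (R := k) (φ l)).toRingHom.toAlgebra
  have : IsScalarTower k k[X] D := .of_algebraMap_eq fun r => (Polynomial.aeval_C (φ l) r).symm
  have : Algebra.FiniteType k[X] D := Algebra.FiniteType.of_restrictScalars_finiteType k k[X] D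
  obtain ⟨a, ha, hsub⟩ := S4585.exists_basicOpen_subset_range_comap (A := k[X]) (B := D) ⟨⊥, Ideal.isPrime_bot⟩
    (fun q => bot_le) ⟨⟨⊥, Ideal.isPrime_bot⟩, PrimeSpectrum.ext (Ideal.ext fun p => by
      simp [Ideal.mem_comap]
      exact ⟨fun h => hinj (h.trans (map_zero _).symm), fun h => by simp [h]⟩)⟩
  -- integral polynomials are units
  let ι : ℤ →+* k := Int.castRingHom k
  have hunit : ∀ p : ℤ[X], p.map ι ≠ 0 → IsUnit (Polynomial.aeval (R := k) (φ l) (p.map ι)) := by
    intro p hp
    have h1 : Polynomial.aeval (R := k) (φ l) (p.map ι) = φ (p.eval₂ (Int.castRingHom L) l) := by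
      rw [Polynomial.aeval_def, Polynomial.eval₂_map, Polynomial.hom_eval₂]
      exact congrArg (fun f => p.eval₂ f (φ l)) (Subsingleton.elim _ _)
    rw [h1]
    refine (IsUnit.mk0 _ fun h0 => hp ?_).map φ
    rw [h0, map_zero] at h1
    exact hinj (h1.trans (map_zero _).symm)
  -- so no root of such a polynomial is in the image
  have hdiv : ∀ p : ℤ[X], (p.map ι).natDegree ≠ 0 → ∀ r : k[X], r ∣ p.map ι → Irreducible r → r ∣ a := by
    intro p hp r hr hirr
    by_contra hra
    have := PrincipalIdealRing.isMaximal_of_irreducible hirr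
    obtain ⟨Q, hQ⟩ := hsub ⟨Ideal.span {r}, Ideal.IsMaximal.isPrime this⟩
      (by simpa [Ideal.mem_span_singleton] using hra)
    have h2 : p.map ι ∈ (PrimeSpectrum.comap (algebraMap k[X] D) Q).asIdeal := by
      rw [hQ]; exact Ideal.mem_span_singleton.2 hr
    exact Q.isPrime.ne_top (Ideal.eq_top_of_isUnit_mem _ h2
      (hunit p fun h0 => hp (by rw [h0, Polynomial.natDegree_zero])))
  have ha0 : a ≠ 0 := fun h => ha (by simp [h])
  -- roots of unity polynomials give too many roots
  let K := AlgebraicClosure k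
  have hfin : (a.rootSet K).Finite := Polynomial.rootSet_finite a K
  obtain ⟨ζ, ⟨n, hn, hζ⟩, hζa⟩ : ∃ ζ : K, (∃ n : ℕ, 0 < n ∧ ζ ^ n = 1) ∧ ζ ∉ a.rootSet K := by
    by_contra hall
    push Not at hall
    have hs : ∀ n : ℕ, 0 < n → (n : K) ≠ 0 → n ≤ hfin.toFinset.card := fun n hn hn0 => by
      have : NeZero (n : K) := ⟨hn0⟩
      obtain ⟨z, hz⟩ := HasEnoughRootsOfUnity.exists_primitiveRoot K n
      calc n = (Finset.image (fun i : Fin n => z ^ (i : ℕ)) Finset.univ).card := by
            rw [Finset.card_image_of_injective _ fun i j h => Fin.ext (hz.pow_inj i.2 j.2 h)]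
            simp
        _ ≤ _ := Finset.card_le_card fun w hw => by
            obtain ⟨i, -, rfl⟩ := Finset.mem_image.1 hw
            exact hfin.mem_toFinset.2 (hall _ ⟨n, hn, by rw [← pow_mul, mul_comm, pow_mul, hz.pow_eq_one, one_pow]⟩)
    obtain ⟨q, hq⟩ := ExpChar.exists K
    obtain ⟨p, hp, hpp⟩ := Nat.exists_infinite_primes (hfin.toFinset.card + q + 1)
    refine absurd (hs p hpp.pos fun h0 => ?_) (by omega)
    obtain _ | hqp := hq
    · exact hpp.ne_zero (Nat.cast_eq_zero.1 h0)
    · exact absurd ((Nat.prime_dvd_prime_iff_eq ‹q.Prime› hpp).1 ((CharP.cast_eq_zero_iff K q p).1 h0)) (by omega)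
  let r := minpoly k ζ
  have hr : r ∣ ((X : ℤ[X]) ^ n - 1).map ι := minpoly.dvd k ζ (by simp [hζ])
  refine hζa ((Polynomial.mem_rootSet).2 ⟨ha0, ?_⟩)
  obtain ⟨s, hs⟩ := hdiv ((X : ℤ[X]) ^ n - 1) (by rw [Polynomial.map_sub, Polynomial.map_pow, Polynomial.map_X, Polynomial.map_one, ← Polynomial.C_1, Polynomial.natDegree_X_pow_sub_C]; omega) r hr
    (minpoly.irreducible (Algebra.IsIntegral.isIntegral ζ))
  rw [hs, map_mul, minpoly.aeval, zero_mul]

theorem exists_factor_residueField {U : Scheme.{u}} {Z : Scheme.{u}} [IsReduced Z] (f : Z ⟶ U) (v : U)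
    (h : ∀ z, f z = v) : ∃ g : Z ⟶ Spec (U.residueField v), g ≫ U.fromSpecResidueField v = f := by
  let i := pullback.fst f (U.fromSpecResidueField v)
  have hr : Set.range i = Set.univ := by
    rw [Scheme.Pullback.range_fst, Scheme.range_fromSpecResidueField]
    exact Set.eq_univ_of_forall h
  haveI : IsPreimmersion i := inferInstanceAs (IsPreimmersion (pullback.fst f (U.fromSpecResidueField v)))
  haveI : IsClosedImmersion i := .of_isPreimmersion _ (hr ▸ isClosed_univ)
  haveI : Surjective i := ⟨Set.range_eq_univ.1 hr⟩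
  haveI : IsIso i := isIso_of_isClosedImmersion_of_surjective i
  exact ⟨inv i ≫ pullback.snd _ _, by rw [Category.assoc, ← pullback.condition, IsIso.inv_hom_id_assoc]⟩

/-- Points of an affine open over a single point of the base are closed. -/
theorem eq_of_specializes_over_point {K : Type u} [Field K] {W P U S : Scheme.{u}} {f : U ⟶ S}
    {g : Spec (CommRingCat.of K) ⟶ S} {p₁ : P ⟶ U} {p₂ : P ⟶ Spec (CommRingCat.of K)}
    (sq : IsPullback p₁ p₂ f g) (b : W ⟶ P) [LocallyQuasiFinite b] [LocallyOfFiniteType (b ≫ p₂)]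
    {O : W.Opens} (hO : IsAffineOpen O) (v : U) {η η' : W} (hη : η ∈ O) (hη' : η' ∈ O) (h : η ⤳ η')
    (hv : ∀ w ∈ O, η ⤳ w → p₁ (b w) = v) : η = η' := by
  haveI : IsAffine O.toScheme := hO
  let A := Γ(W, O)
  let P0 := (hO.primeIdealOf ⟨η, hη⟩).asIdeal
  let D : Type u := A ⧸ P0
  let j : Spec (CommRingCat.of D) ⟶ W := Spec.map (CommRingCat.ofHom (Ideal.Quotient.mk P0)) ≫ hO.fromSpec
  let z₀ : Spec (CommRingCat.of D) := ⟨⊥, Ideal.isPrime_bot⟩
  have hz₀ : j z₀ = η := by
    refine Eq.trans ?_ (hO.fromSpec_primeIdealOf ⟨η, hη⟩)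
    exact congrArg hO.fromSpec (PrimeSpectrum.ext (Ideal.mk_ker (I := P0)))
  obtain ⟨z₁, hz₁⟩ : η' ∈ Set.range j := by
    have h1 : (hO.primeIdealOf ⟨η, hη⟩) ⤳ hO.primeIdealOf ⟨η', hη'⟩ :=
      (hO.fromSpec.isEmbedding.toIsInducing.specializes_iff).1
        (by simpa [IsAffineOpen.fromSpec_primeIdealOf] using h)
    have h2 : (hO.primeIdealOf ⟨η', hη'⟩) ∈ Set.range (PrimeSpectrum.comap (Ideal.Quotient.mk P0)) := by
      rw [range_comap_of_surjective _ _ Ideal.Quotient.mk_surjective, Ideal.mk_ker]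
      exact (PrimeSpectrum.le_iff_specializes _ _).2 h1
    obtain ⟨z, hz⟩ := h2
    exact ⟨z, (congrArg hO.fromSpec hz).trans (hO.fromSpec_primeIdealOf ⟨η', hη'⟩)⟩
  let d' : Spec (CommRingCat.of D) ⟶ Spec (CommRingCat.of K) := j ≫ b ≫ p₂
  haveI : LocallyOfFiniteType (Spec.map (CommRingCat.ofHom (Ideal.Quotient.mk P0))) :=
    haveI := IsClosedImmersion.spec_of_surjective (CommRingCat.ofHom (Ideal.Quotient.mk P0)) Ideal.Quotient.mk_surjective
    inferInstance
  haveI : LocallyOfFiniteType d' := inferInstance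
  let : Algebra K D := (Spec.preimage d').hom.toAlgebra
  have hd' : Spec.map (CommRingCat.ofHom (algebraMap K D)) = d' := Spec.map_preimage d'
  have : Algebra.FiniteType K D := (HasRingHomProperty.Spec_iff (P := @LocallyOfFiniteType)).1
    (show LocallyOfFiniteType (Spec.map (CommRingCat.ofHom (algebraMap K D))) from hd' ▸ inferInstance)
  have hDv : ∀ z, (j ≫ b ≫ p₁) z = v := fun z => by
    refine hv _ ?_ ?_
    · exact hO.range_fromSpec.subset ⟨_, rfl⟩
    · rw [← hz₀]
      exact ((PrimeSpectrum.le_iff_specializes z₀ z).1 bot_le).map j.continuous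
  obtain ⟨g', hg'⟩ := exists_factor_residueField (j ≫ b ≫ p₁) v hDv
  let ψ : U.residueField v ⟶ CommRingCat.of D := Spec.preimage g'
  let L := integralClosure K D
  have hL : IsField L := isField_of_isIntegral_of_isField' (Field.toIsField K)
  let ψ' : U.residueField v ⟶ CommRingCat.of L :=
    CommRingCat.ofHom (ψ.hom.codRestrict L.toSubring fun l => isIntegral_of_field_in_fg_domain ψ.hom l)
  let inc : CommRingCat.of L ⟶ CommRingCat.of D := CommRingCat.ofHom L.val.toRingHom
  let a₁ := Spec.map ψ' ≫ U.fromSpecResidueField v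
  let a₂ : Spec (CommRingCat.of L) ⟶ Spec (CommRingCat.of K) := Spec.map (CommRingCat.ofHom (algebraMap K L))
  have e₁ : Spec.map inc ≫ a₁ = j ≫ b ≫ p₁ := by
    rw [← Category.assoc, ← Spec.map_comp, ← hg']
    congr 1
    exact (congrArg Spec.map (show ψ' ≫ inc = ψ from rfl)).trans (Spec.map_preimage g')
  have e₂ : Spec.map inc ≫ a₂ = j ≫ b ≫ p₂ := by
    rw [← Spec.map_comp]
    exact hd'
  haveI : Subsingleton (Spec (CommRingCat.of L)) :=
    letI := hL.toField
    inferInstanceAs (Subsingleton (PrimeSpectrum L))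
  haveI : Surjective (Spec.map inc) := ⟨fun y => ⟨z₀, Subsingleton.elim _ _⟩⟩
  haveI : Flat (Spec.map inc) := by
    letI := hL.toField
    refine (HasRingHomProperty.Spec_iff (P := @Flat)).2 ?_
    exact (inferInstance : Module.Flat L D)
  haveI : Epi (Spec.map inc) := Flat.epi_of_flat_of_surjective _
  have ea : a₁ ≫ f = a₂ ≫ g := by
    rw [← cancel_epi (Spec.map inc), reassoc_of% e₁, reassoc_of% e₂, sq.w]
  have e₃ : j ≫ b = Spec.map inc ≫ sq.lift a₁ a₂ ea := sq.hom_ext
    (by rw [Category.assoc (Spec.map inc), sq.lift_fst, e₁]; exact Category.assoc _ _ _)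
    (by rw [Category.assoc (Spec.map inc), sq.lift_snd, e₂]; exact Category.assoc _ _ _)
  refine LqfSlice.eq_of_specializes b h ?_
  rw [← hz₀, ← hz₁]
  change (j ≫ b) z₀ = (j ≫ b) z₁
  rw [e₃, Scheme.Hom.comp_apply, Scheme.Hom.comp_apply, Subsingleton.elim (Spec.map inc z₀) (Spec.map inc z₁)]

end Groth.Agent.StFib.Gerbe

end
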