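import Groth.Agent.StFib.Gerbe.ResNoeth
import Groth.Agent.StFib.Gerbe.OrbitAlg
import Groth.Agent.StFib.UnivClosedAffine
import Groth.Agent.StFib.SpaceCharts
import Groth.Agent.StFib.RepFp
import Groth.Agent.StFib.SliceDM
import Groth.Agent.S7612

/-!
# Isolated points of fibres are translation invariant
-/

set_option autoImplicit false
set_option linter.unusedVariables false
set_option linter.style.haveILetI false
set_option backward.isDefEq.respectTransparency false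
set_option backward.isDefEq.respectTransparency.types false

universe u

open CategoryTheory CategoryTheory.Limits AlgebraicGeometry Opposite FibCat TopologicalSpace

noncomputable section

namespace Groth.Agent.StFib.Gerbe

variable {S : Scheme.{u}} {𝒳 𝒵 : AlgSt.Cat S}

local notation "K" => Scheme.fppfPrecoverage

theorem exists_etale_atlas (h : AlgSt.RepByAlgSp 𝒵) :
    ∃ (W : Over S) (w : overCat W ⥤ᵇ 𝒵), AlgSt.RepByAlgSpWith (AlgSp.LocP @Etale) w ∧
      AlgSt.RepByAlgSpWith AlgSp.IsSurjectiveMor w := by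
  obtain ⟨F, e, he⟩ := h
  obtain ⟨W, p, hp, hps⟩ := F.property.atlas
  have hg := good_locP (S := S) Groth.Agent.AlgSpCov.standard_etale
  have := hg.bc.of_respects
  have := good_surjective.bc.of_respects (S := S)
  exact ⟨W, _,
    SliceDM.repByAlgSpWith_comp_equiv' (repByAlgSpWith_atlas _ _
      (fun _ _ _ h => Groth.Agent.AlgSpCov.locP_of_repWith Groth.Agent.AlgSpCov.standard_etale.etaleLocal h)
      F.property p hp) he,
    SliceDM.repByAlgSpWith_comp_equiv' (repByAlgSpWith_atlas _ _ (fun _ _ _ h => isSurjectiveMor_of_repWith h)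
      F.property p hps) he⟩

/-- A point of a field chart, normalised. -/
theorem exists_chart_translate (h𝒳 : AlgSt.IsAlgStack K 𝒳) {T U W : Over S} {x : overCat U ⥤ᵇ 𝒳}
    {z : overCat T ⥤ᵇ 𝒳} (w : overCat W ⥤ᵇ fp z x) (hw : AlgSt.RepByAlgSpWith (AlgSp.LocP @Etale) w)
    {d : W ⟶ T} (id' : BasedFunctor.comp w (fpFst z x) ≅ AlgSt.overMap d)
    {c : W ⟶ U} (ic : BasedFunctor.comp w (fpSnd z x) ≅ AlgSt.overMap c) {TL : Over S} (l : TL ⟶ W) (u : TL ⟶ U)
    (hu : l ≫ c = u) :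
    ∃ (W' : Over S) (pr : W' ⟶ W) (d' : W' ⟶ TL) (s : TL ⟶ W')
      (e : overCat W' ⥤ᵇ fp (BasedFunctor.comp (AlgSt.overMap u) x) x),
      IsPullback pr.left d'.left d.left (l ≫ d).left ∧ s ≫ pr = l ∧ s ≫ d' = 𝟙 _ ∧
      AlgSt.RepByAlgSpWith (AlgSp.LocP @Etale) e ∧
      Nonempty (BasedFunctor.comp e (fpSnd (BasedFunctor.comp (AlgSt.overMap u) x) x) ≅
        AlgSt.overMap (pr ≫ c)) ∧
      Nonempty (BasedFunctor.comp (AlgSt.overMap s) e ≅ fpLift (F := BasedFunctor.comp (AlgSt.overMap u) x)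
        (G := x) (BasedFunctor.id _) (AlgSt.overMap u) (Iso.refl _)) := by
  let α := l ≫ d
  obtain ⟨N, hN, ⟨iN1⟩, ⟨iN2⟩⟩ := exists_equiv_pullback α d
  let s : TL ⟶ pullback α d := pullback.lift (𝟙 _) l (Category.id_comp _)
  haveI : (BasedFunctor.id (overCat T)).toFunctor.Full := inferInstanceAs (𝟭 _).Full
  haveI : (BasedFunctor.id (overCat T)).toFunctor.Faithful := inferInstanceAs (𝟭 _).Faithful
  haveI : (BasedFunctor.id 𝒳).toFunctor.Full := inferInstanceAs (𝟭 _).Full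
  haveI : (BasedFunctor.id 𝒳).toFunctor.Faithful := inferInstanceAs (𝟭 _).Faithful
  let M1 := fpMap (F := AlgSt.overMap α) (G := BasedFunctor.comp w (fpFst z x)) (F' := AlgSt.overMap α)
    (G' := AlgSt.overMap d) (BasedFunctor.id _) (BasedFunctor.id _) (BasedFunctor.id _) (Iso.refl _) id'
  have hM1 : IsEquivOver M1 := fpMap_isEquivOver _ _ _ _ _ (isEquivOver_id _) (isEquivOver_id _)
  let M2 := fpMap (F := AlgSt.overMap α) (G := fpFst z x) (F' := AlgSt.overMap α)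
    (G' := BasedFunctor.comp w (fpFst z x)) (BasedFunctor.id _) w (BasedFunctor.id _) (Iso.refl _) (Iso.refl _)
  let N0 := BasedFunctor.comp N M1
  have hN0 : IsEquivOver N0 := isEquivOver_comp hN hM1
  let αz := BasedFunctor.comp (AlgSt.overMap α) z
  let e0 : overCat (pullback α d) ⥤ᵇ fp αz x :=
    BasedFunctor.comp (BasedFunctor.comp N0 M2) (fpPaste z x (AlgSt.overMap α))
  have he0 : AlgSt.RepByAlgSpWith (AlgSp.LocP @Etale) e0 := by
    have h2 := repByAlgSpWith_fpMap_right _ hw (AlgSt.overMap α) (fpFst z x)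
    obtain ⟨b, hb, ⟨i₁⟩, -⟩ := isEquivOver_symm (fpPaste_isEquivOver z x (AlgSt.overMap α))
    exact (repByAlgSpWith_iff_of_equiv _ N0 b hN0 hb (f := M2) (f' := e0)
      (isoWhiskerLeft (BasedFunctor.comp N0 M2) i₁)).1 h2
  let i1 : BasedFunctor.comp e0 (fpFst αz x) ≅ AlgSt.overMap (pullback.fst α d) := iN1
  let i2 : BasedFunctor.comp e0 (fpSnd αz x) ≅ AlgSt.overMap (pullback.snd α d ≫ c) :=
    isoWhiskerRight iN2 (BasedFunctor.comp w (fpSnd z x)) ≪≫
      isoWhiskerLeft (AlgSt.overMap (pullback.snd α d)) ic ≪≫ (overMapCompIso _ _).symm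
  -- the point
  let p := BasedFunctor.comp (AlgSt.overMap s) e0
  let ja : BasedFunctor.comp p (fpFst αz x) ≅ BasedFunctor.id _ :=
    isoWhiskerLeft (AlgSt.overMap s) i1 ≪≫ (overMapCompIso _ _).symm ≪≫
      eqToIso (congrArg AlgSt.overMap (pullback.lift_fst _ _ _)) ≪≫ overMapIdIso TL
  let jb : BasedFunctor.comp p (fpSnd αz x) ≅ AlgSt.overMap u :=
    isoWhiskerLeft (AlgSt.overMap s) i2 ≪≫ (overMapCompIso _ _).symm ≪≫
      eqToIso (congrArg AlgSt.overMap (show s ≫ pullback.snd α d ≫ c = u by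
        rw [← Category.assoc, pullback.lift_snd, hu]))
  let ψ : αz ≅ BasedFunctor.comp (AlgSt.overMap u) x :=
    isoWhiskerRight ja.symm αz ≪≫ isoWhiskerLeft p (fpIso αz x) ≪≫ isoWhiskerRight jb x
  haveI : (BasedFunctor.id (overCat TL)).toFunctor.Full := inferInstanceAs (𝟭 _).Full
  haveI : (BasedFunctor.id (overCat TL)).toFunctor.Faithful := inferInstanceAs (𝟭 _).Faithful
  let E := fpMap (F := BasedFunctor.comp (AlgSt.overMap u) x) (G := x) (F' := αz) (G' := x)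
    (BasedFunctor.id _) (BasedFunctor.id _) (BasedFunctor.id 𝒳) ψ.symm (Iso.refl _)
  have hE : IsEquivOver E := fpMap_isEquivOver _ _ _ _ _ (isEquivOver_id _) (isEquivOver_id _)
  refine ⟨pullback α d, pullback.snd α d, pullback.fst α d, s, BasedFunctor.comp e0 E, ?_, pullback.lift_snd _ _ _,
    pullback.lift_fst _ _ _, SliceDM.repByAlgSpWith_comp_equiv' he0 hE, ⟨i2⟩, ⟨?_⟩⟩
  · exact ((IsPullback.of_hasPullback α d).map (Over.forget S)).flip
  refine isoMk (F := BasedFunctor.comp (AlgSt.overMap s) (BasedFunctor.comp e0 E))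
    (G := fpLift (BasedFunctor.id _) (AlgSt.overMap u) (Iso.refl (BasedFunctor.comp (AlgSt.overMap u) x)))
    (fun t => fpIsoMk (isoApp ja t) (isoApp jb t) ?_)
    (fun t => vert_fp_iff.2 (vert_isoApp ja t))
    (fun φ => fp_hom_ext (isoApp_naturality ja φ) (isoApp_naturality jb φ))
  let g := (BasedFunctor.comp (AlgSt.overMap u) x).map (isoApp ja t).hom
  have hnat := isoApp_naturality ψ (isoApp ja t).hom
  change g ≫ 𝟙 _ = ((isoApp ψ.symm (p.obj t).obj.fst).hom ≫ (p.obj t).obj.iso.hom ≫ (Iso.refl _ : _ ≅ _).hom) ≫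
    x.map (isoApp jb t).hom
  rw [Category.comp_id, Iso.refl_hom, Category.comp_id, Category.assoc]
  change g = (isoApp ψ (p.obj t).obj.fst).inv ≫ (p.obj t).obj.iso.hom ≫ x.map (isoApp jb t).hom
  rw [Iso.eq_inv_comp]
  refine hnat.symm.trans ?_
  change αz.map (isoApp ja t).hom ≫ αz.map (isoApp ja t).inv ≫ (p.obj t).obj.iso.hom ≫ x.map (isoApp jb t).hom = _
  rw [← Functor.map_comp_assoc, Iso.hom_inv_id, CategoryTheory.Functor.map_id, Category.id_comp]

/-- Isolated closed points over a point are translation invariant. -/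
theorem isolated_translate (h𝒳 : AlgSt.IsAlgStack K 𝒳) {T₀ T₁ U W₀ W₁ : Over S} {x : overCat U ⥤ᵇ 𝒳}
    {z₀ : overCat T₀ ⥤ᵇ 𝒳} {z₁ : overCat T₁ ⥤ᵇ 𝒳} {F₁ : Type u} [Field F₁]
    (hT₁ : T₁.left = Spec (CommRingCat.of F₁))
    (w₀ : overCat W₀ ⥤ᵇ fp z₀ x) (hw₀ : AlgSt.RepByAlgSpWith (AlgSp.LocP @Etale) w₀)
    {d₀ : W₀ ⟶ T₀} (id₀ : BasedFunctor.comp w₀ (fpFst z₀ x) ≅ AlgSt.overMap d₀)
    {c₀ : W₀ ⟶ U} (ic₀ : BasedFunctor.comp w₀ (fpSnd z₀ x) ≅ AlgSt.overMap c₀)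
    (w₁ : overCat W₁ ⥤ᵇ fp z₁ x) (hw₁ : AlgSt.RepByAlgSpWith (AlgSp.LocP @Etale) w₁)
    {d₁ : W₁ ⟶ T₁} (id₁ : BasedFunctor.comp w₁ (fpFst z₁ x) ≅ AlgSt.overMap d₁)
    {c₁ : W₁ ⟶ U} (ic₁ : BasedFunctor.comp w₁ (fpSnd z₁ x) ≅ AlgSt.overMap c₁)
    (q : W₀.left) (w : W₁.left) (hqw : c₀.left q = c₁.left w) {Z : Set U.left}
    (hqf : LocallyQuasiFinite (W₀.left.fromSpecResidueField q ≫ d₀.left))
    (hiso : ∃ O : Set W₀.left, IsOpen O ∧ O ∩ c₀.left ⁻¹' Z = {q}) :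
    ∃ O : Set W₁.left, IsOpen O ∧ O ∩ c₁.left ⁻¹' Z = {w} := by
  -- a common field
  obtain ⟨L, hL, a, b, hab⟩ : ∃ (L : Type u) (_ : Field L)
      (a : Spec (CommRingCat.of L) ⟶ W₀.left) (b : Spec (CommRingCat.of L) ⟶ W₁.left),
      (∀ t, a t = q) ∧ (∀ t, b t = w) ∧ a ≫ c₀.left = b ≫ c₁.left := by
    obtain ⟨r, hr₀, hr₁⟩ := Scheme.Pullback.exists_preimage_pullback (f := c₀.left) (g := c₁.left) q w hqw
    let k := (pullback c₀.left c₁.left).fromSpecResidueField r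
    exact ⟨(pullback c₀.left c₁.left).residueField r, inferInstance, k ≫ pullback.fst _ _, k ≫ pullback.snd _ _,
      fun t => (congrArg _ (Scheme.fromSpecResidueField_apply r t)).trans hr₀,
      fun t => (congrArg _ (Scheme.fromSpecResidueField_apply r t)).trans hr₁,
      by rw [Category.assoc, Category.assoc, pullback.condition]⟩
  obtain ⟨ha, hb, hcomm⟩ := hab
  let TL : Over S := Over.mk (a ≫ W₀.hom)
  let l₀ : TL ⟶ W₀ := Over.homMk a rfl
  let l₁ : TL ⟶ W₁ := Over.homMk b (by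
    change b ≫ W₁.hom = a ≫ W₀.hom
    rw [← Over.w c₁, ← Category.assoc, ← hcomm, Category.assoc, Over.w c₀])
  let u : TL ⟶ U := l₀ ≫ c₀
  have hu₁ : l₁ ≫ c₁ = u := Over.OverMorphism.ext hcomm.symm
  obtain ⟨V₀, pr₀, d₀', s₀, e₀, sq₀, hs₀, hsd₀, he₀, ⟨j₀⟩, ⟨k₀⟩⟩ :=
    exists_chart_translate h𝒳 w₀ hw₀ id₀ ic₀ l₀ u rfl
  obtain ⟨V₁, pr₁, d₁', s₁, e₁, sq₁, hs₁, hsd₁, he₁, ⟨j₁⟩, ⟨k₁⟩⟩ :=
    exists_chart_translate h𝒳 w₁ hw₁ id₁ ic₁ l₁ u hu₁
  let y := BasedFunctor.comp (AlgSt.overMap u) x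
  have hF : IsFibGrpd (fp y x).p :=
    isFibGrpd_fp (isFibGrpd_overCat TL) (isFibGrpd_overCat U) h𝒳.isStack.1 y x
  obtain ⟨R, g, hg, hgs⟩ := exists_etale_atlas (repByAlgSp1_of_with he₁ V₀ e₀)
  have sE := Groth.Agent.AlgSpCov.standard_etale.{u}
  obtain ⟨g₀, ⟨n₀⟩⟩ := exists_iso_overMap (BasedFunctor.comp g (fpFst e₀ e₁))
  obtain ⟨g₁, ⟨n₁⟩⟩ := exists_iso_overMap (BasedFunctor.comp g (fpSnd e₀ e₁))
  have hM : IsFibGrpd (fp e₀ e₁).p := isFibGrpd_fp (isFibGrpd_overCat V₀) (isFibGrpd_overCat V₁) hF e₀ e₁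
  haveI : Etale g₀.left := mem_scheme_of_overMap sE (repByAlgSpWith_of_iso _ n₀
    (repByAlgSpWith_comp (good_locP sE).bc (good_locP sE).comp (good_locP sE).det (isFibGrpd_overCat R) hM hg
      (repByAlgSpWith_fpFst _ e₀ he₁)))
  haveI : Etale g₁.left := mem_scheme_of_overMap sE (repByAlgSpWith_of_iso _ n₁
    (repByAlgSpWith_comp (good_locP sE).bc (good_locP sE).comp (good_locP sE).det (isFibGrpd_overCat R) hM hg
      (repByAlgSpWith_fpSnd _ e₀ he₀)))
  have hc : g₀ ≫ pr₀ ≫ c₀ = g₁ ≫ pr₁ ≫ c₁ := overMap_injective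
    (overMapCompIso _ _ ≪≫ isoWhiskerLeft (AlgSt.overMap g₀) j₀.symm ≪≫
      isoWhiskerRight n₀.symm (BasedFunctor.comp e₀ (fpSnd y x)) ≪≫
      isoWhiskerRight (isoWhiskerLeft g (fpIso e₀ e₁)) (fpSnd y x) ≪≫
      isoWhiskerRight n₁ (BasedFunctor.comp e₁ (fpSnd y x)) ≪≫
      isoWhiskerLeft (AlgSt.overMap g₁) j₁ ≪≫ (overMapCompIso _ _).symm)
  -- the point
  let t : TL.left := IsLocalRing.closedPoint L
  have heq : AlgSt.Points.ofChart e₀ (s₀.left t) = AlgSt.Points.ofChart e₁ (s₁.left t) := by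
    rw [← ofChart_overMap, ← ofChart_overMap]
    exact congrFun (ofChart_congr (k₀ ≪≫ k₁.symm)) t
  obtain ⟨P, hP₀, hP₁⟩ := exists_points_fp_of_map_eq (isFibGrpd_overCat V₁) (isFibGrpd_overCat V₀) hF e₁ e₀
    (AlgSt.Points.ofChart (BasedFunctor.id _) (s₀.left t)) (AlgSt.Points.ofChart (BasedFunctor.id _) (s₁.left t))
    ((ofChart_eq_map e₀ _).symm.trans (heq.trans (ofChart_eq_map e₁ _)))
  obtain ⟨r, rfl⟩ := ofChart_surjective hM hgs P
  rw [map_ofChart, ofChart_congr n₀] at hP₀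
  rw [map_ofChart, ofChart_congr n₁] at hP₁
  have hr : ∀ {V : Over S} (h : R ⟶ V) (v : V.left),
      AlgSt.Points.ofChart (AlgSt.overMap h) r = AlgSt.Points.ofChart (BasedFunctor.id _) v → h.left r = v :=
    fun {V} h v e => by
      have := congrArg ptMap e
      rw [ptMap_ofChart_id] at this
      refine Eq.trans ?_ this
      exact ((congrArg ptMap (ofChart_overMap (BasedFunctor.id (overCat V)) h r)).trans (ptMap_ofChart_id _)).symm
  have hr₀ : (g₀ ≫ pr₀).left r = q := by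
    rw [Over.comp_left, Scheme.Hom.comp_apply, hr g₀ _ hP₀, ← Scheme.Hom.comp_apply, ← Over.comp_left, hs₀]
    exact ha t
  have hr₁ : (g₁ ≫ pr₁).left r = w := by
    rw [Over.comp_left, Scheme.Hom.comp_apply, hr g₁ _ hP₁, ← Scheme.Hom.comp_apply, ← Over.comp_left, hs₁]
    exact hb t
  -- the fibre over q is discrete
  haveI := hqf
  let i := W₀.left.fromSpecResidueField q
  let f := pullback.fst pr₀.left i
  haveI : LocallyQuasiFinite (f ≫ d₀'.left) :=
    MorphismProperty.of_isPullback ((IsPullback.of_hasPullback pr₀.left i).flip.paste_vert sq₀) inferInstance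
  let f' := pullback.fst g₀.left f
  haveI : IsPreimmersion f := inferInstanceAs (IsPreimmersion (pullback.fst pr₀.left i))
  haveI : IsPreimmersion f' := inferInstanceAs (IsPreimmersion (pullback.fst g₀.left f))
  haveI : LocallyQuasiFinite g₀.left := Groth.Agent.AlgSpCov.etale_le_locallyQuasiFinite _ _ _ inferInstance
  haveI : LocallyQuasiFinite (pullback.snd g₀.left f) := MorphismProperty.pullback_snd _ _ inferInstance
  let h := pullback.snd g₀.left f ≫ f ≫ d₀'.left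
  haveI : LocallyQuasiFinite h := inferInstance
  haveI : Subsingleton TL.left := inferInstanceAs (Subsingleton (PrimeSpectrum L))
  haveI : DiscreteTopology ↥(pullback g₀.left f) := by
    have := (h.isDiscrete_preimage_singleton t).to_subtype
    rw [show h ⁻¹' {t} = Set.univ from Set.eq_univ_of_forall fun _ => Subsingleton.elim (α := TL.left) _ t] at this
    exact (Homeomorph.Set.univ ↥(pullback g₀.left f)).discreteTopology
  have hrange : Set.range f' = g₀.left ⁻¹' (pr₀.left ⁻¹' {q}) := by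
    rw [Scheme.Pullback.range_fst, Scheme.Pullback.range_fst, Scheme.range_fromSpecResidueField]
  obtain ⟨r', hr'⟩ : r ∈ Set.range f' := by
    rw [hrange]; exact hr₀
  obtain ⟨O', hO', hO'r⟩ := f'.isEmbedding.isInducing.isOpen_iff.1 (isOpen_discrete {r'})
  obtain ⟨O, hO, hOq⟩ := hiso
  let h₁ := (g₁ ≫ pr₁).left
  have hopen : IsOpenMap h₁ := by
    obtain ⟨T₁l, T₁h, rfl⟩ := T₁.mk_surjective
    change T₁l = _ at hT₁
    subst hT₁
    haveI : UniversallyOpen (l₁ ≫ d₁).left := Groth.Agent.S7612.universallyOpen_of_field _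
    haveI : UniversallyOpen pr₁.left := MorphismProperty.of_isPullback sq₁.flip inferInstance
    haveI : UniversallyOpen h₁ := inferInstanceAs (UniversallyOpen (g₁.left ≫ pr₁.left))
    exact h₁.isOpenMap
  refine ⟨h₁ '' (O' ∩ (g₀ ≫ pr₀).left ⁻¹' O), hopen _ (hO'.inter (hO.preimage (g₀ ≫ pr₀).left.continuous)), ?_⟩
  have hqO : q ∈ O ∧ c₀.left q ∈ Z := hOq.ge rfl
  refine Set.Subset.antisymm ?_ (Set.singleton_subset_iff.2 ⟨⟨r, ⟨?_, ?_⟩, hr₁⟩, show c₁.left w ∈ Z from hqw ▸ hqO.2⟩)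
  · rintro _ ⟨⟨r₂, ⟨hr₂, hr₂O⟩, rfl⟩, hZ⟩
    have h1 : (g₀ ≫ pr₀).left r₂ ∈ c₀.left ⁻¹' Z := by
      have e := congrArg (fun k : R ⟶ U => k.left r₂) hc
      simp only [Over.comp_left, Scheme.Hom.comp_apply] at e
      change c₁.left _ ∈ Z at hZ
      change c₀.left _ ∈ Z
      simp only [Over.comp_left, Scheme.Hom.comp_apply] at hZ ⊢
      exact e.symm ▸ hZ
    have h2 : (g₀ ≫ pr₀).left r₂ = q := hOq.le ⟨hr₂O, h1⟩
    obtain ⟨r₂', rfl⟩ : r₂ ∈ Set.range f' := by rw [hrange]; exact h2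
    have h3 : r₂' = r' := hO'r.le hr₂
    rw [h3, hr']
    exact hr₁
  · rw [← hr']
    exact hO'r.ge rfl
  · rw [Set.mem_preimage, hr₀]
    exact hqO.1

end Groth.Agent.StFib.Gerbe

end
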