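import Groth.Agent.StFib.Gerbe.ResQC
import Groth.Agent.AlgSpCov.FppfSource

/-!
# Residual gerbes from points closed in their orbit
-/

set_option autoImplicit false
set_option linter.unusedVariables false
set_option linter.style.haveILetI false
set_option backward.isDefEq.respectTransparency false
set_option backward.isDefEq.respectTransparency.types false

universe u

open CategoryTheory CategoryTheory.Limits AlgebraicGeometry Opposite FibCat TopologicalSpace

noncomputable section

namespace Groth.Agent.StFib.Gerbe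

variable {S : Scheme.{u}} {𝒳 : AlgSt.Cat S}

local notation "K" => Scheme.fppfPrecoverage

/-- The residue point of a chart point. -/
abbrev resPt (U : Over S) (v₀ : U.left) : Over S :=
  Over.mk (U.left.fromSpecResidueField v₀ ≫ U.hom)

/-- The inclusion of the residue point. -/
abbrev resIncl (U : Over S) (v₀ : U.left) : resPt U v₀ ⟶ U :=
  Over.homMk (U.left.fromSpecResidueField v₀) rfl

/-- Residual gerbes exist at points closed in a chart of their fibre. -/
theorem resGerbeExists_of_closed_chart (h𝒳 : AlgSt.IsAlgStack K 𝒳) {U : Over S} (x : overCat U ⥤ᵇ 𝒳)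
    (hxl : AlgSt.RepByAlgSpWith (AlgSp.LocP @LocallyOfFiniteType) x) (v₀ : U.left) {W : Over S}
    (w : overCat W ⥤ᵇ fp x (BasedFunctor.comp (AlgSt.overMap (resIncl U v₀)) x))
    (hw : AlgSt.RepByAlgSpWith (AlgSp.LocP @Smooth) w) (hws : AlgSt.RepByAlgSpWith AlgSp.IsSurjectiveMor w)
    {c : W ⟶ U} (ic : BasedFunctor.comp w (fpFst x _) ≅ AlgSt.overMap c) (hclosed : IsClosed (c.left ⁻¹' {v₀})) :
    Gerb.ResGerbeExists K 𝒳 (AlgSt.Points.ofChart x v₀) := by
  let k := (U.left.residueField v₀ : Type u)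
  let a : Spec (CommRingCat.of k) ⟶ S := U.left.fromSpecResidueField v₀ ≫ U.hom
  let T : Over S := Over.mk a
  let o : T ⟶ U := resIncl U v₀
  haveI : IsPreimmersion o.left := inferInstanceAs (IsPreimmersion (U.left.fromSpecResidueField v₀))
  let z := BasedFunctor.comp (AlgSt.overMap o) x
  have hM : IsFibGrpd (fp x z).p :=
    isFibGrpd_fp (isFibGrpd_overCat U) (isFibGrpd_overCat T) h𝒳.isStack.1 x z
  obtain ⟨d, ⟨id'⟩⟩ := exists_iso_overMap (BasedFunctor.comp w (fpSnd x z))
  have sT := Groth.Agent.AlgSpCov.standard_locallyOfFiniteType.{u}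
  have hwl : AlgSt.RepByAlgSpWith (AlgSp.LocP @LocallyOfFiniteType) w :=
    repByAlgSpWith_mono (repByAlgSpWith_lfp_of_smooth hw) fun F W m hm A B a b k ha hb e =>
      have : LocallyOfFinitePresentation k.left := hm a b k ha hb e
      inferInstance
  haveI : LocallyOfFiniteType d.left := mem_scheme_of_overMap sT
    (repByAlgSpWith_of_iso _ id' (repByAlgSpWith_comp (good_locP sT).bc (good_locP sT).comp (good_locP sT).det
      (isFibGrpd_overCat W) hM hwl (repByAlgSpWith_fpSnd _ x hxl)))
  obtain ⟨N, hN, -, ⟨iN⟩⟩ := exists_equiv_pullback o c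
  let r := pullback.snd o c
  have sq : IsPullback (pullback.fst o c).left r.left o.left c.left :=
    (IsPullback.of_hasPullback o c).map (Over.forget S)
  haveI : IsClosedImmersion r.left := by
    haveI : IsPreimmersion r.left := MorphismProperty.of_isPullback sq inferInstance
    refine .of_isPreimmersion _ ?_
    have hr : Set.range r.left = c.left ⁻¹' Set.range o.left := by
      rw [← sq.isoPullback_hom_snd, Scheme.Hom.comp_base, TopCat.coe_comp, Set.range_comp,
        Set.range_eq_univ.2 sq.isoPullback.hom.surjective, Set.image_univ,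
        Scheme.Pullback.range_snd]
    rw [hr, show Set.range o.left = {v₀} from Scheme.range_fromSpecResidueField v₀]
    exact hclosed
  haveI : (BasedFunctor.id (overCat T)).toFunctor.Full := inferInstanceAs (𝟭 _).Full
  haveI : (BasedFunctor.id (overCat T)).toFunctor.Faithful := inferInstanceAs (𝟭 _).Faithful
  haveI : (BasedFunctor.id (overCat U)).toFunctor.Full := inferInstanceAs (𝟭 _).Full
  haveI : (BasedFunctor.id (overCat U)).toFunctor.Faithful := inferInstanceAs (𝟭 _).Faithful
  let M1 := fpMap (F := AlgSt.overMap o) (G := BasedFunctor.comp w (fpFst x z)) (F' := AlgSt.overMap o)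
    (G' := AlgSt.overMap c) (BasedFunctor.id _) (BasedFunctor.id _) (BasedFunctor.id _) (Iso.refl _) ic
  have hM1 : IsEquivOver M1 := fpMap_isEquivOver _ _ _ _ _ (isEquivOver_id _) (isEquivOver_id _)
  let M2 := fpMap (F := AlgSt.overMap o) (G := fpFst x z) (F' := AlgSt.overMap o)
    (G' := BasedFunctor.comp w (fpFst x z)) (BasedFunctor.id _) w (BasedFunctor.id _) (Iso.refl _) (Iso.refl _)
  let N0 : overCat (pullback o c) ⥤ᵇ fp (AlgSt.overMap o) (BasedFunctor.comp w (fpFst x z)) :=
    BasedFunctor.comp N M1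
  have hN0 : IsEquivOver N0 := isEquivOver_comp hN hM1
  let w' : overCat (pullback o c) ⥤ᵇ fp z z :=
    BasedFunctor.comp (BasedFunctor.comp N0 M2) (fpPaste x z (AlgSt.overMap o))
  have hP : ∀ {P : MorphismProperty (AlgSp.Sp S)}, AlgSt.RepByAlgSpWith P w →
      AlgSt.RepByAlgSpWith P w' := fun {P} h => by
    have h2 := repByAlgSpWith_fpMap_right P h (AlgSt.overMap o) (fpFst x z)
    obtain ⟨b, hb, ⟨i₁⟩, -⟩ := isEquivOver_symm (fpPaste_isEquivOver x z (AlgSt.overMap o))
    exact (repByAlgSpWith_iff_of_equiv P N0 b hN0 hb (f := M2) (f' := w')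
      (isoWhiskerLeft (BasedFunctor.comp N0 M2) i₁)).1 h2
  let i0 : BasedFunctor.comp w' (fpSnd z z) ≅ AlgSt.overMap (r ≫ d) :=
    isoWhiskerRight iN (BasedFunctor.comp w (fpSnd x z)) ≪≫
      isoWhiskerLeft (AlgSt.overMap r) id' ≪≫ (overMapCompIso _ _).symm
  have hz1 : AlgSt.RepByAlgSp1 z := repByAlgSp1_chart h𝒳 z
  haveI := AlgSpCov.isLocalAtSource_fppf_locallyOfFiniteType.{u}
  haveI : AlgSpCov.Fppf.{u}.ContainsIdentities := ⟨fun X => AlgSpCov.fppf_of_etale (𝟙 X) inferInstance⟩
  have hR : IsFibGrpd (fp z z).p := isFibGrpd_fp (isFibGrpd_overCat T) (isFibGrpd_overCat T) h𝒳.isStack.1 z z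
  have sF := Groth.Agent.AlgSpCov.standard_flat.{u}
  have sL := Groth.Agent.AlgSpCov.standard_locallyOfFinitePresentation.{u}
  have hC := (good_locP (S := S) sF).inf (good_locP sL)
  have hw' := repByAlgSpWith_inf (isFibGrpd_overCat _) hR (good_locP sF) (good_locP sL)
    (hP (repByAlgSpWith_flat_of_smooth hw)) (hP (repByAlgSpWith_lfp_of_smooth hw))
  haveI : LocallyOfFiniteType (r ≫ d).left := inferInstanceAs (LocallyOfFiniteType (r.left ≫ d.left))
  have hsnd : AlgSt.RepByAlgSpWith (AlgSp.LocP @LocallyOfFiniteType) (fpSnd z z) :=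
    repByAlgSpWith_of_comp_cover (good_locP sT).bc (good_locP sT).det hC
      (fun A B C hA hB hC b a hb hbs hba => locP_of_cover @LocallyOfFiniteType hA hB hC b a hb hbs hba)
      (isFibGrpd_overCat _) hR (repByAlgSp1_of_with (repByAlgSpWith_fpSnd _ z (repByAlgSp1_iff_with_top.1 hz1))) hw' (hP hws)
      (repByAlgSpWith_of_iso _ i0.symm (repByAlgSpWith_overMap_locP sT (r ≫ d) inferInstance))
  have hfst : AlgSt.RepByAlgSpWith (AlgSp.LocP @LocallyOfFiniteType) (fpFst z z) :=
    (repByAlgSpWith_iff_of_equiv _ (fpSwap z z) (BasedFunctor.id _) (fpSwap_isEquivOver z z) (isEquivOver_id _)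
      (f := fpSnd z z) (f' := fpFst z z) (Iso.refl _)).1 hsnd
  have hT := isAlgStack_of_repByAlgSp (repByAlgSp_overCat T)
  have hid : ∀ {P : MorphismProperty Scheme.{u}}, AlgSpCov.Standard P →
      AlgSt.RepByAlgSpWith (AlgSp.LocP P) (BasedFunctor.id (overCat T)) := fun hP =>
    repByAlgSpWith_of_iso _ (overMapIdIso T)
      (repByAlgSpWith_overMap_locP hP (𝟙 T) (hP.of_etale _ (inferInstanceAs (Etale (𝟙 T.left)))))
  haveI := subsingleton_points_overCat (T := T)
  haveI := nonempty_points_overCat (T := T)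
  obtain ⟨h₁, h₂⟩ := flat_lfp_of_lft_fieldPt hR (isFibGrpd_overCat T) hfst (z := BasedFunctor.id (overCat T))
    (hid sL) (surjective_fieldPt hT (BasedFunctor.id _)) (hid sF)
  obtain ⟨-, -, hs⟩ := Image.lift_fppf z h𝒳 h₁ h₂
  have hA := Image.isAlgStack_img z h𝒳 h₁ h₂
  obtain ⟨hne, hss⟩ := points_of_surjective_fieldPt hA.isStack.1 hs
  refine ⟨_, _, hA, Image.isMono_incl z h𝒳 h₁ h₂, hne, hss, fun P => ?_⟩
  let t : T.left := IsLocalRing.closedPoint k
  rw [Subsingleton.elim P (AlgSt.Points.ofChart (Image.lift z) t), map_ofChart]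
  refine (ofChart_overMap x o _).trans ?_
  exact congrArg _ (Scheme.fromSpecResidueField_apply v₀ _)

/-- Residual gerbes exist at points which have a chart point closed in its orbit. -/
theorem resGerbeExists_of_closed_in_orbit (h𝒳 : AlgSt.IsAlgStack K 𝒳) {U : Over S} (x : overCat U ⥤ᵇ 𝒳)
    (hxl : AlgSt.RepByAlgSpWith (AlgSp.LocP @LocallyOfFiniteType) x) (v₀ : U.left)
    (hu : ∀ v, v₀ ⤳ v → AlgSt.Points.ofChart x v = AlgSt.Points.ofChart x v₀ → v = v₀) :
    Gerb.ResGerbeExists K 𝒳 (AlgSt.Points.ofChart x v₀) := by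
  let o := resIncl U v₀
  let z := BasedFunctor.comp (AlgSt.overMap o) x
  obtain ⟨W, w, hw, hws⟩ := atlasProp_smooth.atlas (repByAlgSp1_chart h𝒳 z U x)
  obtain ⟨c, ⟨ic⟩⟩ := exists_iso_overMap (BasedFunctor.comp w (fpFst x z))
  obtain ⟨d, ⟨id'⟩⟩ := exists_iso_overMap (BasedFunctor.comp w (fpSnd x z))
  have hclosed : IsClosed (c.left ⁻¹' {v₀}) := by
    have : c.left ⁻¹' {v₀} = c.left ⁻¹' (closure {v₀}) := by
      refine Set.Subset.antisymm (Set.preimage_mono subset_closure) fun t ht => ?_
      refine hu _ (specializes_iff_mem_closure.2 ht) ?_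
      rw [← ofChart_overMap x c]
      have e := congrFun (ofChart_congr (isoWhiskerRight ic.symm x ≪≫ isoWhiskerLeft w (fpIso x z) ≪≫
        isoWhiskerRight id' z)) t
      refine e.trans ?_
      rw [ofChart_overMap, ofChart_overMap]
      exact congrArg _ (Scheme.fromSpecResidueField_apply v₀ _)
    rw [this]
    exact isClosed_closure.preimage c.left.continuous
  exact resGerbeExists_of_closed_chart h𝒳 x hxl v₀ w hw hws ic hclosed

end Groth.Agent.StFib.Gerbe

end
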