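import Groth.Agent.StFib.Gerbe.SectGrp
import Groth.Agent.StFib.SpTorsorChart
import Groth.Prelude.Def_W4stkstmgerbesQuotBase

/-!
# The functor to the classifying stack of a section
-/

set_option autoImplicit false
set_option linter.unusedVariables false
set_option linter.unusedSectionVars false
set_option linter.style.haveILetI false
set_option backward.isDefEq.respectTransparency false
set_option backward.isDefEq.respectTransparency.types false

universe u

open CategoryTheory CategoryTheory.Limits AlgebraicGeometry Opposite FibCat MonoidalCategory CartesianMonoidalCategory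
open scoped MonObj

noncomputable section

namespace Groth.Agent.StFib.Gerbe.Sect

open Groth.Agent.StFib
open Groth.Agent.AlgSp (yEquiv yEquiv_map yEquiv_comp hom_ext_yon)

variable {S : Scheme.{u}}

section OverSec

variable {B : AlgSp.Sp S}

/-- The image of a section. -/
abbrev app {Y Z : Over B} (f : Y ⟶ Z) {W : Over S} (c : Y.left.obj.obj (op W)) : Z.left.obj.obj (op W) :=
  f.left.hom.app (op W) c

theorem app_hom {Y Z : Over B} (f : Y ⟶ Z) {W : Over S} (c : Y.left.obj.obj (op W)) :
    Z.hom.hom.app (op W) (app f c) = Y.hom.hom.app (op W) c :=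
  congrArg (fun k : Y.left ⟶ B => k.hom.app (op W) c) (Over.w f)

theorem app_congr {Y Z : Over B} {f g : Y ⟶ Z} (e : f = g) {W : Over S} (c : Y.left.obj.obj (op W)) :
    app f c = app g c := by rw [e]

theorem app_map {Y Z : Over B} (f : Y ⟶ Z) {W' W : Over S} (g : W' ⟶ W) (c : Y.left.obj.obj (op W)) :
    app f (Y.left.obj.map g.op c) = Z.left.obj.map g.op (app f c) :=
  NatTrans.naturality_apply f.left.hom g.op c

/-- A section as a morphism over the base. -/
def secHomE (Z : Over B) {W : Over S} (c : Z.left.obj.obj (op W)) :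
    Over.mk (yEquiv.symm (Z.hom.hom.app (op W) c)) ⟶ Z :=
  Over.homMk (yEquiv.symm c) (yEquiv.injective (by
    rw [yEquiv_comp, Equiv.apply_symm_apply]
    exact (Equiv.apply_symm_apply _ _).symm))

theorem over_ext {Y Z : Over B} {f g : Y ⟶ Z}
    (h : ∀ (W : Over S) (c : Y.left.obj.obj (op W)), app f c = app g c) : f = g :=
  Over.OverMorphism.ext (hom_ext_yon fun W a => yEquiv.injective (by
    rw [yEquiv_comp, yEquiv_comp]
    exact h W _))

theorem pair_ext {Y Z : Over B} {W : Over S} {c c' : (Y ⊗ Z).left.obj.obj (op W)}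
    (h₁ : app (fst Y Z) c = app (fst Y Z) c') (h₂ : app (snd Y Z) c = app (snd Y Z) c') : c = c' := by
  have ht : (Y ⊗ Z).hom.hom.app (op W) c' = (Y ⊗ Z).hom.hom.app (op W) c := by
    rw [← app_hom (fst Y Z) c, h₁, app_hom]
  let f' : Over.mk (yEquiv.symm ((Y ⊗ Z).hom.hom.app (op W) c)) ⟶ Y ⊗ Z :=
    Over.homMk (yEquiv.symm c') (yEquiv.injective (by
      rw [yEquiv_comp, Equiv.apply_symm_apply]
      exact ht.trans (Equiv.apply_symm_apply _ _).symm))
  have e : secHomE (Y ⊗ Z) c = f' := by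
    apply CartesianMonoidalCategory.hom_ext
    · refine Over.OverMorphism.ext (yEquiv.injective ?_)
      change yEquiv (yEquiv.symm c ≫ (fst Y Z).left) = yEquiv (yEquiv.symm c' ≫ (fst Y Z).left)
      rw [yEquiv_comp, yEquiv_comp, Equiv.apply_symm_apply, Equiv.apply_symm_apply]
      exact h₁
    · refine Over.OverMorphism.ext (yEquiv.injective ?_)
      change yEquiv (yEquiv.symm c ≫ (snd Y Z).left) = yEquiv (yEquiv.symm c' ≫ (snd Y Z).left)
      rw [yEquiv_comp, yEquiv_comp, Equiv.apply_symm_apply, Equiv.apply_symm_apply]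
      exact h₂
  exact yEquiv.symm.injective (congrArg (fun k => k.left) e)

theorem exists_pair {Y Z : Over B} {W : Over S} (a : Y.left.obj.obj (op W)) (b : Z.left.obj.obj (op W))
    (h : Y.hom.hom.app (op W) a = Z.hom.hom.app (op W) b) :
    ∃ c : (Y ⊗ Z).left.obj.obj (op W), app (fst Y Z) c = a ∧ app (snd Y Z) c = b := by
  let fb : Over.mk (yEquiv.symm (Y.hom.hom.app (op W) a)) ⟶ Z :=
    Over.homMk (yEquiv.symm b) (yEquiv.injective (by
      rw [yEquiv_comp, Equiv.apply_symm_apply]
      exact h.symm.trans (Equiv.apply_symm_apply _ _).symm))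
  refine ⟨yEquiv (lift (secHomE Y a) fb).left, ?_, ?_⟩
  · refine (yEquiv_comp _ _).symm.trans ?_
    rw [← Over.comp_left, lift_fst]
    exact Equiv.apply_symm_apply _ _
  · refine (yEquiv_comp _ _).symm.trans ?_
    rw [← Over.comp_left, lift_snd]
    exact Equiv.apply_symm_apply _ _

theorem isPullback_of_sec {P X Y Z : Over B} {f' : P ⟶ X} {g' : P ⟶ Y} {f : X ⟶ Z} {g : Y ⟶ Z}
    (w : f' ≫ f = g' ≫ g)
    (h : ∀ (W : Over S) (a : X.left.obj.obj (op W)) (b : Y.left.obj.obj (op W)), app f a = app g b →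
      ∃! c, app f' c = a ∧ app g' c = b) : IsPullback f' g' f g := by
  refine Glue.isPullback_over_of_points w fun W p q e => ?_
  have e' : app f (yEquiv p) = app g (yEquiv q) := congrArg yEquiv e
  obtain ⟨c, ⟨hc₁, hc₂⟩, hu⟩ := h W (yEquiv p) (yEquiv q) e'
  refine ⟨yEquiv.symm c, ⟨yEquiv.injective ?_, yEquiv.injective ?_⟩, fun l hl => ?_⟩
  · rw [yEquiv_comp, Equiv.apply_symm_apply]; exact hc₁
  · rw [yEquiv_comp, Equiv.apply_symm_apply]; exact hc₂
  · exact yEquiv.eq_symm_apply.2 (hu _ ⟨congrArg yEquiv hl.1, congrArg yEquiv hl.2⟩)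

end OverSec

section Group

variable (D : Data S)

/-- The automorphisms of the section, over the base. -/
abbrev gOver : Over D.U :=
  Over.mk (Y := gSheaf D) ⟨{ app := fun W => TypeCat.ofHom (fun P : GPt D W.unop => P.t), naturality := fun _ _ _ => rfl }⟩

/-- Natural families of automorphisms of the section. -/
def famG (Z : Over D.U) : Subgroup (∀ (a : (AlgSt.ofSp D.U).obj),
    {s : Z.left.obj.obj (op a.base) // Z.hom.hom.app (op a.base) s = a.sec} → Gerb.AutO (D.x.obj a)) where
  carrier := {θ | ∀ {a' a : (AlgSt.ofSp D.U).obj} (ga : a' ⟶ a)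
    (s : {s : Z.left.obj.obj (op a.base) // Z.hom.hom.app (op a.base) s = a.sec})
    (h' : Z.hom.hom.app (op a'.base) (Z.left.obj.map ga.hom.op s.1) = a'.sec),
    θ a' ⟨Z.left.obj.map ga.hom.op s.1, h'⟩ = resA ga (θ a s)}
  mul_mem' {θ θ'} hθ hθ' := fun ga s h' => by
    change θ _ _ * θ' _ _ = resA ga (θ _ _ * θ' _ _)
    rw [map_mul, hθ ga s h', hθ' ga s h']
  one_mem' := fun ga s h' => (map_one (resA ga)).symm
  inv_mem' {θ} hθ := fun ga s h' => by
    change (θ _ _)⁻¹ = resA ga (θ _ _)⁻¹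
    rw [map_inv, hθ ga s h']

theorem famG_congr {Z : Over D.U} (θ : famG D Z) {a : (AlgSt.ofSp D.U).obj} {s s' : Z.left.obj.obj (op a.base)}
    (e : s = s') (h : Z.hom.hom.app (op a.base) s = a.sec) (h' : Z.hom.hom.app (op a.base) s' = a.sec) :
    θ.1 a ⟨s, h⟩ = θ.1 a ⟨s', h'⟩ := by
  subst e
  rfl

theorem famG_eval {Z : Over D.U} (θ : famG D Z) {W : Over S} {t : D.U.obj.obj (op W)} (s : Z.left.obj.obj (op W))
    (h : Z.hom.hom.app (op W) s = t) :
    resA (castE h.symm) (θ.1 ⟨W, Z.hom.hom.app (op W) s⟩ ⟨s, rfl⟩) = θ.1 ⟨W, t⟩ ⟨s, h⟩ := by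
  subst h
  exact resA_one_hom rfl _

/-- The functor of natural families. -/
def famF : (Over D.U)ᵒᵖ ⥤ GrpCat.{u + 1} where
  obj Z := GrpCat.of (famG D Z.unop)
  map {Z Z'} f := GrpCat.ofHom (MonoidHom.mk'
    (fun θ => ⟨fun a s => θ.1 a ⟨app f.unop s.1, (app_hom f.unop s.1).trans s.2⟩, fun {a' a} ga s h' => by
      have e := app_map f.unop ga.hom s.1
      exact (famG_congr D θ e ((app_hom f.unop _).trans h') ((congrArg _ e.symm).trans ((app_hom f.unop _).trans h'))).trans
        (θ.2 ga ⟨app f.unop s.1, (app_hom f.unop s.1).trans s.2⟩ _)⟩)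
    fun θ θ' => rfl)
  map_id Z := GrpCat.ext fun θ => rfl
  map_comp f g := GrpCat.ext fun θ => rfl

theorem GPt.t_app {Z : Over D.U} (g : Z ⟶ gOver D) {W : Over S} (s : Z.left.obj.obj (op W)) :
    GPt.t (app g s) = Z.hom.hom.app (op W) s :=
  app_hom g s

/-- The family attached to a morphism to the group. -/
def toFam (Z : Over D.U) (g : Z ⟶ gOver D) : famG D Z :=
  ⟨fun a s => resA (castE (s.2.symm.trans (GPt.t_app D g s.1).symm) : a ⟶ _) (GPt.a (app g s.1)),
    fun {a' a} ga s h' => by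
      rw [resA_comp (δ := ga ≫ castE (s.2.symm.trans (GPt.t_app D g s.1).symm)) rfl]
      have e : app g (Z.left.obj.map ga.hom.op s.1) = GPt.res ga.hom (app g s.1) := app_map g ga.hom s.1
      refine (GPt.resA_congr e _ (castE ((h'.symm.trans (GPt.t_app D g _).symm).trans (congrArg GPt.t e))) rfl).trans ?_
      exact resA_comp ((Category.id_comp _).trans (Category.comp_id _).symm) _⟩

/-- The morphism to the group attached to a family. -/
def ofFam (Z : Over D.U) (θ : famG D Z) : Z ⟶ gOver D :=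
  Over.homMk ⟨{
    app := fun W => TypeCat.ofHom fun s => (⟨Z.hom.hom.app W s, θ.1 ⟨W.unop, Z.hom.hom.app W s⟩ ⟨s, rfl⟩⟩ : GPt D W.unop)
    naturality := fun W W' m => by
      ext s
      change (⟨_, _⟩ : GPt D W'.unop) = GPt.res m.unop (⟨_, _⟩ : GPt D W.unop)
      symm
      refine GPt.res_eq (Q := ⟨Z.hom.hom.app W' (Z.left.obj.map m s), θ.1 ⟨W'.unop, _⟩ ⟨_, rfl⟩⟩)
        ⟨m.unop, (NatTrans.naturality_apply Z.hom.hom m s).symm⟩ rfl ?_
      exact (θ.2 (⟨m.unop, (NatTrans.naturality_apply Z.hom.hom m s).symm⟩ :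
        (⟨W'.unop, Z.hom.hom.app W' (Z.left.obj.map m s)⟩ : (AlgSt.ofSp D.U).obj) ⟶ ⟨W.unop, Z.hom.hom.app W s⟩)
        ⟨s, rfl⟩ rfl).symm }⟩ (by ext W s; rfl)

/-- The group is representable by the natural families. -/
def gRep : (famF D ⋙ forget _).RepresentableBy (gOver D) where
  homEquiv {Z} :=
    { toFun := toFam D Z
      invFun := ofFam D Z
      left_inv := fun g => over_ext fun W s => (GPt.ext' (P := GPt.mk _ _) (Q := app g s) (GPt.t_app D g s).symm (by
        change resA _ _ = resA _ _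
        rfl))
      right_inv := fun θ => Subtype.ext (funext fun a => funext fun s => famG_eval D θ s.1 s.2) }
  homEquiv_comp {Z Z'} f g := Subtype.ext (funext fun a => funext fun s => rfl)

/-- The group structure. -/
instance gGrp : GrpObj (gOver D) := GrpObj.ofRepresentableBy (gOver D) (famF D) (gRep D)

theorem app_one {W : Over S} (s : (𝟙_ (Over D.U)).left.obj.obj (op W)) :
    app (η[gOver D]) s = (⟨(𝟙_ (Over D.U)).hom.hom.app (op W) s, 1⟩ : GPt D W) := rfl

theorem app_mul {W : Over S} (s : (gOver D ⊗ gOver D).left.obj.obj (op W)) :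
    app (μ[gOver D]) s = (⟨(gOver D ⊗ gOver D).hom.hom.app (op W) s,
      resA (castE (GPt.t_app D (fst _ _) s).symm) (GPt.a (app (fst _ _) s)) *
        resA (castE (GPt.t_app D (snd _ _) s).symm) (GPt.a (app (snd _ _) s))⟩ : GPt D W) := rfl

end Group

section Torsor

variable {D : Data S} {z : D.𝒳.obj}

/-- An automorphism acting on a point. -/
def smul {W : Over S} (g : GPt D W) (P : Pt D z W) (e : P.t = g.t) : Pt D z W :=
  ⟨P.t, ((resA (castE e) g.a)⁻¹).hom.1 ≫ P.ψ⟩

theorem smul_congr {W : Over S} {g g' : GPt D W} {P P' : Pt D z W} (hg : g = g') (hP : P = P') (e : P.t = g.t)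
    (e' : P'.t = g'.t) : smul g P e = smul g' P' e' := by
  subst hg hP
  rfl

theorem k_smul {W : Over S} (g : GPt D W) (P : Pt D z W) (e : P.t = g.t) : (smul g P e).k = P.k :=
  lk_aut D _ _ (Stab.autO_map_p _)

theorem smul_res {W' W : Over S} (m : W' ⟶ W) (g : GPt D W) (P : Pt D z W) (e : P.t = g.t)
    (e' : (P.res m).t = (g.res m).t) : (smul g P e).res m = smul (g.res m) (P.res m) e' := by
  obtain ⟨t, a⟩ := g
  dsimp only at e
  subst e
  refine Pt.res_eq (mkE m P.t) rfl ?_
  change D.x.map (mkE m P.t) ≫ (resA (castE _) a)⁻¹.hom.1 ≫ P.ψ =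
    (resA (castE _) (resA (mkE m P.t) a))⁻¹.hom.1 ≫ D.x.map (mkE m P.t) ≫ P.ψ
  rw [resA_comp (δ := mkE m P.t) (Category.id_comp _), resA_one_hom rfl, ← map_inv, ← Category.assoc,
    ← resA_spec, Category.assoc]

theorem autO_mul_inv {y : D.𝒳.obj} (a b : Gerb.AutO y) : (a * b)⁻¹.hom.1 = a⁻¹.hom.1 ≫ b⁻¹.hom.1 := by
  rw [_root_.mul_inv_rev, Stab.autO_mul]

variable (z) in
/-- The torsor of an object, over the base. -/
abbrev pOver : Over D.U :=
  Over.mk (Y := ptSheaf z) ⟨{ app := fun W => TypeCat.ofHom (fun P : Pt D z W.unop => P.t), naturality := fun _ _ _ => rfl }⟩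

theorem act_t {W : Over S} (c : (gOver D ⊗ pOver z).left.obj.obj (op W)) :
    Pt.t (app (snd (gOver D) (pOver z)) c) = GPt.t (app (fst (gOver D) (pOver z)) c) :=
  (app_hom (snd (gOver D) (pOver z)) c).trans (app_hom (fst (gOver D) (pOver z)) c).symm

variable (z) in
/-- The action on the torsor of an object. -/
def actHom : gOver D ⊗ pOver z ⟶ pOver z :=
  Over.homMk ⟨{
    app := fun W => TypeCat.ofHom fun c => smul (app (fst (gOver D) (pOver z)) c) (app (snd _ _) c) (act_t c)
    naturality := fun W W' m => by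
      ext c
      change smul _ _ _ = Pt.res m.unop (smul _ _ _)
      rw [smul_res m.unop _ _ _ (congrArg (D.U.obj.map m.unop.op) (act_t c))]
      exact smul_congr (app_map (fst _ _) m.unop c) (app_map (snd _ _) m.unop c) _ _ }⟩
    (by
      ext W c
      exact app_hom (snd (gOver D) (pOver z)) c)

theorem app_actHom {W : Over S} (c : (gOver D ⊗ pOver z).left.obj.obj (op W)) :
    app (actHom z) c = smul (app (fst _ _) c) (app (snd _ _) c) (act_t c) := rfl

variable (z) in
/-- The action, with its axioms. -/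
def gAct : AlgSp.GAction (gOver D) (pOver z) where
  act := actHom z
  one_act := over_ext fun W c => by
    change app (actHom z) (app (η[gOver D] ▷ pOver z) c) = _
    have e1 : app (fst _ _) (app (η[gOver D] ▷ pOver z) c) = app η[gOver D] (app (fst _ _) c) :=
      app_congr (whiskerRight_fst (η[gOver D]) (pOver z)) c
    have e2 : app (snd _ _) (app (η[gOver D] ▷ pOver z) c) = app (snd _ _) c :=
      app_congr (whiskerRight_snd (η[gOver D]) (pOver z)) c
    rw [app_actHom, leftUnitor_hom]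
    refine (smul_congr (e1.trans (app_one D _)) e2 _
      ((app_hom (snd _ (pOver z)) c).trans (app_hom (fst _ _) c).symm)).trans ?_
    refine congrArg (Pt.mk _) ?_
    change (resA _ (1 : Gerb.AutO _))⁻¹.hom.1 ≫ _ = _
    rw [map_one, inv_one]
    exact Category.id_comp _
  mul_act := over_ext fun W c => by
    change app (actHom z) (app (μ[gOver D] ▷ pOver z) c) =
      app (actHom z) (app (gOver D ◁ actHom z) (app (α_ _ _ _).hom c))
    let c' := app (α_ (gOver D) (gOver D) (pOver z)).hom c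
    let g₁ : GPt D W := app (fst _ _) (app (fst (gOver D ⊗ gOver D) (pOver z)) c)
    let g₂ : GPt D W := app (snd _ _) (app (fst (gOver D ⊗ gOver D) (pOver z)) c)
    let P : Pt D z W := app (snd (gOver D ⊗ gOver D) (pOver z)) c
    have h₁ : P.t = g₁.t := (app_hom (snd (gOver D ⊗ gOver D) (pOver z)) c).trans
      ((app_hom (fst (gOver D ⊗ gOver D) (pOver z)) c).symm.trans (app_hom (fst (gOver D) (gOver D)) _).symm)
    have h₂ : P.t = g₂.t := (app_hom (snd (gOver D ⊗ gOver D) (pOver z)) c).trans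
      ((app_hom (fst (gOver D ⊗ gOver D) (pOver z)) c).symm.trans (app_hom (snd (gOver D) (gOver D)) _).symm)
    have e1 : app (fst _ _) (app (μ[gOver D] ▷ pOver z) c) = app μ[gOver D] (app (fst _ _) c) :=
      app_congr (whiskerRight_fst (μ[gOver D]) (pOver z)) c
    have e2 : app (snd _ _) (app (μ[gOver D] ▷ pOver z) c) = P :=
      app_congr (whiskerRight_snd (μ[gOver D]) (pOver z)) c
    have e3 : app (fst _ _) (app (gOver D ◁ actHom z) c') = g₁ :=
      (app_congr (whiskerLeft_fst (gOver D) (actHom z)) c').trans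
        (app_congr (associator_hom_fst (gOver D) (gOver D) (pOver z)) c)
    have e4 : app (snd _ _) (app (gOver D ◁ actHom z) c') = smul g₂ P h₂ :=
      (app_congr (whiskerLeft_snd (gOver D) (actHom z)) c').trans (smul_congr
        (app_congr (associator_hom_snd_fst (gOver D) (gOver D) (pOver z)) c)
        (app_congr (associator_hom_snd_snd (gOver D) (gOver D) (pOver z)) c) _ _)
    rw [app_actHom, app_actHom]
    refine (smul_congr (e1.trans (app_mul D _)) e2 _
      ((app_hom (snd (gOver D ⊗ gOver D) (pOver z)) c).trans (app_hom (fst _ _) c).symm)).trans ?_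
    refine Eq.trans ?_ (smul_congr e3 e4 _ h₁).symm
    refine congrArg (Pt.mk _) ?_
    symm
    change (resA (castE h₁) g₁.a)⁻¹.hom.1 ≫ (resA (castE h₂) g₂.a)⁻¹.hom.1 ≫ P.ψ =
      (resA _ (resA _ g₁.a * resA _ g₂.a))⁻¹.hom.1 ≫ P.ψ
    rw [map_mul, resA_comp (δ := castE h₁) (Category.id_comp _), resA_comp (δ := castE h₂) (Category.id_comp _),
      autO_mul_inv, Category.assoc]

end Torsor

end Groth.Agent.StFib.Gerbe.Sect

end
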