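import Groth.Agent.StFib.Gerbe.SectBG
import Groth.Agent.StFib.SpTorsorStack

/-!
# The functor to the classifying stack of a section is an equivalence
-/

set_option autoImplicit false
set_option linter.unusedVariables false
set_option linter.unusedSectionVars false
set_option linter.style.haveILetI false
set_option backward.isDefEq.respectTransparency false
set_option backward.isDefEq.respectTransparency.types false

universe u

open CategoryTheory CategoryTheory.Limits AlgebraicGeometry Opposite FibCat MonoidalCategory CartesianMonoidalCategory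
open scoped MonObj

noncomputable section

namespace Groth.Agent.StFib.Gerbe.Sect

open Groth.Agent.StFib
open Groth.Agent.AlgSp (yEquiv yEquiv_map yEquiv_comp hom_ext_yon)

variable {S : Scheme.{u}} (D : Data S)

local notation "K" => Scheme.fppfPrecoverage

/-- The section of the base under an object. -/
abbrev bz (z : D.𝒳.obj) : (AlgSp.yon S).obj (D.π.obj z).base ⟶ D.U := yEquiv.symm (D.π.obj z).sec

theorem bz_app (z : D.𝒳.obj) {W : Over S} (k : W ⟶ (D.π.obj z).base) :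
    (bz D z).hom.app (op W) ⟨k⟩ = D.U.obj.map k.op (D.π.obj z).sec := by
  have e := yEquiv_map k (bz D z)
  rw [Equiv.apply_symm_apply] at e
  refine Eq.trans ?_ e
  rw [yEquiv_comp]
  exact congrArg (fun m => (bz D z).hom.app (op W) (ULift.up m)) (Category.id_comp k).symm

/-- The projection of the torsor. -/
def piHom (z : D.𝒳.obj) : pOver z ⟶ Over.mk (bz D z) :=
  Over.homMk ⟨{ app := fun W => TypeCat.ofHom fun P : Pt D z W.unop => (⟨P.k⟩ : ULift (W.unop ⟶ (D.π.obj z).base))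
                naturality := fun W W' m => by
                  ext P
                  exact congrArg ULift.up (Pt.k_res m.unop P) }⟩ (by
    ext W P
    exact (bz_app D z P.k).trans P.t_eq)

theorem app_piHom {z : D.𝒳.obj} {W : Over S} (P : Pt D z W) : app (piHom D z) P = ULift.up P.k := rfl

theorem pt_eq_t {z : D.𝒳.obj} {W : Over S} {P Q : Pt D z W} (e : P.k = Q.k) : P.t = Q.t :=
  P.t_eq.symm.trans ((congrArg (fun k : W ⟶ _ => D.U.obj.map k.op (D.π.obj z).sec) e).trans Q.t_eq)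

theorem exists_unique_smul {z : D.𝒳.obj} {W : Over S} (P Q : Pt D z W) (e : P.k = Q.k) :
    ∃! g : GPt D W, ∃ h : Q.t = g.t, smul g Q h = P := by
  obtain ⟨t, ψ⟩ := P
  obtain ⟨t', ψ'⟩ := Q
  obtain rfl : t = t' := pt_eq_t D e
  obtain ⟨r, hr, hrc⟩ := grpd_exists_fac D.h ψ' ψ (𝟙 _) ((Category.id_comp _).trans (p_map_congr D e.symm))
  have hv : Vert r := ⟨rfl, hr.trans (eqToHom_refl _ _).symm⟩
  have : IsIso r := hv.isIso D.h
  obtain ⟨ρ, hρ⟩ := exists_autO (asIso r) hv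
  refine ⟨⟨t, ρ⁻¹⟩, ⟨rfl, congrArg (Pt.mk t) ?_⟩, ?_⟩
  · change (resA (castE rfl) ρ⁻¹)⁻¹.hom.1 ≫ ψ' = ψ
    rw [resA_one_hom rfl, inv_inv, hρ]
    exact hrc
  · rintro ⟨tg, a⟩ ⟨h, hh⟩
    dsimp only at h
    subst h
    have h' := Pt.ψ_congr hh (𝟙 _) rfl
    rw [CategoryTheory.Functor.map_id, Category.id_comp] at h'
    change ψ = (resA (castE rfl) a)⁻¹.hom.1 ≫ ψ' at h'
    rw [resA_one_hom rfl] at h'
    have : a⁻¹ = ρ := autO_ext ((grpd_cancel D.h ψ' (h'.symm.trans hrc.symm)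
      ((Stab.autO_map_p _).trans hr.symm)).trans hρ.symm)
    rw [← this, inv_inv]

theorem cart_act (z : D.𝒳.obj) :
    IsPullback (gAct z).act (snd (gOver D) (pOver z)) (piHom D z) (piHom D z) := by
  refine isPullback_of_sec (over_ext fun W c => congrArg ULift.up (k_smul _ _ _)) fun W P Q e => ?_
  have e' : Pt.k P = Pt.k Q := congrArg ULift.down e
  obtain ⟨g, ⟨h, hg⟩, hu⟩ := exists_unique_smul D P Q e'
  obtain ⟨c, hc₁, hc₂⟩ := exists_pair (Y := gOver D) (Z := pOver z) g Q h.symm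
  refine ⟨c, ⟨(smul_congr hc₁ hc₂ (act_t c) h).trans hg, hc₂⟩, fun c' hc' => pair_ext ?_ (hc'.2.trans hc₂.symm)⟩
  rw [hc₁]
  exact hu _ ⟨(congrArg Pt.t hc'.2).symm.trans (act_t c'),
    (smul_congr rfl hc'.2.symm _ (act_t c')).trans hc'.1⟩

variable (hloc : Gerb.LocSurjHom (AlgSp.J S) D.π)

include hloc in
theorem exists_local_pt (z : D.𝒳.obj) : ∃ R ∈ AlgSp.J S (D.π.obj z).base,
    ∀ ⦃V : Over S⦄ (f : V ⟶ (D.π.obj z).base), R f → ∃ P : Pt D z V, P.k = f := by
  let a := D.π.obj z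
  let b : D.π.obj (D.x.obj a) ⟶ D.π.obj z := eqToHom (πx_obj D a)
  have hb : Vert b := by
    have h1 : ∀ {a b : (AlgSt.ofSp D.U).obj} (e : a = b), Vert (eqToHom e) := by
      rintro a _ rfl
      exact Vert.id _
    exact h1 _
  haveI := hb.isHomLift (show (AlgSt.ofSp D.U).p.obj (D.π.obj (D.x.obj a)) = a.base from
    congrArg (fun c : (AlgSt.ofSp D.U).obj => c.base) (πx_obj D a))
  obtain ⟨R, hR, hl⟩ := GalCohAux.GerbBasic.locHom hloc (D.x.obj a) z b (U := a.base)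
  refine ⟨R, hR, fun V f hf => ?_⟩
  obtain ⟨x₀, φ, ψ, hφ, hψ, -⟩ := hl f hf
  obtain rfl : D.𝒳.p.obj x₀ = V := IsHomLift.domain_eq D.𝒳.p f φ
  obtain ⟨χ, hχ, -⟩ := grpd_exists_vert_fac D.h φ (D.x.map (mkE f a.sec)) (D.x.w_obj _) (by
    rw [IsHomLift.fac' D.𝒳.p f φ, w_map]
    simp [mkE])
  refine ⟨⟨_, χ.hom ≫ ψ⟩, ?_⟩
  have h1 := p_map D (χ.hom ≫ ψ)
  rw [Functor.map_comp, hχ.2, IsHomLift.fac' D.𝒳.p f ψ] at h1
  simp only [eqToHom_trans_assoc] at h1
  exact ((cancel_mono _).1 ((cancel_epi _).1 h1.symm))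

include hloc in
theorem loc_piHom (z : D.𝒳.obj) : AlgSt.HasSecLoc K (piHom D z).left := by
  rw [SpTors.hasSecLoc_iff]
  obtain ⟨R, hR, h⟩ := exists_local_pt D hloc z
  refine GrothendieckTopology.superset_covering _ ?_ hR
  intro V f hf
  obtain ⟨P, hP⟩ := h f hf
  refine ⟨(yEquiv (U := V) (F := ptSheaf z)).symm P, yEquiv.injective ?_⟩
  rw [yEquiv_comp]
  refine Eq.trans (congrArg (fun q => (piHom D z).left.hom.app (op V) q) (Equiv.apply_symm_apply _ _)) ?_
  refine Eq.trans (congrArg ULift.up hP) ?_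
  exact (congrArg ULift.up (Category.id_comp f).symm)

/-- The torsor of an object. -/
def objF (z : D.𝒳.obj) : AlgSt.SpQuotObj K (gOver D) (AlgSt.trivGAction (gOver D)) where
  base := (D.π.obj z).base
  b := bz D z
  P := pOver z
  act := gAct z
  π := piHom D z
  cart := cart_act D z
  loc := loc_piHom D hloc z
  φ := toUnit _
  eqv := toUnit_unique _ _

/-- The map of torsors under a morphism. -/
def topHom {z z' : D.𝒳.obj} (f : z ⟶ z') : pOver z ⟶ pOver z' :=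
  Over.homMk ⟨{ app := fun W => TypeCat.ofHom fun P : Pt D z W.unop => (⟨P.t, P.ψ ≫ f⟩ : Pt D z' W.unop)
                naturality := fun W W' m => by
                  ext P
                  exact congrArg (Pt.mk _) (Category.assoc _ _ _) }⟩ (by ext W P; rfl)

theorem k_top {z z' : D.𝒳.obj} (f : z ⟶ z') {W : Over S} (P : Pt D z W) :
    Pt.k (app (topHom D f) P) = P.k ≫ (D.π.map f).hom :=
  congrArg (fun m => m.hom) (lk_comp D P.ψ f)

theorem p_map_π {z z' : D.𝒳.obj} (f : z ⟶ z') :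
    D.𝒳.p.map f = eqToHom (show D.𝒳.p.obj z = (D.π.obj z).base from (D.π.w_obj z).symm) ≫ (D.π.map f).hom ≫
      eqToHom (show (D.π.obj z').base = D.𝒳.p.obj z' from D.π.w_obj z') := by
  rw [show (D.π.map f).hom = eqToHom (show (D.π.obj z).base = _ from D.π.w_obj z) ≫ D.𝒳.p.map f ≫
      eqToHom (show _ = (D.π.obj z').base from (D.π.w_obj z').symm) from w_map D.π f]
  simp

theorem cart_top {z z' : D.𝒳.obj} (f : z ⟶ z') (wb : (AlgSp.yon S).map (D.π.map f).hom ≫ bz D z' = bz D z) :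
    IsPullback (topHom D f) (piHom D z) (piHom D z') (AlgSt.bHom (D.π.map f).hom wb) := by
  refine isPullback_of_sec (over_ext fun W P => congrArg ULift.up (k_top D f P)) fun W Q kk e => ?_
  obtain ⟨k⟩ := kk
  have hk : Pt.k Q = k ≫ (D.π.map f).hom := congrArg ULift.down e
  obtain ⟨t, ψ'⟩ := Q
  obtain ⟨ψ, hψ, hψc⟩ := grpd_exists_fac D.h f ψ'
    (eqToHom (show D.𝒳.p.obj (D.x.obj ⟨W, t⟩) = W from D.x.w_obj _) ≫ k ≫
      eqToHom (show (D.π.obj z).base = D.𝒳.p.obj z from D.π.w_obj z)) (by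
    rw [p_map_π, p_map D ψ', show (lk D ψ').hom = _ from hk]
    simp)
  have hψk : (lk D ψ).hom = k :=
    (cancel_mono _).1 ((cancel_epi _).1 ((p_map D ψ).symm.trans hψ))
  refine ⟨(⟨t, ψ⟩ : Pt D z W), ⟨congrArg (Pt.mk t) hψc, congrArg ULift.up hψk⟩, fun c hc => ?_⟩
  obtain ⟨t₂, ψ₂⟩ := c
  obtain rfl : t₂ = t := congrArg Pt.t hc.1
  refine congrArg (Pt.mk t₂) (grpd_cancel D.h f ?_ ?_)
  · have h' := Pt.ψ_congr hc.1 (𝟙 _) rfl
    rw [CategoryTheory.Functor.map_id, Category.id_comp] at h'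
    exact h'.symm.trans hψc.symm
  · exact p_map_congr D ((congrArg ULift.down hc.2).trans hψk.symm)

/-- The map under a morphism. -/
def mapF {z z' : D.𝒳.obj} (f : z ⟶ z') : objF D hloc z ⟶ objF D hloc z' where
  base := (D.π.map f).hom
  wb := yEquiv.injective (by
    change yEquiv ((AlgSp.yon S).map (D.π.map f).hom ≫ bz D z') = yEquiv (bz D z)
    rw [yEquiv_map, Equiv.apply_symm_apply, Equiv.apply_symm_apply]
    exact (D.π.map f).map_sec)
  top := topHom D f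
  eqv := over_ext fun W c => by
    change app (topHom D f) (app (actHom z) c) = app (actHom z') (app (gOver D ◁ topHom D f) c)
    rw [app_actHom, app_actHom]
    refine Eq.trans ?_ (smul_congr (app_congr (whiskerLeft_fst (gOver D) (topHom D f)) c)
      (app_congr (whiskerLeft_snd (gOver D) (topHom D f)) c) _ (show Pt.t (app (topHom D f) (app (snd _ _) c)) = _ from act_t c)).symm
    exact congrArg (Pt.mk _) (Category.assoc _ _ _)
  cart := cart_top D f _
  wφ := toUnit_unique _ _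

/-- The functor to the classifying stack. -/
def toBG : D.𝒳 ⥤ᵇ AlgSt.SpBG K (gOver D) where
  toFunctor :=
    { obj := objF D hloc
      map := fun f => mapF D hloc f
      map_id := fun z => AlgSt.SpQuotObj.hom_ext (congrArg (fun m => m.hom) (D.π.map_id z))
        (over_ext fun W P => congrArg (Pt.mk _) (Category.comp_id _))
      map_comp := fun f g => AlgSt.SpQuotObj.hom_ext (congrArg (fun m => m.hom) (D.π.map_comp f g))
        (over_ext fun W P => congrArg (Pt.mk _) (Category.assoc _ _ _).symm) }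
  w := D.π.w

theorem toBG_toBase : BasedFunctor.comp (toBG D hloc)
    (W4stkstmgerbes.spQuotToBase K (gOver D) (AlgSt.trivGAction (gOver D))) = D.π := by
  refine QuotTriv.basedFunctor_ext _ _ fun z => ?_
  refine QuotTriv.eltObj_ext rfl ?_
  change D.U.obj.map (𝟙 _) (D.π.obj z).sec = (bz D z).hom.app (op (D.π.obj z).base) ⟨𝟙 _⟩
  rw [bz_app]
  rfl

theorem toBG_faithful : (toBG D hloc).toFunctor.Faithful := ⟨fun {z z'} f g e => by
  have hP := StkLib.isPrestack_of_isStack D.hst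
  have hb : (D.π.map f).hom = (D.π.map g).hom := congrArg (fun m => m.base) e
  have hp : D.𝒳.p.map f = D.𝒳.p.map g := by rw [p_map_π, p_map_π, hb]
  obtain ⟨R, hR, h⟩ := exists_local_pt D hloc z
  have hRz : R.pullback (eqToHom (D.π.w_obj z).symm : D.𝒳.p.obj z ⟶ (D.π.obj z).base) ∈ AlgSp.J S (D.𝒳.p.obj z) :=
    (AlgSp.J S).pullback_stable _ hR
  refine IsCls_ext hP hp _ hRz fun w ν hν => ?_
  obtain ⟨P, hPk⟩ := h _ hν
  obtain ⟨χ, hχ, hχc⟩ := grpd_exists_vert_fac D.h P.ψ ν (D.x.w_obj (⟨D.𝒳.p.obj w, P.t⟩ : (AlgSt.ofSp D.U).obj)).symm (by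
    rw [p_map, show (lk D P.ψ).hom = _ from hPk]
    simp)
  rw [← hχc, Category.assoc, Category.assoc]
  congr 1
  have h' := Pt.ψ_congr (congrArg (fun m : objF D hloc z ⟶ objF D hloc z' => app m.top P) e) (𝟙 _) rfl
  rw [CategoryTheory.Functor.map_id, Category.id_comp] at h'
  exact h'.symm⟩
where
  IsCls_ext : ∀ (hP : Stk.IsPrestack (AlgSp.J S) D.𝒳) {z z' : D.𝒳.obj} {f g : z ⟶ z'}
    (hp : D.𝒳.p.map f = D.𝒳.p.map g) (R : Sieve (D.𝒳.p.obj z)) (hR : R ∈ AlgSp.J S (D.𝒳.p.obj z))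
    (h : ∀ (w : D.𝒳.obj) (ν : w ⟶ z), R (D.𝒳.p.map ν) → ν ≫ f = ν ≫ g), f = g :=
    fun hP {z z' f g} hp R hR h => IsoCls.hom_ext_lift hP (D.𝒳.p.map f) (IsHomLift.map D.𝒳.p f)
      (hp ▸ IsHomLift.map D.𝒳.p g) R hR fun V m hm w ν hν => by
        obtain rfl : D.𝒳.p.obj w = V := IsHomLift.domain_eq D.𝒳.p m ν
        exact h w ν (by
          rw [IsHomLift.fac' D.𝒳.p m ν]
          simpa using hm)

section Full

variable {D}

/-- The image of a point under a map of torsors, on the same element. -/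
def img {z z' : D.𝒳.obj} (h : objF D hloc z ⟶ objF D hloc z') {W : Over S} (P : Pt D z W) :
    D.x.obj ⟨W, P.t⟩ ⟶ z' :=
  D.x.map (castE (app_hom h.top P).symm) ≫ Pt.ψ (app h.top P)

theorem k_img {z z' : D.𝒳.obj} (h : objF D hloc z ⟶ objF D hloc z') {W : Over S} (P : Pt D z W) :
    (lk D (img hloc h P)).hom = P.k ≫ h.base := by
  rw [img, lk_map]
  refine (Category.id_comp _).trans ?_
  exact congrArg ULift.down (app_congr h.cart.w P)

theorem img_congr {z z' : D.𝒳.obj} (h : objF D hloc z ⟶ objF D hloc z') {W : Over S} {R : Pt D z' W} {P : Pt D z W}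
    (e : app h.top P = R) (ga : (⟨W, P.t⟩ : (AlgSt.ofSp D.U).obj) ⟶ ⟨W, R.t⟩) (hga : ga.hom = 𝟙 W) :
    img hloc h P = D.x.map ga ≫ R.ψ := by
  subst e
  rw [show ga = castE (app_hom h.top P).symm from Stk.EltObj.hom_ext hga]
  rfl

theorem img_res {z z' : D.𝒳.obj} (h : objF D hloc z ⟶ objF D hloc z') {W' W : Over S} (m : W' ⟶ W) (P : Pt D z W) :
    img hloc h (P.res m) = D.x.map (mkE m P.t) ≫ img hloc h P := by
  refine (img_congr hloc h (app_map h.top m P)
    (castE (congrArg (D.U.obj.map m.op) (app_hom h.top P).symm)) rfl).trans ?_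
  change D.x.map _ ≫ D.x.map (mkE m _) ≫ _ = D.x.map (mkE m P.t) ≫ D.x.map _ ≫ _
  rw [← Functor.map_comp_assoc, ← Functor.map_comp_assoc]
  refine congrArg (fun q => D.x.map q ≫ Pt.ψ (app h.top P)) (Stk.EltObj.hom_ext ?_)
  exact (Category.id_comp m).trans (Category.comp_id m).symm

theorem img_smul {z z' : D.𝒳.obj} (h : objF D hloc z ⟶ objF D hloc z') {W : Over S} (g : GPt D W) (Q : Pt D z W)
    (e : Q.t = g.t) : img hloc h (smul g Q e) = (resA (castE e) g.a)⁻¹.hom.1 ≫ img hloc h Q := by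
  obtain ⟨c, hc₁, hc₂⟩ := exists_pair (Y := gOver D) (Z := pOver z) g Q e.symm
  have e' : app h.top (app (actHom z) c) = app (actHom z') (app (gOver D ◁ h.top) c) := app_congr h.eqv c
  rw [app_actHom, app_actHom] at e'
  have e1 : app (fst _ _) (app (gOver D ◁ h.top) c) = g :=
    (app_congr (whiskerLeft_fst (gOver D) h.top) c).trans hc₁
  have e2 : app (snd _ _) (app (gOver D ◁ h.top) c) = app h.top Q :=
    (app_congr (whiskerLeft_snd (gOver D) h.top) c).trans (congrArg (app h.top) hc₂)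
  have et : Pt.t (app h.top Q) = g.t := (app_hom h.top Q).trans e
  have e3 : app h.top (smul g Q e) = smul g (app h.top Q) et :=
    ((congrArg (app h.top) (smul_congr hc₁ hc₂ (act_t c) e)).symm.trans e').trans (smul_congr e1 e2 _ et)
  refine (img_congr hloc h e3 (castE (app_hom h.top Q).symm) rfl).trans ?_
  change D.x.map _ ≫ (resA (castE et) g.a)⁻¹.hom.1 ≫ _ = _ ≫ D.x.map _ ≫ _
  rw [show ∀ {a' a : (AlgSt.ofSp D.U).obj} (ga : a' ⟶ a) (α : Gerb.AutO (D.x.obj a)), (resA ga α)⁻¹ = resA ga α⁻¹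
    from fun ga α => (_root_.map_inv (resA ga) α).symm]
  rw [show ∀ {a' a : (AlgSt.ofSp D.U).obj} (ga : a' ⟶ a) (α : Gerb.AutO (D.x.obj a)), (resA ga α)⁻¹ = resA ga α⁻¹
    from fun ga α => (_root_.map_inv (resA ga) α).symm, ← Category.assoc, ← resA_spec, Category.assoc]
  exact congrArg (fun r : Gerb.AutO _ => r.hom.1 ≫ D.x.map (castE (app_hom h.top Q).symm) ≫ Pt.ψ (app h.top Q))
    (resA_comp (δ := castE e) (Category.id_comp _) _)

theorem img_indep_aux {z z' : D.𝒳.obj} (h : objF D hloc z ⟶ objF D hloc z') {W W' : Over S} (m : W' ⟶ W)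
    (Q : Pt D z W) (g : GPt D W') (he : (Q.res m).t = g.t) {P : Pt D z W'} (hg : smul g (Q.res m) he = P)
    {w : D.𝒳.obj} (χ : w ⟶ D.x.obj ⟨W', P.t⟩) (hχ : Vert χ) (χ' : w ⟶ D.x.obj ⟨W, Q.t⟩)
    (e : χ ≫ P.ψ = χ' ≫ Q.ψ)
    (hm : D.𝒳.p.map χ' = eqToHom (show D.𝒳.p.obj w = W' from hχ.base_eq.trans (D.x.w_obj _)) ≫ m ≫
      eqToHom (show W = D.𝒳.p.obj (D.x.obj ⟨W, Q.t⟩) from (D.x.w_obj (⟨W, Q.t⟩ : (AlgSt.ofSp D.U).obj)).symm)) :
    χ ≫ img hloc h P = χ' ≫ img hloc h Q := by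
  subst hg
  rw [img_smul, img_res]
  have key : χ ≫ (resA (castE he) g.a)⁻¹.hom.1 ≫ D.x.map (mkE m Q.t) = χ' := by
    apply grpd_cancel D.h Q.ψ
    · refine Eq.trans ?_ e
      rw [Category.assoc, Category.assoc]
      rfl
    · rw [Functor.map_comp, Functor.map_comp, hχ.2, Stab.autO_map_p, w_map, hm]
      simp [mkE]
  rw [← key, Category.assoc, Category.assoc]

theorem img_indep {z z' : D.𝒳.obj} (h : objF D hloc z ⟶ objF D hloc z') {W W' : Over S} (P : Pt D z W')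
    (Q : Pt D z W) {w : D.𝒳.obj} (χ : w ⟶ D.x.obj ⟨W', P.t⟩) (hχ : Vert χ) (χ' : w ⟶ D.x.obj ⟨W, Q.t⟩)
    (e : χ ≫ P.ψ = χ' ≫ Q.ψ) : χ ≫ img hloc h P = χ' ≫ img hloc h Q := by
  have e0 : D.𝒳.p.obj w = W' := hχ.base_eq.trans (D.x.w_obj _)
  let m : W' ⟶ W := eqToHom e0.symm ≫ D.𝒳.p.map χ' ≫ eqToHom (D.x.w_obj (⟨W, Q.t⟩ : (AlgSt.ofSp D.U).obj))
  have hk : P.k = (Q.res m).k := by
    rw [Pt.k_res]
    have h' := congrArg D.𝒳.p.map e
    rw [Functor.map_comp, Functor.map_comp, p_map, p_map, hχ.2] at h'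
    simp only [← Category.assoc, cancel_mono] at h'
    have h'' := congrArg (eqToHom e0.symm ≫ ·) h'
    simpa [Pt.k, m] using h''
  obtain ⟨g, ⟨he, hg⟩, -⟩ := exists_unique_smul D P (Q.res m) hk
  exact img_indep_aux hloc h m Q g he hg χ hχ χ' e (by simp [m])

end Full

theorem toBG_full : (toBG D hloc).toFunctor.Full := ⟨fun {z z'} h => by
  have hP := StkLib.isPrestack_of_isStack D.hst
  let e₀ : D.𝒳.p.obj z ⟶ (D.π.obj z).base := eqToHom (D.π.w_obj z).symm
  let g : D.𝒳.p.obj z ⟶ D.𝒳.p.obj z' :=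
    e₀ ≫ h.base ≫ eqToHom (show (D.π.obj z').base = D.𝒳.p.obj z' from D.π.w_obj z')
  let R : Sieve (D.𝒳.p.obj z) :=
    { arrows := fun W f => ∃ P : Pt D z W, P.k = f ≫ e₀
      downward_closed := fun {W W'} f ⟨P, hP⟩ m => ⟨P.res m, by rw [Pt.k_res, hP, Category.assoc]⟩ }
  have hR : R ∈ AlgSp.J S (D.𝒳.p.obj z) := by
    obtain ⟨R₀, hR₀, h₀⟩ := exists_local_pt D hloc z
    exact GrothendieckTopology.superset_covering _ (fun W f hf => h₀ _ hf) ((AlgSp.J S).pullback_stable e₀ hR₀)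
  have hfac : ∀ ⦃w : D.𝒳.obj⦄ (ν : w ⟶ z), R (D.𝒳.p.map ν ≫ eqToHom rfl) →
      ∃ (P : Pt D z (D.𝒳.p.obj w)) (χ : w ≅ D.x.obj ⟨D.𝒳.p.obj w, P.t⟩), Vert χ.hom ∧ χ.hom ≫ P.ψ = ν := by
    rintro w ν ⟨P, hPk⟩
    obtain ⟨χ, hχ, hc⟩ := grpd_exists_vert_fac D.h P.ψ ν
      (D.x.w_obj (⟨D.𝒳.p.obj w, P.t⟩ : (AlgSt.ofSp D.U).obj)).symm (by
      rw [p_map, show (lk D P.ψ).hom = _ from hPk]
      simp [e₀])
    exact ⟨P, χ, hχ, hc⟩
  choose P χ hχ hc using hfac
  obtain ⟨φ, hφl, hφ⟩ := IsoCls.exists_hom_of_sieve hP rfl rfl g R hR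
    (fun w ν hν => (χ ν hν).hom ≫ img hloc h (P ν hν))
    (fun w ν hν => by
      refine IsHomLift.of_fac' _ _ _ rfl rfl ?_
      have h2 := congrArg D.𝒳.p.map (hc ν hν)
      rw [Functor.map_comp, p_map] at h2
      rw [Functor.map_comp, p_map, k_img, ← h2]
      simp [g, e₀, Pt.k])
    (fun w w' j ν hν hjν => by
      rw [img_indep hloc h (P _ hjν) (P ν hν) _ (hχ _ hjν) (j ≫ (χ ν hν).hom)
        (by rw [hc, Category.assoc, hc]), Category.assoc])
  have hb : (D.π.map φ).hom = h.base := by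
    have h2 := p_map_π D φ
    rw [IsHomLift.fac' D.𝒳.p g φ] at h2
    simp only [eqToHom_refl, Category.id_comp, Category.comp_id, g, e₀] at h2
    exact ((cancel_mono _).1 ((cancel_epi _).1 h2)).symm
  refine ⟨φ, AlgSt.SpQuotObj.hom_ext hb (over_ext fun W (Q : Pt D z W) => ?_)⟩
  have hmem : R (D.𝒳.p.map Q.ψ ≫ eqToHom rfl) :=
    ⟨Q.res (eqToHom (D.x.w_obj (⟨W, Q.t⟩ : (AlgSt.ofSp D.U).obj))), by
      rw [Pt.k_res, p_map]
      simp [e₀, Pt.k]⟩
  refine (Pt.ext' (P := (⟨Q.t, Q.ψ ≫ φ⟩ : Pt D z' W)) (castE (app_hom h.top Q).symm) rfl ?_)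
  change img hloc h Q = Q.ψ ≫ φ
  rw [hφ Q.ψ hmem, img_indep hloc h _ Q _ (hχ _ hmem) (𝟙 _) (by rw [hc, Category.id_comp]), Category.id_comp]⟩

theorem toBG_isEquivOver : IsEquivOver (toBG D hloc) := by
  have := toBG_full D hloc
  have := toBG_faithful D hloc
  refine Groth.Agent.FibC.isEquivOver_of_fullyFaithful _ fun A => ?_
  refine StkLib.inImage_of_local D.hst (StkLib.isPrestack_of_isStack SpTors.isStack) _ A
    (SpTors.secSieve A.π.left) ((SpTors.hasSecLoc_iff _).1 A.loc) fun V f hf => ?_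
  obtain ⟨s, hs⟩ := hf
  let p : (AlgSt.ofSp A.P.left).obj := ⟨V, yEquiv s⟩
  have hpb : SpTors.ptBase A p = f := (AlgSp.yon S).map_injective (by
    rw [SpTors.ptBase_spec]
    refine Eq.trans ?_ hs
    exact congrArg (· ≫ A.π.left) (Equiv.symm_apply_apply _ s))
  let a : (AlgSt.ofSp D.U).obj := SpTors.ptX A p
  let z := D.x.obj a
  let B := objF D hloc z
  let e0 : Pt D z a.base := ⟨a.sec, 𝟙 _⟩
  have hk0 : e0.k = eqToHom (congrArg (fun c : (AlgSt.ofSp D.U).obj => c.base) (πx_obj D a).symm) := by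
    change (lk D (𝟙 (D.x.obj a))).hom = _
    rw [lk, CategoryTheory.Functor.map_id, Category.comp_id, elt_eqToHom_hom]
  let p' : (AlgSt.ofSp B.P.left).obj := ⟨a.base, e0⟩
  have hp'b : SpTors.ptBase B p' = e0.k := (AlgSp.yon S).map_injective (by
    rw [SpTors.ptBase_spec]
    apply yEquiv.injective
    refine Eq.trans (yEquiv_comp _ _) ?_
    refine (congrArg (fun m => B.π.left.hom.app _ m) (Equiv.apply_symm_apply _ p'.sec)).trans ?_
    exact congrArg ULift.up (Category.id_comp e0.k).symm)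
  let m₁ := SpTors.ptHom B p'
  haveI hiso : IsIso (SpTors.ptBase B p') := by
    rw [hp'b, hk0]
    infer_instance
  haveI : IsIso ((AlgSt.SpBG K (gOver D)).p.map m₁) := hiso
  haveI := grpd_isIso SpTors.isFibGrpd m₁
  have hs' : (SpTors.ptX B p').sec = (SpTors.ptX A p).sec := app_hom (toUnit (pOver z)) (show Pt D z a.base from e0)
  let i : SpTors.ptX B p' ≅ SpTors.ptX A p := eltIso rfl ((psh_map_id _ _).trans hs'.symm)
  refine ⟨z, CategoryTheory.inv m₁ ≫ (AlgSt.spQuotMap K (gOver D) (AlgSt.trivGAction (gOver D))).map i.hom ≫ SpTors.ptHom A p, ?_⟩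
  refine IsHomLift.of_fac' _ _ _ (congrArg (fun c : (AlgSt.ofSp D.U).obj => c.base) (πx_obj D a)) rfl ?_
  rw [Functor.map_comp, Functor.map_comp, Functor.map_inv]
  change CategoryTheory.inv (SpTors.ptBase B p') ≫ i.hom.hom ≫ SpTors.ptBase A p = _
  rw [IsIso.inv_comp_eq, hp'b, hk0, hpb]
  simp [i, eltIso]
  exact Category.id_comp _

end Groth.Agent.StFib.Gerbe.Sect

end
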