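import Groth.Agent.StFib.Gerbe.SectPts
import Groth.Prelude.Def_AlgSt6

/-!
# The group sheaf of automorphisms of a section
-/

set_option autoImplicit false
set_option linter.unusedVariables false
set_option linter.unusedSectionVars false
set_option linter.style.haveILetI false
set_option backward.isDefEq.respectTransparency false
set_option backward.isDefEq.respectTransparency.types false

universe u

open CategoryTheory CategoryTheory.Limits AlgebraicGeometry Opposite FibCat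

noncomputable section

namespace Groth.Agent.StFib.Gerbe.Sect

open Groth.Agent.StFib

variable {S : Scheme.{u}} {D : Data S}

theorem Pt.ψ_congr {z : D.𝒳.obj} {W : Over S} {P Q : Pt D z W} (e : P = Q)
    (δ : (⟨W, P.t⟩ : (AlgSt.ofSp D.U).obj) ⟶ ⟨W, Q.t⟩) (hδ : δ.hom = 𝟙 W) : D.x.map δ ≫ Q.ψ = P.ψ := by
  subst e
  rw [show δ = 𝟙 _ from Stk.EltObj.hom_ext hδ, CategoryTheory.Functor.map_id, Category.id_comp]

theorem Pt.res_ψ {z : D.𝒳.obj} {W' W : Over S} {g : W' ⟶ W} {P : Pt D z W} {Q : Pt D z W'} (e : P.res g = Q)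
    (γ : (⟨W', Q.t⟩ : (AlgSt.ofSp D.U).obj) ⟶ ⟨W, P.t⟩) (hγ : γ.hom = g) : D.x.map γ ≫ P.ψ = Q.ψ := by
  subst e
  rw [show γ = mkE g P.t from Stk.EltObj.hom_ext hγ]
  rfl

theorem exists_resA {a' a : (AlgSt.ofSp D.U).obj} (γ : a' ⟶ a) (α : Gerb.AutO (D.x.obj a)) :
    ∃! r : Gerb.AutO (D.x.obj a'), r.hom.1 ≫ D.x.map γ = D.x.map γ ≫ α.hom.1 := by
  obtain ⟨r, hr, hrc⟩ := grpd_exists_fac D.h (D.x.map γ) (D.x.map γ ≫ α.hom.1) (𝟙 (D.𝒳.p.obj (D.x.obj a'))) (by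
    rw [Category.id_comp, Functor.map_comp, Stab.autO_map_p]
    exact (Category.comp_id _).symm)
  have : IsIso r := (show Vert r from ⟨rfl, hr.trans (eqToHom_refl _ _).symm⟩).isIso D.h
  obtain ⟨ρ, hρ⟩ := exists_autO (asIso r) ⟨rfl, hr.trans (eqToHom_refl _ _).symm⟩
  exact ⟨ρ, (congrArg (· ≫ D.x.map γ) hρ).trans hrc, fun σ hσ => autO_ext
    ((grpd_cancel D.h (D.x.map γ) (hσ.trans hrc.symm) ((Stab.autO_map_p σ).trans hr.symm)).trans hρ.symm)⟩

/-- Restriction of an automorphism of the section. -/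
def resA₀ {a' a : (AlgSt.ofSp D.U).obj} (γ : a' ⟶ a) (α : Gerb.AutO (D.x.obj a)) : Gerb.AutO (D.x.obj a') :=
  (exists_resA γ α).exists.choose

theorem resA₀_spec {a' a : (AlgSt.ofSp D.U).obj} (γ : a' ⟶ a) (α : Gerb.AutO (D.x.obj a)) :
    (resA₀ γ α).hom.1 ≫ D.x.map γ = D.x.map γ ≫ α.hom.1 :=
  (exists_resA γ α).exists.choose_spec

theorem resA₀_eq {a' a : (AlgSt.ofSp D.U).obj} {γ : a' ⟶ a} {α : Gerb.AutO (D.x.obj a)} {r : Gerb.AutO (D.x.obj a')}
    (hr : r.hom.1 ≫ D.x.map γ = D.x.map γ ≫ α.hom.1) : resA₀ γ α = r :=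
  (exists_resA γ α).unique (resA₀_spec γ α) hr

/-- Restriction of automorphisms of the section, as a homomorphism. -/
def resA {a' a : (AlgSt.ofSp D.U).obj} (γ : a' ⟶ a) : Gerb.AutO (D.x.obj a) →* Gerb.AutO (D.x.obj a') :=
  MonoidHom.mk' (resA₀ γ) fun α β => resA₀_eq (by
    rw [Stab.autO_mul, Stab.autO_mul, Category.assoc, resA₀_spec, ← Category.assoc, resA₀_spec, Category.assoc])

theorem resA_spec {a' a : (AlgSt.ofSp D.U).obj} (γ : a' ⟶ a) (α : Gerb.AutO (D.x.obj a)) :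
    (resA γ α).hom.1 ≫ D.x.map γ = D.x.map γ ≫ α.hom.1 :=
  resA₀_spec γ α

theorem resA_comp {a'' a' a : (AlgSt.ofSp D.U).obj} {γ' : a'' ⟶ a'} {γ : a' ⟶ a} {δ : a'' ⟶ a}
    (h : γ'.hom ≫ γ.hom = δ.hom) (α : Gerb.AutO (D.x.obj a)) : resA γ' (resA γ α) = resA δ α := by
  obtain rfl : γ' ≫ γ = δ := Stk.EltObj.hom_ext h
  refine (resA₀_eq ?_).symm
  rw [Functor.map_comp, ← Category.assoc, resA_spec, Category.assoc, resA_spec, Category.assoc]

theorem resA_one_hom {a : (AlgSt.ofSp D.U).obj} {γ : a ⟶ a} (h : γ.hom = 𝟙 a.base) (α : Gerb.AutO (D.x.obj a)) :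
    resA γ α = α := by
  obtain rfl : γ = 𝟙 a := Stk.EltObj.hom_ext h
  exact resA₀_eq (by rw [CategoryTheory.Functor.map_id, Category.comp_id, Category.id_comp])

/-- A vertical morphism between elements with equal sections. -/
def castE {U : AlgSp.Sp S} {W : Over S} {t t' : U.obj.obj (op W)} (e : t = t') :
    (⟨W, t⟩ : (AlgSt.ofSp U).obj) ⟶ ⟨W, t'⟩ :=
  ⟨𝟙 W, (psh_map_id _ _).trans e.symm⟩

variable (D) in
/-- An automorphism of the section over a scheme. -/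
structure GPt (W : Over S) : Type (u + 1) where
  t : D.U.obj.obj (op W)
  a : Gerb.AutO (D.x.obj ⟨W, t⟩)

theorem GPt.ext' {W : Over S} {P Q : GPt D W} (e : P.t = Q.t) (h : resA (castE e) Q.a = P.a) : P = Q := by
  obtain ⟨t, a⟩ := P
  obtain ⟨t', a'⟩ := Q
  dsimp only at e
  subst e
  rw [resA_one_hom rfl] at h
  dsimp only at h
  subst h
  rfl

/-- Restriction of automorphisms over a scheme. -/
def GPt.res {W' W : Over S} (g : W' ⟶ W) (P : GPt D W) : GPt D W' :=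
  ⟨D.U.obj.map g.op P.t, resA (mkE g P.t) P.a⟩

theorem GPt.res_eq {W' W : Over S} {g : W' ⟶ W} {P : GPt D W} {Q : GPt D W'}
    (γ : (⟨W', Q.t⟩ : (AlgSt.ofSp D.U).obj) ⟶ ⟨W, P.t⟩) (hγ : γ.hom = g) (h : resA γ P.a = Q.a) : P.res g = Q := by
  subst hγ
  refine GPt.ext' γ.map_sec ?_
  change resA _ Q.a = resA (mkE γ.hom P.t) P.a
  rw [← h]
  exact resA_comp (Category.id_comp _) _

theorem GPt.resA_congr {W : Over S} {a : (AlgSt.ofSp D.U).obj} {P Q : GPt D W} (e : P = Q)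
    (γ : a ⟶ ⟨W, P.t⟩) (γ' : a ⟶ ⟨W, Q.t⟩) (hh : γ.hom = γ'.hom) : resA γ P.a = resA γ' Q.a := by
  subst e
  rw [show γ = γ' from Stk.EltObj.hom_ext hh]

variable (D) in
/-- The presheaf of automorphisms of the section. -/
def gPsh : (Over S)ᵒᵖ ⥤ Type (u + 1) where
  obj W := GPt D W.unop
  map g := TypeCat.ofHom (GPt.res g.unop)
  map_id W := by
    ext P
    exact GPt.res_eq (𝟙 _) rfl (resA_one_hom rfl _)
  map_comp {W W' W''} g g' := by
    ext P
    exact GPt.res_eq (g := g'.unop ≫ g.unop) (Q := (P.res g.unop).res g'.unop) (mkE g'.unop _ ≫ mkE g.unop P.t) rfl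
      (resA_comp rfl _).symm

/-- The points of the self fibre product of the section are automorphisms. -/
theorem fp_sec_eq (o : (fp D.x D.x).obj) : ∃ e : o.obj.fst ⟶ o.obj.snd, Vert e := by
  have hk := vert_fp_iso o
  refine ⟨eqToHom (πx_obj D _).symm ≫ D.π.map o.obj.iso.hom ≫ eqToHom (πx_obj D _), ?_⟩
  have h1 : ∀ {a b : (AlgSt.ofSp D.U).obj} (e : a = b), Vert (eqToHom e) := by
    rintro a _ rfl
    exact Vert.id _
  exact (h1 _).comp ((hk.map D.π).comp (h1 _))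

theorem gPsh_isSheaf : Presheaf.IsSheaf (AlgSp.J S) (gPsh D) := by
  rw [isSheaf_iff_isSheaf_of_type]
  intro V T hT fam hfam
  rw [Presieve.compatible_iff_sieveCompatible] at hfam
  have hU := ((isSheaf_iff_isSheaf_of_type _ _).1 D.U.property) T hT
  let famT : Presieve.FamilyOfElements D.U.obj T.arrows := fun W f hf => GPt.t (fam f hf)
  have hc : famT.Compatible := by
    rw [Presieve.compatible_iff_sieveCompatible]
    intro W W' f g hf
    exact congrArg GPt.t (hfam f g hf)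
  obtain ⟨t, ht, -⟩ := hU _ hc
  -- automorphisms are points over the object of the section
  let z : D.𝒳.obj := D.x.obj ⟨V, t⟩
  let famP : Presieve.FamilyOfElements (ptPsh (D := D) z) T.arrows := fun W f hf =>
    (⟨(fam f hf).t, (fam f hf).a.hom.1 ≫ D.x.map (⟨f, ht f hf⟩ : (⟨W, (fam f hf).t⟩ : (AlgSt.ofSp D.U).obj) ⟶ ⟨V, t⟩)⟩ :
      Pt D z W)
  have hcP : famP.Compatible := by
    rw [Presieve.compatible_iff_sieveCompatible]
    intro W W' f g hf
    have key : ∀ {P : GPt D W'} (e : P = GPt.res g (fam f hf)) (δ : (⟨W', P.t⟩ : (AlgSt.ofSp D.U).obj) ⟶ ⟨V, t⟩),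
        δ.hom = g ≫ f → Pt.res g (famP f hf) = ⟨P.t, P.a.hom.1 ≫ D.x.map δ⟩ := by
      rintro _ rfl δ hδ
      refine Pt.res_eq (P := famP f hf) (mkE g _) rfl ?_
      change D.x.map (mkE g _) ≫ (fam f hf).a.hom.1 ≫ D.x.map _ = (resA (mkE g _) (fam f hf).a).hom.1 ≫ D.x.map δ
      rw [← Category.assoc, ← resA_spec, Category.assoc, ← Functor.map_comp]
      refine congrArg (fun m => (resA (mkE g _) (fam f hf).a).hom.1 ≫ D.x.map m) ?_
      exact Stk.EltObj.hom_ext hδ.symm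
    exact (key (hfam f g hf) _ rfl).symm
  obtain ⟨⟨t₁, φ⟩, hφ, hφu⟩ := ((isSheaf_iff_isSheaf_of_type _ _).1 (isSheaf_ptPsh z)) T hT famP hcP
  obtain rfl : t₁ = t := (hU.isSeparatedFor).ext fun W f hf =>
    (congrArg Pt.t (hφ f hf)).trans (ht f hf).symm
  have hφv : D.𝒳.p.map φ = 𝟙 _ := by
    have h1 : Pt.k (⟨t₁, φ⟩ : Pt D z V) = Pt.k (⟨t₁, 𝟙 z⟩ : Pt D z V) := (AlgSp.yon S).map_injective
      (Glue.ext_of_cover hT fun W f hf => by
        rw [← Functor.map_comp, ← Functor.map_comp]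
        have e1 : f ≫ Pt.k (⟨t₁, φ⟩ : Pt D z V) = Pt.k (famP f hf) :=
          (Pt.k_res f _).symm.trans (congrArg Pt.k (hφ f hf))
        rw [e1]
        congr 1
        change (lk D ((fam f hf).a.hom.1 ≫ D.x.map _)).hom = f ≫ (lk D (𝟙 z)).hom
        rw [lk_aut D _ _ (Stab.autO_map_p _)]
        refine Eq.trans ?_ (congrArg (fun m => m.hom)
          (lk_map D (⟨f, ht f hf⟩ : (⟨W, (fam f hf).t⟩ : (AlgSt.ofSp D.U).obj) ⟶ ⟨V, t₁⟩) (𝟙 z)))
        rw [Category.comp_id])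
    exact (p_map_congr D h1).trans (D.𝒳.p.map_id z)
  have : IsIso φ := (show Vert φ from ⟨rfl, hφv.trans (eqToHom_refl _ _).symm⟩).isIso D.h
  obtain ⟨ρ, hρ⟩ := exists_autO (asIso φ) ⟨rfl, hφv.trans (eqToHom_refl _ _).symm⟩
  refine ⟨⟨t₁, ρ⟩, fun W f hf => ?_, fun y hy => ?_⟩
  · refine GPt.res_eq (P := ⟨t₁, ρ⟩) (⟨f, ht f hf⟩ : (⟨W, (fam f hf).t⟩ : (AlgSt.ofSp D.U).obj) ⟶ ⟨V, t₁⟩) rfl
      (resA₀_eq ?_)
    change _ = D.x.map _ ≫ ρ.hom.1
    rw [hρ]
    exact (Pt.res_ψ (hφ f hf) _ rfl).symm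
  · obtain ⟨yt, ya⟩ := y
    obtain rfl : yt = t₁ := (hU.isSeparatedFor).ext fun W f hf =>
      (congrArg GPt.t (hy f hf)).trans (ht f hf).symm
    have e : (⟨yt, ya.hom.1⟩ : Pt D z V) = ⟨yt, φ⟩ := hφu _ fun W f hf => by
      have : ∀ {P : GPt D W} (e : GPt.res f ⟨yt, ya⟩ = P)
          (δ : (⟨W, P.t⟩ : (AlgSt.ofSp D.U).obj) ⟶ ⟨V, yt⟩), δ.hom = f →
          Pt.res f (⟨yt, ya.hom.1⟩ : Pt D z V) = ⟨P.t, P.a.hom.1 ≫ D.x.map δ⟩ := by
        rintro _ rfl δ hδ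
        refine Pt.res_eq (mkE f yt) rfl ?_
        rw [show δ = mkE f yt from Stk.EltObj.hom_ext hδ]
        exact (resA_spec _ _).symm
      exact this (hy f hf) _ rfl
    have e' := Pt.ψ_congr e (𝟙 _) rfl
    rw [CategoryTheory.Functor.map_id, Category.id_comp] at e'
    exact congrArg (GPt.mk yt) (autO_ext (e'.symm.trans hρ.symm))

variable (D) in
/-- The sheaf of automorphisms of the section. -/
def gSheaf : AlgSp.Sp S := ⟨gPsh D, gPsh_isSheaf⟩

end Groth.Agent.StFib.Gerbe.Sect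

end
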