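import Groth.Agent.StFib.DiagLft
import Groth.Agent.StFib.AutRepChart
import Groth.Agent.StFib.InertiaProps
import Groth.Agent.StFib.LocQBasic
import Groth.Agent.StFib.DescBase
import Groth.Prelude.Def_StGerb2
import Groth.Agent.AlgSp.JshriekEquiv

/-!
# Points of the stabilizer of a chart
-/

set_option autoImplicit false
set_option linter.unusedVariables false
set_option linter.style.haveILetI false
set_option backward.isDefEq.respectTransparency false
set_option backward.isDefEq.respectTransparency.types false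

universe u

open CategoryTheory CategoryTheory.Limits AlgebraicGeometry Opposite FibCat

noncomputable section

namespace Groth.Agent.StFib.Stab

open Groth.Agent.StFib

variable {S : Scheme.{u}} {𝒳 : AlgSt.Cat S}

/-- The diagonal is locally of finite type. -/
theorem lft_diag_toSelf' {τ : Precoverage Scheme.{u}} (h : AlgSt.IsAlgStack τ 𝒳) :
    AlgSt.RepByAlgSpWith (AlgSp.LocP @LocallyOfFiniteType) (diag (toSelf 𝒳)) := by
  obtain ⟨U, x, hx, hxs⟩ := h.atlas
  obtain ⟨F, e, he⟩ := repByAlgSp_selfOver (S := S)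
  have hself : IsFibGrpd (selfOver (C := Over S)).p :=
    isFibGrpd_of_isEquivOver he (Stk.isFibGrpd_ofPsh _)
  let t := toSelf 𝒳
  have h1 : AlgSt.RepByAlgSpWith (AlgSp.LocP @Flat) x := repByAlgSpWith_mono hx
    fun F V m hm A B a b k ha hb e => have : Smooth k.left := hm a b k ha hb e; inferInstance
  have h2 : AlgSt.RepByAlgSpWith (AlgSp.LocP @LocallyOfFinitePresentation) x := repByAlgSpWith_mono hx
    fun F V m hm A B a b k ha hb e => have : Smooth k.left := hm a b k ha hb e; inferInstance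
  have h3 : AlgSt.RepByAlgSpWith (AlgSp.LocP @LocallyOfFiniteType) x := repByAlgSpWith_mono hx
    fun F V m hm A B a b k ha hb e => have : Smooth k.left := hm a b k ha hb e; inferInstance
  refine repByAlgSpWith_of_locally_lift good_lft.bc fppfLocal_lft h.diag
    (exists_locally_lift (isFibGrpd_fp (isFibGrpd_overCat U) (isFibGrpd_overCat U) hself _ _)
      (isFibGrpd_fp h.isStack.1 h.isStack.1 hself t t)
      (repByAlgSpWith_compPhi _ (good_locP Groth.Agent.AlgSpCov.standard_flat) h.isStack.1 h1)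
      (repByAlgSpWith_compPhi _ (good_locP Groth.Agent.AlgSpCov.standard_locallyOfFinitePresentation)
        h.isStack.1 h2)
      (repByAlgSpWith_compPhi _ good_surjective h.isStack.1 hxs)) ?_
  let u : fp x x ⥤ᵇ fp (BasedFunctor.comp x t) (BasedFunctor.comp x t) :=
    fpLift (fpFst x x) (fpSnd x x) (isoWhiskerRight (fpIso x x) t)
  have hcart := comp_cart x x t (isoWhiskerRight (fpIso x x) t) fun _ => rfl
  refine (repByAlgSpWith_iff_of_equiv _ _ (BasedFunctor.id _) hcart (isEquivOver_id _)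
    (f := fpFst (compPhi x x t) (diag t)) (f' := u) (Iso.refl _)).2 ?_
  refine repByAlgSpWith_cancel (Q := ⊤) good_lft.bc (fun A B C _ _ hC a b _ hab => locP_of_comp
      Groth.Agent.AlgSpCov.etaleLocal_locallyOfFiniteType
      (fun _ _ _ g k hgk => (have : LocallyOfFiniteType (g ≫ k) := hgk
        locallyOfFiniteType_of_comp g k : LocallyOfFiniteType g)) hC a b hab)
    (q := fpFst (BasedFunctor.comp x t) (BasedFunctor.comp x t))
    (repByAlgSpWith_fpFst _ _ (repByAlgSp1_iff_with_top.1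
      (repByAlgSp1_of_repByAlgSp (repByAlgSp_overCat U) repByAlgSp_selfOver _))) ?_
  exact repByAlgSpWith_fpFst _ x h3

variable {T : Over S} (x : overCat T ⥤ᵇ 𝒳) (h : IsFibGrpd 𝒳.p)

theorem autO_map_p {y : 𝒳.obj} (a : Gerb.AutO y) : 𝒳.p.map a.hom.1 = 𝟙 _ := by
  rw [show a.hom.1 = (autIso a).hom from rfl, (vert_autIso a).2]
  exact eqToHom_refl _ _

include h in
theorem exists_resAut {t' t : Over T} (g : t' ⟶ t) (a : Gerb.AutO (x.obj t)) :
    ∃! r : Gerb.AutO (x.obj t'), r.hom.1 ≫ x.map g = x.map g ≫ a.hom.1 := by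
  obtain ⟨r, hr, hrc⟩ := grpd_exists_fac h (x.map g) (x.map g ≫ a.hom.1) (𝟙 (𝒳.p.obj (x.obj t'))) (by
    rw [Category.id_comp, Functor.map_comp, autO_map_p]
    exact (Category.comp_id _).symm)
  obtain ⟨r', hr', hrc'⟩ := grpd_exists_fac h (x.map g) (x.map g ≫ a.inv.1) (𝟙 (𝒳.p.obj (x.obj t'))) (by
    rw [Category.id_comp, Functor.map_comp, show 𝒳.p.map a.inv.1 = 𝟙 _ from autO_map_p a⁻¹]
    exact (Category.comp_id _).symm)
  have ha : a.inv.1 ≫ a.hom.1 = 𝟙 _ := congrArg Subtype.val a.inv_hom_id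
  have ha' : a.hom.1 ≫ a.inv.1 = 𝟙 _ := congrArg Subtype.val a.hom_inv_id
  have e1 : r ≫ r' = 𝟙 _ := grpd_cancel h (x.map g)
    (by rw [Category.assoc, hrc', ← Category.assoc, hrc, Category.assoc, ha', Category.comp_id, Category.id_comp])
    (by rw [Functor.map_comp, hr, hr', Category.id_comp, CategoryTheory.Functor.map_id])
  have e2 : r' ≫ r = 𝟙 _ := grpd_cancel h (x.map g)
    (by rw [Category.assoc, hrc, ← Category.assoc, hrc', Category.assoc, ha, Category.comp_id, Category.id_comp])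
    (by rw [Functor.map_comp, hr, hr', Category.id_comp, CategoryTheory.Functor.map_id])
  obtain ⟨ρ, hρ⟩ := exists_autO (⟨r, r', e1, e2⟩ : x.obj t' ≅ x.obj t')
    ⟨rfl, by rw [hr, eqToHom_refl]⟩
  refine ⟨ρ, (congrArg (· ≫ x.map g) hρ).trans hrc, fun σ hσ => autO_ext ?_⟩
  rw [hρ]
  exact grpd_cancel h (x.map g) (hσ.trans hrc.symm) ((autO_map_p σ).trans hr.symm)

/-- The restriction of automorphisms. -/
def resAut {t' t : Over T} (g : t' ⟶ t) (a : Gerb.AutO (x.obj t)) : Gerb.AutO (x.obj t') :=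
  (exists_resAut x h g a).exists.choose

theorem resAut_spec {t' t : Over T} (g : t' ⟶ t) (a : Gerb.AutO (x.obj t)) :
    (resAut x h g a).hom.1 ≫ x.map g = x.map g ≫ a.hom.1 :=
  (exists_resAut x h g a).exists.choose_spec

theorem resAut_eq {t' t : Over T} (g : t' ⟶ t) {a : Gerb.AutO (x.obj t)} {r : Gerb.AutO (x.obj t')}
    (hr : r.hom.1 ≫ x.map g = x.map g ≫ a.hom.1) : resAut x h g a = r :=
  (exists_resAut x h g a).unique (resAut_spec x h g a) hr

theorem autO_mul {y : 𝒳.obj} (a b : Gerb.AutO y) : (a * b).hom.1 = b.hom.1 ≫ a.hom.1 := rfl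

/-- The group presheaf of automorphisms. -/
def autPsh : (Over T)ᵒᵖ ⥤ GrpCat.{u} where
  obj t := GrpCat.of (Gerb.AutO (x.obj t.unop))
  map {t t'} g := GrpCat.ofHom (MonoidHom.mk' (resAut x h g.unop) fun a b => resAut_eq x h _ (by
    rw [autO_mul, autO_mul, Category.assoc, resAut_spec, ← Category.assoc, resAut_spec, Category.assoc]))
  map_id t := GrpCat.ext fun a => resAut_eq x h _ (by
    simp only [unop_id]
    change a.hom.1 ≫ x.map (𝟙 _) = x.map (𝟙 _) ≫ a.hom.1
    rw [CategoryTheory.Functor.map_id, Category.comp_id, Category.id_comp])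
  map_comp {t t' t''} g g' := GrpCat.ext fun a => resAut_eq x h _ (by
    change (resAut x h g'.unop (resAut x h g.unop a)).hom.1 ≫ x.map (g'.unop ≫ g.unop) = x.map (g'.unop ≫ g.unop) ≫ _
    rw [Functor.map_comp, ← Category.assoc, resAut_spec, Category.assoc, resAut_spec, Category.assoc])

/-- The sections of a space over the base of the chart. -/
abbrev Sec {A : AlgSp.Sp S} (a : A ⟶ (AlgSp.yon S).obj T) (t : Over T) : Type (u + 1) :=
  {m : (AlgSp.yon S).obj t.left ⟶ A // m ≫ a = (AlgSp.yon S).map t.hom}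

/-- Restriction of sections. -/
def Sec.res {A : AlgSp.Sp S} {a : A ⟶ (AlgSp.yon S).obj T} {t' t : Over T} (g : t' ⟶ t) (m : Sec a t) : Sec a t' :=
  ⟨(AlgSp.yon S).map g.left ≫ m.1, by rw [Category.assoc, m.2, ← Functor.map_comp, Over.w g]⟩

theorem overT_ext {t t' : Over T} {g g' : t ⟶ t'} (e : 𝒳.p.map (x.map g) = 𝒳.p.map (x.map g')) : g = g' := by
  rw [w_map x g, w_map x g'] at e
  exact Over.OverMorphism.ext ((cancel_mono _).1 ((cancel_epi _).1 e))

local notation "I𝒳" => inertiaToBase (toSelf 𝒳)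

/-- The automorphism of an object of the base change of the inertia, transported along an identification of the
base. -/
def conj (o : (fp x I𝒳).obj) {t : Over T} (j : o.obj.fst ≅ t) : x.obj t ≅ x.obj t :=
  ((x.toFunctor.mapIso j).symm ≪≫ o.obj.iso) ≪≫ o.obj.snd.aut ≪≫
    ((x.toFunctor.mapIso j).symm ≪≫ o.obj.iso).symm

theorem vert_conj (o : (fp x I𝒳).obj) {t : Over T} (j : o.obj.fst ≅ t) (hj : Vert (𝒳 := overCat T) j.hom) :
    Vert (conj x o j).hom := by
  have h1 : Vert (o.obj.snd.aut).hom := ⟨rfl, (show 𝒳.p.map o.obj.snd.aut.hom = 𝟙 _ from o.obj.snd.map_aut).trans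
    (eqToHom_refl _ rfl).symm⟩
  have h2 : Vert ((x.toFunctor.mapIso j).symm ≪≫ o.obj.iso).hom := (hj.map x).inv.comp (vert_fp_iso o)
  exact h2.comp (h1.comp h2.inv)

theorem conj_nat {o' o : (fp x I𝒳).obj} (μ : o' ⟶ o) {t' t : Over T} (g : t' ⟶ t) (j' : o'.obj.fst ≅ t')
    (j : o.obj.fst ≅ t) (hg : μ.hom.fst ≫ j.hom = j'.hom ≫ g) :
    (conj x o' j').hom ≫ x.map g = x.map g ≫ (conj x o j).hom := by
  have hw : x.map μ.hom.fst ≫ o.obj.iso.hom = o'.obj.iso.hom ≫ μ.hom.snd.hom := μ.hom.w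
  have hc : o'.obj.snd.aut.hom ≫ μ.hom.snd.hom = μ.hom.snd.hom ≫ o.obj.snd.aut.hom := μ.hom.snd.comm
  have h1 : x.map g = x.map j'.inv ≫ x.map μ.hom.fst ≫ x.map j.hom := by
    rw [← Functor.map_comp, ← Functor.map_comp, hg, j'.inv_hom_id_assoc]
  have h2 : ((x.toFunctor.mapIso j').symm ≪≫ o'.obj.iso).hom ≫ μ.hom.snd.hom =
      x.map g ≫ ((x.toFunctor.mapIso j).symm ≪≫ o.obj.iso).hom := by
    change (x.map j'.inv ≫ o'.obj.iso.hom) ≫ _ = x.map g ≫ x.map j.inv ≫ o.obj.iso.hom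
    rw [Category.assoc, ← hw, h1, Category.assoc, Category.assoc, ← Functor.map_comp_assoc x.toFunctor j.hom,
      j.hom_inv_id, CategoryTheory.Functor.map_id, Category.id_comp]
  have h3 : ((x.toFunctor.mapIso j').symm ≪≫ o'.obj.iso).inv ≫ x.map g =
      μ.hom.snd.hom ≫ ((x.toFunctor.mapIso j).symm ≪≫ o.obj.iso).inv := by
    rw [Iso.inv_comp_eq, ← Category.assoc, h2, Category.assoc, Iso.hom_inv_id, Category.comp_id]
  simp only [conj, Iso.trans_hom, Iso.symm_hom, Category.assoc] at h2 h3 ⊢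
  rw [h3, ← Category.assoc o'.obj.snd.aut.hom, hc]
  simp only [Category.assoc]
  rw [← reassoc_of% h2]

/-- The automorphisms are the points of the base change of the inertia. -/
theorem exists_secEquiv {P : MorphismProperty (AlgSp.Sp S)}
    (hI : AlgSt.RepByAlgSpWith P I𝒳) :
    ∃ (A : AlgSp.Space S) (a : A.obj ⟶ (AlgSp.yon S).obj T), P a ∧
      ∃ σ : ∀ t : Over T, Sec a t ≃ Gerb.AutO (x.obj t),
        ∀ {t' t : Over T} (g : t' ⟶ t) (m : Sec a t), σ t' (Sec.res g m) = resAut x h g (σ t m) := by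
  obtain ⟨A, e, he, hP⟩ := hI T x
  let Φ := BasedFunctor.comp e (fpFst x I𝒳)
  let a := AlgSt.spMapOfOver Φ
  let el : ∀ {t : Over T}, Sec a t → (AlgSt.ofSp A.obj).obj := fun {t} m =>
    ⟨t.left, Groth.Agent.AlgSp.yEquiv m.1⟩
  have hbase : ∀ {t : Over T} (m : Sec a t), (e.obj (el m)).obj.fst.left = t.left := fun m => e.w_obj (el m)
  have hsec : ∀ {t : Over T} (m : Sec a t),
      (e.obj (el m)).obj.fst.hom = eqToHom (hbase m) ≫ t.hom := fun {t} m => by
    have h1 : AlgSt.secHom Φ (el m) = t.hom := by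
      have := congrArg (fun k : (AlgSp.yon S).obj t.left ⟶ (AlgSp.yon S).obj T =>
        ((k.hom.app (op t.left) ⟨𝟙 t.left⟩) : ULift (t.left ⟶ T)).down) m.2
      exact this.trans (Category.id_comp t.hom)
    rw [← h1]
    change _ = eqToHom (hbase m) ≫ eqToHom (e.w_obj (el m)).symm ≫ (e.obj (el m)).obj.fst.hom
    exact ((eqToHom_trans_assoc _ _ _).trans (Category.id_comp _)).symm
  let j : ∀ {t : Over T} (m : Sec a t), (e.obj (el m)).obj.fst ≅ t := fun {t} m =>
    Over.isoMk (eqToIso (hbase m)) (hsec m).symm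
  have hj : ∀ {t : Over T} (m : Sec a t), Vert (𝒳 := overCat T) (j m).hom := fun m => ⟨hbase m, rfl⟩
  choose s hs using fun (t : Over T) (m : Sec a t) => exists_autO _ (vert_conj x (e.obj (el m)) (j m) (hj m))
  have hnat : ∀ {t' t : Over T} (g : t' ⟶ t) (m : Sec a t),
      s t' (Sec.res g m) = resAut x h g (s t m) := fun {t' t} g m => by
    refine (resAut_eq x h g ?_).symm
    rw [hs, hs]
    let ψ : el (Sec.res g m) ⟶ el m := ⟨g.left, (Groth.Agent.AlgSp.yEquiv_map g.left m.1).symm⟩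
    refine conj_nat x (e.map ψ) g _ _ (Over.OverMorphism.ext ?_)
    have h2 : (e.map ψ).hom.fst.left = eqToHom (hbase (Sec.res g m)) ≫ g.left ≫ eqToHom (hbase m).symm :=
      w_map e ψ
    change (e.map ψ).hom.fst.left ≫ eqToHom (hbase m) = eqToHom (hbase (Sec.res g m)) ≫ g.left
    rw [h2, Category.assoc, Category.assoc, eqToHom_trans, eqToHom_refl, Category.comp_id]
  refine ⟨A, a, hP, fun t => Equiv.ofBijective (s t) ⟨fun m₁ m₂ he' => ?_, fun b => ?_⟩, hnat⟩
  · have e1 : (conj x (e.obj (el m₁)) (j m₁)).hom = (conj x (e.obj (el m₂)) (j m₂)).hom :=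
      (hs t m₁).symm.trans ((congrArg (fun b => b.hom.1) he').trans (hs t m₂))
    let φ₁ := (x.toFunctor.mapIso (j m₁)).symm ≪≫ (e.obj (el m₁)).obj.iso
    let φ₂ := (x.toFunctor.mapIso (j m₂)).symm ≪≫ (e.obj (el m₂)).obj.iso
    have e2 : (e.obj (el m₁)).obj.snd.aut.hom ≫ φ₁.inv ≫ φ₂.hom =
        (φ₁.inv ≫ φ₂.hom) ≫ (e.obj (el m₂)).obj.snd.aut.hom := by
      have := congrArg (fun k => φ₁.inv ≫ k ≫ φ₂.hom) e1
      simpa [conj, φ₁, φ₂] using this
    let ν : (e.obj (el m₁)).obj.snd ⟶ (e.obj (el m₂)).obj.snd := ⟨φ₁.inv ≫ φ₂.hom, e2⟩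
    let μ : e.obj (el m₁) ⟶ e.obj (el m₂) := fpHom ((j m₁).hom ≫ (j m₂).inv) ν (by
      change x.map _ ≫ (e.obj (el m₂)).obj.iso.hom = (e.obj (el m₁)).obj.iso.hom ≫ φ₁.inv ≫ φ₂.hom
      simp [φ₁, φ₂])
    obtain ⟨ψ, hψ⟩ := (full_of_isEquivOver he).map_surjective μ
    have hψ₀ : ψ.hom = 𝟙 t.left := by
      have h2 : (e.map ψ).hom.fst.left = eqToHom (hbase m₁) ≫ ψ.hom ≫ eqToHom (hbase m₂).symm := w_map e ψ
      rw [hψ] at h2
      change eqToHom (hbase m₁) ≫ eqToHom (hbase m₂).symm = _ at h2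
      have := (cancel_epi _).1 h2
      rw [← cancel_mono (eqToHom (hbase m₂).symm)]
      exact (this.symm).trans (Category.id_comp _).symm
    have := ψ.map_sec
    rw [hψ₀] at this
    exact Subtype.ext (Groth.Agent.AlgSp.yEquiv.injective
      (this.symm.trans (FunctorToTypes.map_id_apply A.obj.obj _)))
  · let o : (fp x I𝒳).obj := fpMk t ⟨x.obj t, autIso b, toSelf_map_autIso b⟩ (Iso.refl _) (Vert.id _)
    obtain ⟨⟨zb, zs⟩, k, hk⟩ := exists_vert_iso_of_isEquivOver he o
    have hz : zb = t.left := (e.w_obj (⟨zb, zs⟩ : (AlgSt.ofSp A.obj).obj)).symm.trans hk.base_eq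
    subst hz
    obtain ⟨m₀, rfl⟩ := (Groth.Agent.AlgSp.yEquiv (F := A.obj)).surjective zs
    let z : (AlgSt.ofSp A.obj).obj := ⟨t.left, Groth.Agent.AlgSp.yEquiv m₀⟩
    have hfl : k.hom.hom.fst.left = eqToHom (e.w_obj z) := hk.2
    have hkey : AlgSt.secHom Φ z = t.hom := by
      change eqToHom (e.w_obj z).symm ≫ (e.obj z).obj.fst.hom = t.hom
      rw [← Over.w k.hom.hom.fst, hfl]
      exact (eqToHom_trans_assoc _ _ _).trans (Category.id_comp _)
    let m : Sec a t := ⟨m₀, Groth.Agent.AlgSp.yEquiv.injective (by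
      rw [Groth.Agent.AlgSp.yEquiv_comp]
      exact (congrArg ULift.up hkey).trans (congrArg ULift.up (Category.id_comp _).symm))⟩
    refine ⟨m, autO_ext ?_⟩
    rw [hs]
    have := conj_nat x k.hom (𝟙 t) (j m) (Iso.refl t) (Over.OverMorphism.ext (by
      change k.hom.hom.fst.left ≫ 𝟙 _ = eqToHom (hbase m) ≫ 𝟙 _
      rw [hfl]
      rfl))
    rw [CategoryTheory.Functor.map_id, Category.comp_id, Category.id_comp] at this
    refine this.trans ?_
    simp [conj, o, fpMk, autIso]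
    rfl

end Groth.Agent.StFib.Stab

end
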