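import Groth.Agent.StFib.Gerbe.Section
import Groth.Agent.StFib.Gerbe.StabPts
import Groth.Agent.IsoCls.GlueHom
import Groth.Agent.StFib.YonGlue

/-!
# Morphisms from a section of a gerbe over a space, and automorphisms of the section
-/

set_option autoImplicit false
set_option linter.unusedVariables false
set_option linter.unusedSectionVars false
set_option linter.style.haveILetI false
set_option backward.isDefEq.respectTransparency false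
set_option backward.isDefEq.respectTransparency.types false

universe u

open CategoryTheory CategoryTheory.Limits AlgebraicGeometry Opposite FibCat

noncomputable section

namespace Groth.Agent.StFib.Gerbe.Sect

open Groth.Agent.StFib

variable {S : Scheme.{u}}

theorem elt_eqToHom_hom {U : AlgSp.Sp S} {a b : (AlgSt.ofSp U).obj} (e : a = b) :
    (eqToHom e : a ⟶ b).hom = eqToHom (congrArg (fun c : (AlgSt.ofSp U).obj => c.base) e) := by
  subst e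
  rfl

theorem elt_comp_hom {U : AlgSp.Sp S} {a b c : (AlgSt.ofSp U).obj} (f : a ⟶ b) (g : b ⟶ c) :
    (f ≫ g).hom = f.hom ≫ g.hom := rfl

/-- A morphism of elements over a given morphism of schemes. -/
def mkE {U : AlgSp.Sp S} {W' W : Over S} (g : W' ⟶ W) (t : U.obj.obj (op W)) :
    (⟨W', U.obj.map g.op t⟩ : (AlgSt.ofSp U).obj) ⟶ ⟨W, t⟩ :=
  ⟨g, rfl⟩

/-- The data of a section of a functor to a space. -/
structure Data (S : Scheme.{u}) where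
  𝒳 : AlgSt.Cat S
  U : AlgSp.Sp S
  hst : Stk.IsStack (AlgSp.J S) 𝒳
  π : 𝒳 ⥤ᵇ AlgSt.ofSp U
  x : AlgSt.ofSp U ⥤ᵇ 𝒳
  hx : BasedFunctor.comp x π = BasedFunctor.id (AlgSt.ofSp U)

variable (D : Data S)

abbrev Data.h : IsFibGrpd D.𝒳.p := D.hst.1

theorem πx_obj (a : (AlgSt.ofSp D.U).obj) : D.π.obj (D.x.obj a) = a :=
  congrArg (fun F : AlgSt.ofSp D.U ⥤ᵇ AlgSt.ofSp D.U => F.obj a) D.hx

theorem πx_map {a' a : (AlgSt.ofSp D.U).obj} (γ : a' ⟶ a) :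
    D.π.map (D.x.map γ) = eqToHom (πx_obj D a') ≫ γ ≫ eqToHom (πx_obj D a).symm :=
  Functor.congr_hom (congrArg (fun F : AlgSt.ofSp D.U ⥤ᵇ AlgSt.ofSp D.U => F.toFunctor) D.hx) γ

/-- The image of a morphism from the section. -/
def lk {a : (AlgSt.ofSp D.U).obj} {z : D.𝒳.obj} (ψ : D.x.obj a ⟶ z) : a ⟶ D.π.obj z :=
  eqToHom (πx_obj D a).symm ≫ D.π.map ψ

theorem lk_map {a' a : (AlgSt.ofSp D.U).obj} (γ : a' ⟶ a) {z : D.𝒳.obj} (ψ : D.x.obj a ⟶ z) :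
    lk D (D.x.map γ ≫ ψ) = γ ≫ lk D ψ := by
  rw [lk, lk, Functor.map_comp, πx_map]
  simp

theorem lk_x_map {a' a : (AlgSt.ofSp D.U).obj} (γ : a' ⟶ a) :
    lk D (D.x.map γ) = γ ≫ eqToHom (πx_obj D a).symm := by
  rw [lk, πx_map]
  simp

theorem lk_comp {a : (AlgSt.ofSp D.U).obj} {z z' : D.𝒳.obj} (ψ : D.x.obj a ⟶ z) (f : z ⟶ z') :
    lk D (ψ ≫ f) = lk D ψ ≫ D.π.map f := by
  rw [lk, lk, Functor.map_comp, Category.assoc]

theorem p_map {a : (AlgSt.ofSp D.U).obj} {z : D.𝒳.obj} (ψ : D.x.obj a ⟶ z) :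
    D.𝒳.p.map ψ = eqToHom (show D.𝒳.p.obj (D.x.obj a) = a.base from D.x.w_obj a) ≫ (lk D ψ).hom ≫
      eqToHom (show (D.π.obj z).base = D.𝒳.p.obj z from D.π.w_obj z) := by
  have h1 : (D.π.map ψ).hom = eqToHom (show (D.π.obj _).base = _ from D.π.w_obj _) ≫ D.𝒳.p.map ψ ≫
      eqToHom (show _ = (D.π.obj z).base from (D.π.w_obj z).symm) := w_map D.π ψ
  rw [lk, elt_comp_hom, elt_eqToHom_hom, h1]
  simp

theorem p_map_congr {a : (AlgSt.ofSp D.U).obj} {z : D.𝒳.obj} {ψ ψ' : D.x.obj a ⟶ z}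
    (e : (lk D ψ).hom = (lk D ψ').hom) : D.𝒳.p.map ψ = D.𝒳.p.map ψ' := by
  rw [p_map, p_map, e]

theorem autO_map_p (h : IsFibGrpd D.𝒳.p) {y : D.𝒳.obj} (a : Gerb.AutO y) : D.𝒳.p.map a.hom.1 = 𝟙 _ :=
  Stab.autO_map_p a

theorem lk_aut {a : (AlgSt.ofSp D.U).obj} {z : D.𝒳.obj} (ψ : D.x.obj a ⟶ z) (r : D.x.obj a ⟶ D.x.obj a)
    (hr : D.𝒳.p.map r = 𝟙 _) : (lk D (r ≫ ψ)).hom = (lk D ψ).hom := by
  have h : D.𝒳.p.map (r ≫ ψ) = D.𝒳.p.map ψ := by rw [Functor.map_comp, hr, Category.id_comp]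
  rw [p_map, p_map] at h
  exact (cancel_mono _).1 ((cancel_epi _).1 h)

theorem sec_eq {a : (AlgSt.ofSp D.U).obj} {z : D.𝒳.obj} (ψ : D.x.obj a ⟶ z) :
    D.U.obj.map (lk D ψ).hom.op (D.π.obj z).sec = a.sec :=
  (lk D ψ).map_sec

/-- A morphism from the section to an object. -/
structure Pt (z : D.𝒳.obj) (W : Over S) : Type (u + 1) where
  t : D.U.obj.obj (op W)
  ψ : D.x.obj ⟨W, t⟩ ⟶ z

variable {D} {z : D.𝒳.obj}

/-- The base morphism under a point. -/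
def Pt.k {W : Over S} (P : Pt D z W) : W ⟶ (D.π.obj z).base := (lk D P.ψ).hom

theorem Pt.t_eq {W : Over S} (P : Pt D z W) : D.U.obj.map P.k.op (D.π.obj z).sec = P.t := sec_eq D P.ψ

theorem Pt.ext' {W : Over S} {P Q : Pt D z W}
    (γ : (⟨W, P.t⟩ : (AlgSt.ofSp D.U).obj) ⟶ ⟨W, Q.t⟩) (hγ : γ.hom = 𝟙 W) (h : D.x.map γ ≫ Q.ψ = P.ψ) :
    P = Q := by
  obtain ⟨t, ψ⟩ := P
  obtain ⟨t', ψ'⟩ := Q
  obtain rfl : t = t' := by
    refine (γ.map_sec).symm.trans ?_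
    rw [hγ]
    exact psh_map_id _ _
  obtain rfl : γ = 𝟙 _ := Stk.EltObj.hom_ext hγ
  rw [CategoryTheory.Functor.map_id, Category.id_comp] at h
  subst h
  rfl

/-- Restriction of points. -/
def Pt.res {W' W : Over S} (g : W' ⟶ W) (P : Pt D z W) : Pt D z W' :=
  ⟨D.U.obj.map g.op P.t, D.x.map (mkE g P.t) ≫ P.ψ⟩

theorem Pt.k_res {W' W : Over S} (g : W' ⟶ W) (P : Pt D z W) : (P.res g).k = g ≫ P.k := by
  change (lk D (D.x.map (mkE g P.t) ≫ P.ψ)).hom = _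
  rw [lk_map]
  rfl

theorem Pt.res_eq {W' W : Over S} {g : W' ⟶ W} {P : Pt D z W} {Q : Pt D z W'}
    (γ : (⟨W', Q.t⟩ : (AlgSt.ofSp D.U).obj) ⟶ ⟨W, P.t⟩) (hγ : γ.hom = g) (h : D.x.map γ ≫ P.ψ = Q.ψ) :
    P.res g = Q := by
  let δ : (⟨W', D.U.obj.map g.op P.t⟩ : (AlgSt.ofSp D.U).obj) ⟶ ⟨W', Q.t⟩ := ⟨𝟙 W', by
    rw [← γ.map_sec, hγ]
    exact psh_map_id _ _⟩
  refine Pt.ext' δ rfl ?_
  have e : δ ≫ γ = mkE g P.t := Stk.EltObj.hom_ext ((Category.id_comp _).trans hγ)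
  change D.x.map δ ≫ Q.ψ = D.x.map (mkE g P.t) ≫ P.ψ
  rw [← e, Functor.map_comp, Category.assoc, h]

theorem Pt.res_id {W : Over S} (P : Pt D z W) : P.res (𝟙 W) = P :=
  Pt.res_eq (𝟙 _) rfl (by rw [CategoryTheory.Functor.map_id, Category.id_comp])

theorem Pt.res_res {W'' W' W : Over S} (g' : W'' ⟶ W') (g : W' ⟶ W) (P : Pt D z W) :
    (P.res g).res g' = P.res (g' ≫ g) :=
  (Pt.res_eq (g := g' ≫ g) (Q := (P.res g).res g') (mkE g' _ ≫ mkE g P.t) rfl (by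
    rw [Functor.map_comp, Category.assoc]
    rfl)).symm

variable (z) in
/-- The presheaf of points. -/
def ptPsh : (Over S)ᵒᵖ ⥤ Type (u + 1) where
  obj W := Pt D z W.unop
  map g := TypeCat.ofHom (Pt.res g.unop)
  map_id W := by
    ext P
    exact P.res_id
  map_comp g g' := by
    ext P
    exact (P.res_res g'.unop g.unop).symm

variable (z) in
theorem isSheaf_ptPsh : Presheaf.IsSheaf (AlgSp.J S) (ptPsh z) := by
  rw [isSheaf_iff_isSheaf_of_type]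
  intro V T hT fam hfam
  rw [Presieve.compatible_iff_sieveCompatible] at hfam
  have hP := StkLib.isPrestack_of_isStack D.hst
  have hc : ∀ {W W' : Over S} (g : W' ⟶ W) (f : W ⟶ V) (hf : T f),
      fam (g ≫ f) (T.downward_closed hf g) = Pt.res g (fam f hf) := fun g f hf => hfam f g hf
  obtain ⟨tm, htm⟩ := Glue.exists_glue hT (X := (AlgSp.yon S).obj (D.π.obj z).base)
    (fun W f hf => (AlgSp.yon S).map (Pt.k (fam f hf)))
    (fun W W' g f hf => by rw [← Functor.map_comp, hc g f hf, Pt.k_res])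
  obtain ⟨k, rfl⟩ := (AlgSp.yon S).map_surjective tm
  have hk : ∀ {W : Over S} (f : W ⟶ V) (hf : T f), f ≫ k = Pt.k (fam f hf) := fun f hf =>
    (AlgSp.yon S).map_injective ((Functor.map_comp _ _ _).trans (htm f hf))
  let t := D.U.obj.map k.op (D.π.obj z).sec
  have ht : ∀ {W : Over S} (f : W ⟶ V) (hf : T f), D.U.obj.map f.op t = (fam f hf).t := fun {W} f hf => by
    have e1 : (fam f hf).t = D.U.obj.map (f ≫ k).op (D.π.obj z).sec := by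
      rw [hk f hf]
      exact (Pt.t_eq _).symm
    rw [e1]
    exact (FunctorToTypes.map_comp_apply D.U.obj k.op f.op _).symm
  let γ : ∀ {W : Over S} (f : W ⟶ V) (hf : T f),
      ((⟨W, (fam f hf).t⟩ : (AlgSt.ofSp D.U).obj) ⟶ ⟨V, t⟩) := fun f hf => ⟨f, ht f hf⟩
  let ζ := D.x.obj (⟨V, t⟩ : (AlgSt.ofSp D.U).obj)
  have hζ : D.𝒳.p.obj ζ = V := D.x.w_obj _
  have hfac : ∀ ⦃B : D.𝒳.obj⦄ (m : B ⟶ ζ) (hR : T (D.𝒳.p.map m ≫ eqToHom hζ)),
      ∃ χ : B ≅ D.x.obj ⟨D.𝒳.p.obj B, (fam _ hR).t⟩, Vert χ.hom ∧ χ.hom ≫ D.x.map (γ _ hR) = m := fun B m hR =>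
    grpd_exists_vert_fac D.h (D.x.map (γ _ hR)) m
      (D.x.w_obj (⟨D.𝒳.p.obj B, (fam _ hR).t⟩ : (AlgSt.ofSp D.U).obj)).symm (by
      rw [w_map]
      simp [γ])
  choose χ hχ hχm using hfac
  have hv : ∀ ⦃B : D.𝒳.obj⦄ (m : B ⟶ ζ) (hR : T (D.𝒳.p.map m ≫ eqToHom hζ)) {W : Over S} (f : W ⟶ V) (hf : T f)
      (ψ : B ⟶ D.x.obj ⟨W, (fam f hf).t⟩), ψ ≫ D.x.map (γ f hf) = m →
      (χ m hR).hom ≫ (fam _ hR).ψ = ψ ≫ (fam f hf).ψ := by
    intro B m hR W f hf ψ hψ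
    let g : D.𝒳.p.obj B ⟶ W := D.𝒳.p.map ψ ≫ eqToHom (D.x.w_obj _)
    have hgf : g ≫ f = D.𝒳.p.map m ≫ eqToHom hζ := by
      rw [← hψ, Functor.map_comp, w_map]
      simp [g, γ]
    have e3 : ∀ {f₀ : D.𝒳.p.obj B ⟶ V} (e : g ≫ f = f₀) (h₀ : T f₀), fam f₀ h₀ = Pt.res g (fam f hf) := by
      rintro _ rfl h₀
      exact hc g f hf
    have e4 := e3 hgf hR
    let δ : (⟨D.𝒳.p.obj B, (fam _ hR).t⟩ : (AlgSt.ofSp D.U).obj) ⟶ ⟨W, (fam f hf).t⟩ :=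
      ⟨g, (congrArg Pt.t e4).symm⟩
    have e5 : D.x.map δ ≫ (fam f hf).ψ = (fam _ hR).ψ := by
      have : ∀ {P : Pt D z (D.𝒳.p.obj B)} (e : P = Pt.res g (fam f hf))
          (δ' : (⟨D.𝒳.p.obj B, P.t⟩ : (AlgSt.ofSp D.U).obj) ⟶ ⟨W, (fam f hf).t⟩), δ'.hom = g →
          D.x.map δ' ≫ (fam f hf).ψ = P.ψ := by
        rintro _ rfl δ' hδ'
        rw [show δ' = mkE g _ from Stk.EltObj.hom_ext hδ']
        rfl
      exact this e4 δ rfl
    have e6 : (χ m hR).hom ≫ D.x.map δ = ψ := by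
      apply grpd_cancel D.h (D.x.map (γ f hf))
      · rw [Category.assoc, ← Functor.map_comp,
          show δ ≫ γ f hf = γ _ hR from Stk.EltObj.hom_ext hgf, hχm, hψ]
      · rw [Functor.map_comp, (hχ m hR).2, w_map]
        simp [δ, g]
    rw [← e5, ← Category.assoc, e6]
  obtain ⟨φ, hφl, hφ⟩ := IsoCls.exists_hom_of_sieve hP hζ (D.π.w_obj z).symm k T hT
    (fun B m hR => (χ m hR).hom ≫ (fam _ hR).ψ)
    (fun B m hR => by
      refine IsHomLift.of_fac' _ _ _ rfl (D.π.w_obj z).symm ?_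
      rw [Functor.map_comp, (hχ m hR).2, p_map]
      simp only [eqToHom_trans_assoc, eqToHom_refl, Category.id_comp, Category.assoc]
      rw [reassoc_of% (hk _ hR)]
      rfl)
    (fun B B' j m' hR' hR => by
      rw [hv (j ≫ m') hR _ hR' (j ≫ (χ m' hR').hom) (by rw [Category.assoc, hχm]), Category.assoc])
  have hφk : (lk D φ).hom = k := by
    have h1 := p_map D φ
    rw [IsHomLift.fac' D.𝒳.p k φ] at h1
    exact ((cancel_mono _).1 ((cancel_epi _).1 h1)).symm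
  have hmem : ∀ {W : Over S} (f : W ⟶ V) (hf : T f), T (D.𝒳.p.map (D.x.map (γ f hf)) ≫ eqToHom hζ) :=
    fun f hf => by
    rw [w_map]
    simp only [Category.assoc, eqToHom_trans, eqToHom_refl]
    exact T.downward_closed (by simpa [γ] using hf) _
  refine ⟨⟨t, φ⟩, fun W f hf => ?_, fun y hy => ?_⟩
  · refine Pt.res_eq (P := ⟨t, φ⟩) (γ f hf) rfl ?_
    exact (hφ _ (hmem f hf)).trans ((hv _ (hmem f hf) f hf (𝟙 _) (Category.id_comp _)).trans (Category.id_comp _))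
  · have hyk : Pt.k y = k := (AlgSp.yon S).map_injective (Glue.ext_of_cover hT fun W f hf => by
      rw [← Functor.map_comp, ← Functor.map_comp, hk f hf, ← Pt.k_res]
      exact congrArg (fun P => (AlgSp.yon S).map (Pt.k P)) (hy f hf))
    obtain ⟨yt, yψ⟩ := y
    obtain rfl : yt = t := (Pt.t_eq (⟨yt, yψ⟩ : Pt D z V)).symm.trans
      (congrArg (fun m : V ⟶ _ => D.U.obj.map m.op (D.π.obj z).sec) hyk)
    obtain rfl : yψ = φ := by
      refine IsoCls.hom_ext_lift hP k ?_ hφl T hT fun W f hf B ν hν => ?_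
      · refine IsHomLift.of_fac' _ _ _ hζ (D.π.w_obj z).symm ?_
        rw [p_map]
        exact congrArg (fun m => eqToHom hζ ≫ m ≫ _) hyk
      · obtain rfl : D.𝒳.p.obj B = W := IsHomLift.domain_eq D.𝒳.p f ν
        have hf' : f = D.𝒳.p.map ν ≫ eqToHom hζ := by
          rw [IsHomLift.fac' D.𝒳.p f ν]
          simp
        subst hf'
        obtain ⟨χ₀, hχ₀, hχ₀m⟩ : ∃ c : B ⟶ D.x.obj ⟨D.𝒳.p.obj B, (fam _ hf).t⟩, Vert c ∧ c ≫ D.x.map (γ _ hf) = ν :=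
          ⟨_, hχ ν hf, hχm ν hf⟩
        rw [hφ ν hf, hv ν hf _ hf χ₀ hχ₀m]
        nth_rewrite 1 [← hχ₀m]
        rw [Category.assoc]
        congr 1
        have e := hy _ hf
        have : ∀ {P : Pt D z (D.𝒳.p.obj B)} (e : Pt.res (D.𝒳.p.map ν ≫ eqToHom hζ) ⟨t, yψ⟩ = P)
            (δ : (⟨D.𝒳.p.obj B, P.t⟩ : (AlgSt.ofSp D.U).obj) ⟶ ⟨V, t⟩), δ.hom = D.𝒳.p.map ν ≫ eqToHom hζ →
            D.x.map δ ≫ yψ = P.ψ := by
          rintro _ rfl δ hδ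
          rw [show δ = mkE _ t from Stk.EltObj.hom_ext hδ]
          rfl
        exact this e _ rfl
    rfl

variable (z) in
/-- The sheaf of points. -/
def ptSheaf : AlgSp.Sp S := ⟨ptPsh z, isSheaf_ptPsh z⟩

end Groth.Agent.StFib.Gerbe.Sect

end
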